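import Mathlib
import Cfsg.Prelude.Def_LieChev
import Cfsg.Agent.KFacts.RgdChevCoord
import Cfsg.Agent.H936.DSRgd
import Cfsg.Agent.Prune
set_option linter.all false
prune_inst 0x7f00000000000000000000000000000000000000000000000000000000000000000000000000000000000000000000000000000000000000000000000000000000000000000000000000000000000000003fffffffffffffffffffffffffffbeffbdffffffff
open scoped Cfsg.Agent.FastGrp

/-!
# Derived length of `Out` for the exceptional Chevalley groups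
-/

set_option autoImplicit false
set_option linter.unusedSectionVars false

namespace Cfsg.Agent.H936

open CoxeterSystem Cfsg.Agent.ChevalleyStructure.CoxeterGeom Cfsg.Agent.Tits.Roots Cfsg.Agent.Tits.Core
  Cfsg.Agent.Nodes.Reps Cfsg.Agent.Nodes.BNOf
  Cfsg.Agent.Nodes.OppDec Cfsg.Agent.Nodes.RGDChev
  Cfsg.Agent.KFacts.RgdAut Cfsg.Agent.KFacts.RgdDiag Cfsg.Agent.KFacts.RgdRigid
  Cfsg.Agent.KFacts.RgdField Cfsg.Agent.KFacts.RgdTau Cfsg.Agent.KFacts.RgdChevCoord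
open Cfsg.Lie Cfsg.Agent.ChevalleyStructure Cfsg.Agent.ChevalleyStructure.Elts
  Cfsg.Agent.ChevalleyStructure.NPerm Cfsg.Agent.ChevalleyStructure.CoxeterGeomTypes

universe u

/-- The symmetries of the diagram have order at most two. -/
def SymTwo {l : ℕ} (M : CoxeterMatrix (Fin l)) : Prop :=
  ∀ σ : Equiv.Perm (Fin l), (∀ i j, M (σ i) (σ j) = M i j) → σ ^ 2 = 1

theorem inv_step {l : ℕ} {M : CoxeterMatrix (Fin l)} {σ : Equiv.Perm (Fin l)}
    (hσ : ∀ i j, M (σ i) (σ j) = M i j) {g g' : Fin l → ℕ} (hg : ∀ i, g (σ i) = g i)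
    (h : ∀ i, g' i = ∑ j, if M i j = 2 ∨ M i j = 1 then 0 else g j) (i : Fin l) : g' (σ i) = g' i := by
  rw [h, h, ← Equiv.sum_comp σ]
  refine Finset.sum_congr rfl fun j _ => ?_
  rw [hσ, hg]

theorem symTwo_of {l : ℕ} {M : CoxeterMatrix (Fin l)} {g : Fin l → ℕ}
    (hg : ∀ σ : Equiv.Perm (Fin l), (∀ i j, M (σ i) (σ j) = M i j) → ∀ i, g (σ i) = g i)
    (hf : ∀ i j k, g i = g j → g j = g k → i = j ∨ j = k ∨ i = k) : SymTwo M := by
  intro σ hσ
  ext i
  rw [pow_two, Equiv.Perm.mul_apply, Equiv.Perm.one_apply]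
  congr 1
  rcases hf i (σ i) (σ (σ i)) (hg σ hσ i).symm (hg σ hσ (σ i)).symm with h | h | h
  · rw [← h, ← h]
  · have h1 := σ.injective h
    rw [← h1, ← h1]
  · exact h.symm

theorem symTwo_two (M : CoxeterMatrix (Fin 2)) : SymTwo M := by
  intro σ _
  have : ∀ σ : Equiv.Perm (Fin 2), σ ^ 2 = 1 := by decide
  exact this σ

theorem symTwo_F4 : SymTwo CoxeterMatrix.F₄ := by
  refine symTwo_of (g := ![1, 2, 2, 1]) (fun σ hσ => ?_) (by decide)
  exact inv_step hσ (g := fun _ => 1) (fun _ => rfl) (by decide)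

theorem symTwo_E6 : SymTwo CoxeterMatrix.E₆ := by
  refine symTwo_of (g := ![2, 3, 4, 5, 4, 2]) (fun σ hσ => ?_) (by decide)
  refine inv_step hσ (g := ![1, 1, 2, 3, 2, 1]) ?_ (by decide)
  exact inv_step hσ (g := fun _ => 1) (fun _ => rfl) (by decide)

theorem symTwo_E7 : SymTwo CoxeterMatrix.E₇ := by
  refine symTwo_of (g := ![2, 3, 4, 5, 5, 3, 2]) (fun σ hσ => ?_) (by decide)
  refine inv_step hσ (g := ![1, 1, 2, 3, 2, 2, 1]) ?_ (by decide)
  exact inv_step hσ (g := fun _ => 1) (fun _ => rfl) (by decide)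

theorem symTwo_E8 : SymTwo CoxeterMatrix.E₈ := by
  refine symTwo_of (g := ![2, 3, 4, 5, 5, 4, 3, 2]) (fun σ hσ => ?_) (by decide)
  refine inv_step hσ (g := ![1, 1, 2, 3, 2, 2, 2, 1]) ?_ (by decide)
  exact inv_step hσ (g := fun _ => 1) (fun _ => rfl) (by decide)

/-- The diagram symmetries commute. -/
theorem SymTwo.comm {l : ℕ} {M : CoxeterMatrix (Fin l)} (hM : SymTwo M) (σ τ : Equiv.Perm (Fin l))
    (hσ : ∀ i j, M (σ i) (σ j) = M i j) (hτ : ∀ i j, M (τ i) (τ j) = M i j) : σ * τ = τ * σ := by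
  have inv : ∀ ρ : Equiv.Perm (Fin l), ρ ^ 2 = 1 → ρ⁻¹ = ρ := fun ρ h =>
    inv_eq_of_mul_eq_one_left (by rw [← pow_two]; exact h)
  have h1 := inv _ (hM (σ * τ) fun i j => by
    rw [Equiv.Perm.mul_apply, Equiv.Perm.mul_apply, hσ, hτ])
  rw [← h1, mul_inv_rev, inv _ (hM σ hσ), inv _ (hM τ hτ)]

variable {D : ChevalleyDatum} {l : ℕ} {M : CoxeterMatrix (Fin l)}

theorem ds_group (hp : IsType D l M) (hM : SymTwo M) {K : Type u} [Field K] [Finite K] :
    DS 3 ↥(D.group K) := by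
  obtain ⟨p, hchar⟩ := CharP.exists K
  have : Fact p.Prime := ⟨CharP.char_is_prime K p⟩
  have hW := finite_W hp (M.toCoxeterSystem)
  have R := rgd (K := K) hp M.toCoxeterSystem p
  have hG1 : RGD.Sup (XX D l K) {x | IsRoot M.toCoxeterSystem hp.isCartan x} = ⊤ := G1_eq_top hp M.toCoxeterSystem
  have C := coords (K := K) hp M.toCoxeterSystem p
  exact ds_three_of_rgd R hG1 (K := fun _ => K) (fun i => C.coord _ (isRoot_sr _ _ i))
    (fun σ τ hσ hτ => hM.comm σ τ hσ hτ)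

theorem ds_chevG2 {G : Type*} [Group G] (h : IsoChevG2 G) : DS 3 G := by
  obtain ⟨K, _, _, -, ⟨e⟩⟩ := h
  exact DS.of_equiv e.symm (ds_group (D := chevG2) (l := 2) (M := CoxeterMatrix.G₂)
    (by simp [IsType, typeList]) (symTwo_two _))

theorem ds_f4 {G : Type*} [Group G] (h : IsoF4 G) : DS 3 G := by
  obtain ⟨K, _, _, ⟨e⟩⟩ := h
  exact DS.of_equiv e.symm (ds_group (D := chevF4) (l := 4) (M := CoxeterMatrix.F₄)
    (by simp [IsType, typeList]) symTwo_F4)

theorem ds_e6 {G : Type*} [Group G] (h : IsoChevE6 G) : DS 3 G := by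
  obtain ⟨K, _, _, ⟨e⟩⟩ := h
  exact DS.of_equiv e.symm (ds_group (D := chevE6) (l := 6) (M := CoxeterMatrix.E₆)
    (by simp [IsType, typeList]) symTwo_E6)

theorem ds_e7 {G : Type*} [Group G] (h : IsoE7 G) : DS 3 G := by
  obtain ⟨K, _, _, ⟨e⟩⟩ := h
  exact DS.of_equiv e.symm (ds_group (D := chevE7) (l := 7) (M := CoxeterMatrix.E₇)
    (by simp [IsType, typeList]) symTwo_E7)

theorem ds_e8 {G : Type*} [Group G] (h : IsoE8 G) : DS 3 G := by
  obtain ⟨K, _, _, ⟨e⟩⟩ := h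
  exact DS.of_equiv e.symm (ds_group (D := chevE8) (l := 8) (M := CoxeterMatrix.E₈)
    (by simp [IsType, typeList]) symTwo_E8)

end Cfsg.Agent.H936
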