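import Cfsg.Agent.KFacts.TwESix.NodeCoord
import Cfsg.Agent.Nodes.RGDTwNode
import Cfsg.Agent.H936.DSChev
import Cfsg.Agent.Prune
set_option linter.all false
prune_inst 0x7f00000000000000000000000000000000000000000000000000000000000000000000000000000000000000000000000000000000000000000000000000000000000000000000000000000000000000003fffffffffffffffffffffffffffbeffbdffffffff
open scoped Cfsg.Agent.FastGrp

/-!
# Derived length of `Out` for `²E₆(q)` and `³D₄(q)`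
-/

set_option autoImplicit false
set_option linter.unusedSectionVars false
set_option maxHeartbeats 400000

namespace Cfsg.Agent.H936

open CoxeterSystem Cfsg.Agent.ChevalleyStructure.CoxeterGeom Cfsg.Agent.Tits.Roots Cfsg.Agent.Tits.Core
  Cfsg.Agent.Tits.Exchange Cfsg.Agent.Nodes.Reps Cfsg.Agent.Nodes.BNOf Cfsg.Agent.Nodes.StabComb
  Cfsg.Agent.Nodes.Bruhat Cfsg.Agent.Nodes.OppDec Cfsg.Agent.Nodes.RGDTwGen Cfsg.Agent.Nodes.RGDChev
  Cfsg.Agent.Nodes.RGDFold Cfsg.Agent.Nodes.RGDFoldSL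
open Cfsg.Agent.KFacts.RgdOpp Cfsg.Agent.KFacts.RgdAut Cfsg.Agent.KFacts.RgdDiag Cfsg.Agent.KFacts.RgdRigid
  Cfsg.Agent.KFacts.RgdField Cfsg.Agent.KFacts.RgdTau Cfsg.Agent.KFacts.RgdNodes
open Cfsg.Lie Cfsg.Agent.ChevalleyStructure Cfsg.Agent.ChevalleyStructure.Elts
  Cfsg.Agent.ChevalleyStructure.TwistedU Cfsg.Agent.ChevalleyStructure.TwistedFix
  Cfsg.Agent.ChevalleyStructure.TwistedFixOrbit
open Cfsg.Agent.ChevalleyStructure.SL2Hom (up lo)
open Cfsg.Agent.KFacts.TwESix.NodeCoord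

universe u

section E6

open Cfsg.Agent.Nodes.RGDTwE6 Cfsg.Agent.Nodes.RGDTwNode.E6
open Cfsg.Agent.ChevalleyStructure.TwE6Basic (exists_frob)

theorem hf_E6 {K : Type u} [Field K] (φ : K →+* K) (i : Fin 4) :
    ∀ s ∈ rep i :: rest i, ∀ t : K, ((TwistedE6Sigma.eps s : ℤ) : K) * φ t = φ t := by
  intro s hs t
  rw [eps_one i s hs, Int.cast_one, one_mul]

theorem ds_twistedE6 {K : Type} [Field K] [Fintype K] {q : ℕ} (hq : IsPrimePow q)
    (hK : Fintype.card K = q ^ 2) : DS 3 ↥(twistedE6 K q) := by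
  obtain ⟨φ, hφ, hqq⟩ := exists_frob hq hK
  obtain ⟨p, hchar⟩ := CharP.exists K
  have : Fact p.Prime := ⟨CharP.char_is_prime K p⟩
  have R := Cfsg.Agent.Nodes.RGDTwE6.rgd CoxeterMatrix.F₄.toCoxeterSystem hφ hqq p
  have hG1 := Cfsg.Agent.Nodes.RGDTwE6.G1_eq_top CoxeterMatrix.F₄.toCoxeterSystem hφ hqq
  have hW : Finite CoxeterMatrix.F₄.Group := finite_W (hp := hp) CoxeterMatrix.F₄.toCoxeterSystem Cfsg.Agent.Nodes.RGDTwE6.isCartan foldData
  exact ds_three_of_rgd R hG1 (K := fun i => ↥(Fx φ ((rest i).length + 1)))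
    (fun i => coord (foldGrp hφ hqq) (nodeOK i) (hf_E6 φ i))
    (fun σ τ hσ hτ => symTwo_F4.comm σ τ hσ hτ)

theorem ds_2e6 {G : Type*} [Group G] (h : Iso2E6 G) : DS 3 G := by
  obtain ⟨K, _, _, q, hq, hK, ⟨e⟩⟩ := h
  exact DS.of_equiv e.symm (ds_twistedE6 hq hK)

end E6

section D4

open Cfsg.Agent.Nodes.RGDTwD4 Cfsg.Agent.Nodes.RGDTwNode.D4

theorem hf_D4 {K : Type u} [Field K] (φ : K →+* K) (i : Fin 2) :
    ∀ s ∈ rep i :: rest i, ∀ t : K, ((eps s : ℤ) : K) * φ t = φ t := by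
  intro s hs t
  rw [eps_one i s hs, Int.cast_one, one_mul]

theorem ds_twistedD4 {K : Type} [Field K] [Fintype K] {q : ℕ} (hq : IsPrimePow q)
    (hK : Fintype.card K = q ^ 3) : DS 3 ↥(twistedD4 K q) := by
  obtain ⟨φ, hφ⟩ := D4Fixed.exists_frob hq hK
  obtain ⟨p, hchar⟩ := CharP.exists K
  have : Fact p.Prime := ⟨CharP.char_is_prime K p⟩
  have R := Cfsg.Agent.Nodes.RGDTwD4.rgd CoxeterMatrix.G₂.toCoxeterSystem hK hφ p
  have hG1 := Cfsg.Agent.Nodes.RGDTwD4.G1_eq_top CoxeterMatrix.G₂.toCoxeterSystem hK hφ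
  have hW : Finite CoxeterMatrix.G₂.Group := finite_W (hp := hp) CoxeterMatrix.G₂.toCoxeterSystem Cfsg.Agent.Nodes.RGDTwD4.isCartan foldData
  exact ds_three_of_rgd R hG1 (K := fun i => ↥(Fx φ ((rest i).length + 1)))
    (fun i => coord (foldGrp hφ (D4Fixed.twisted_le_fix hK hφ)) (nodeOK i) (hf_D4 φ i))
    (fun σ τ hσ hτ => (symTwo_two _).comm σ τ hσ hτ)

theorem ds_3d4 {G : Type*} [Group G] (h : Iso3D4 G) : DS 3 G := by
  obtain ⟨K, _, _, q, hq, hK, ⟨e⟩⟩ := h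
  exact DS.of_equiv e.symm (ds_twistedD4 hq hK)

end D4

end Cfsg.Agent.H936
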