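import Mathlib
import Cfsg.Agent.DS.Cl.Grp
import Cfsg.Agent.DS.Gen.Split
import Cfsg.Agent.S0248
import Cfsg.Agent.PLocal.SL2Perfect
import Cfsg.Agent.Lib.ElemAbGL
import Cfsg.Agent.S0721
import Cfsg.Agent.S0723
import Cfsg.Agent.FastGrp
import Cfsg.Agent.Prune
set_option linter.all false

section
prune_inst 0x7f00000000000000000000000000000000000000000000000000000000000000000000000000000000000000000000000000000000000000000000000000000000000000000000000000000000000000003fffffffffffffffffffffffffffbeffbdffbfffff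

-- part: H936/PSNonreg
section
set_option linter.all false
open scoped Cfsg.Agent.FastGrp

-- part: H936/PSWreath
section
/-!
# Intransitive, imprimitive and product-action overgroups
-/

set_option autoImplicit false

open Equiv

namespace Cfsg.Agent.H936

/-- `V` is contained in a group `W` not containing the alternating group, with `W⁽⁶⁾` perfect. -/
def Good {Ω : Type*} [Fintype Ω] [DecidableEq Ω] (V : Subgroup (Perm Ω)) : Prop :=
  ∃ W, V ≤ W ∧ ¬ alternatingGroup Ω ≤ W ∧ PS 6 W

theorem Good.transport {Ω Ω' : Type*} [Fintype Ω] [DecidableEq Ω] [Fintype Ω'] [DecidableEq Ω'] (φ : Ω ≃ Ω')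
    {V : Subgroup (Perm Ω)} (h : Good (V.map φ.permCongrHom.toMonoidHom)) : Good V := by
  obtain ⟨W, h1, h2, h3⟩ := h
  refine ⟨W.comap φ.permCongrHom.toMonoidHom, Subgroup.map_le_iff_le_comap.1 h1, ?_, ?_⟩
  · intro hle
    apply h2
    intro g hg
    have h4 : φ.permCongrHom.symm g ∈ alternatingGroup Ω := by
      rw [Perm.mem_alternatingGroup] at hg ⊢
      rw [← hg]
      change Perm.sign (φ.symm.permCongr g) = _
      rw [Perm.sign_permCongr]
    have h5 := hle h4
    rw [Subgroup.mem_comap] at h5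
    have h6 : φ.permCongrHom.toMonoidHom (φ.permCongrHom.symm g) = g := φ.permCongrHom.apply_symm_apply g
    rwa [h6] at h5
  · have h4 : (W.comap φ.permCongrHom.toMonoidHom).map φ.permCongrHom.toMonoidHom = W :=
      Subgroup.map_comap_eq_self_of_surjective φ.permCongrHom.surjective W
    refine PS.of_equiv ?_ h3
    exact ((φ.permCongrHom.subgroupMap (W.comap φ.permCongrHom.toMonoidHom)).trans
      (MulEquiv.subgroupCongr h4)).symm

/-- The stabilizer of a relation. -/
def relStab {Ω : Type*} (R : Ω → Ω → Prop) : Subgroup (Perm Ω) where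
  carrier := {w | ∀ a b, R a b ↔ R (w a) (w b)}
  one_mem' := fun a b => Iff.rfl
  mul_mem' := fun {u v} hu hv a b => by
    rw [Perm.mul_apply, Perm.mul_apply, ← hu, ← hv]
  inv_mem' := fun {u} hu a b => by
    rw [hu (u⁻¹ a) (u⁻¹ b)]
    simp

section Wreath

variable {ι Δ : Type*}

/-- The base group in the imprimitive action. -/
def impBase (ι Δ : Type*) : (ι → Perm Δ) →* Perm (ι × Δ) where
  toFun a := 
    { toFun := fun x => (x.1, a x.1 x.2)
      invFun := fun x => (x.1, (a x.1)⁻¹ x.2)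
      left_inv := fun x => by simp
      right_inv := fun x => by simp }
  map_one' := rfl
  map_mul' _ _ := rfl

/-- The top group in the imprimitive action. -/
def impTop (ι Δ : Type*) : Perm ι →* Perm (ι × Δ) where
  toFun σ := 
    { toFun := fun x => (σ x.1, x.2)
      invFun := fun x => (σ⁻¹ x.1, x.2)
      left_inv := fun x => by simp
      right_inv := fun x => by simp }
  map_one' := rfl
  map_mul' _ _ := rfl

theorem impBase_apply (a : ι → Perm Δ) (x : ι × Δ) : impBase ι Δ a x = (x.1, a x.1 x.2) := rfl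
theorem impTop_apply (σ : Perm ι) (x : ι × Δ) : impTop ι Δ σ x = (σ x.1, x.2) := rfl

theorem ps_imp [Finite ι] [Finite Δ] : PS 6 ↥((impBase ι Δ).range ⊔ (impTop ι Δ).range) := by
  refine PS.of_two (a := 3) (b := 3) (impBase ι Δ) (impTop ι Δ) ?_ (PS.pi fun _ => ps_perm Δ) (ps_perm ι)
  intro a σ
  refine ⟨fun i => a (σ⁻¹ i), ?_⟩
  rw [← map_inv]
  apply Equiv.ext
  intro x
  rw [Perm.mul_apply, Perm.mul_apply, impTop_apply, impBase_apply, impTop_apply, impBase_apply]
  exact Prod.ext (σ.apply_symm_apply x.1) rfl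

theorem imp_le : (impBase ι Δ).range ⊔ (impTop ι Δ).range ≤ relStab fun x y : ι × Δ => x.1 = y.1 := by
  refine sup_le ?_ ?_
  · rintro _ ⟨a, rfl⟩ x y
    rfl
  · rintro _ ⟨σ, rfl⟩ x y
    exact (σ.injective.eq_iff).symm

theorem le_imp [Finite ι] [Finite Δ] : (relStab fun x y : ι × Δ => x.1 = y.1) ≤ (impBase ι Δ).range ⊔ (impTop ι Δ).range := by
  intro v hv
  rcases isEmpty_or_nonempty Δ with hΔ | ⟨⟨d₀⟩⟩
  · have : v = 1 := Equiv.ext fun x => hΔ.elim x.2
    rw [this]
    exact Subgroup.one_mem _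
  have h1 : Function.Injective fun i => (v (i, d₀)).1 := fun i j hij => (hv (i, d₀) (j, d₀)).2 hij
  let τ : Perm ι := Equiv.ofBijective _ (Finite.injective_iff_bijective.1 h1)
  have hτ : ∀ x, (v x).1 = τ x.1 := fun x => (hv x (x.1, d₀)).1 rfl
  set g := (impTop ι Δ τ)⁻¹ * v with hg
  have hg1 : ∀ x, (g x).1 = x.1 := by
    intro x
    rw [hg, ← map_inv, Perm.mul_apply, impTop_apply, hτ]
    simp
  have h2 : ∀ i, Function.Injective fun d => (g (i, d)).2 := by
    intro i d d' hd
    have h3 : g (i, d) = g (i, d') := Prod.ext ((hg1 (i, d)).trans (hg1 (i, d')).symm) hd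
    exact congrArg Prod.snd (g.injective h3)
  let a : ι → Perm Δ := fun i => Equiv.ofBijective _ (Finite.injective_iff_bijective.1 (h2 i))
  have h3 : g = impBase ι Δ a := by
    apply Equiv.ext
    intro x
    exact Prod.ext (hg1 x) rfl
  have h4 : v = impTop ι Δ τ * g := by rw [hg]; group
  rw [h4, h3]
  exact Subgroup.mul_mem _ (Subgroup.mem_sup_right ⟨τ, rfl⟩) (Subgroup.mem_sup_left ⟨a, rfl⟩)

/-- The base group in the product action. -/
def prodBase (ι Δ : Type*) : (ι → Perm Δ) →* Perm (ι → Δ) where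
  toFun a := 
    { toFun := fun x i => a i (x i)
      invFun := fun x i => (a i)⁻¹ (x i)
      left_inv := fun x => by simp
      right_inv := fun x => by simp }
  map_one' := rfl
  map_mul' _ _ := rfl

/-- The top group in the product action. -/
def prodTop (ι Δ : Type*) : Perm ι →* Perm (ι → Δ) where
  toFun σ := 
    { toFun := fun x i => x (σ⁻¹ i)
      invFun := fun x i => x (σ i)
      left_inv := fun x => by simp
      right_inv := fun x => by simp }
  map_one' := rfl
  map_mul' _ _ := by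
    ext x i
    simp [Perm.mul_apply]

theorem prodBase_apply (a : ι → Perm Δ) (x : ι → Δ) (i : ι) : prodBase ι Δ a x i = a i (x i) := rfl
theorem prodTop_apply (σ : Perm ι) (x : ι → Δ) (i : ι) : prodTop ι Δ σ x i = x (σ⁻¹ i) := rfl

theorem ps_prodAction [Finite ι] [Finite Δ] : PS 6 ↥((prodBase ι Δ).range ⊔ (prodTop ι Δ).range) := by
  refine PS.of_two (a := 3) (b := 3) (prodBase ι Δ) (prodTop ι Δ) ?_ (PS.pi fun _ => ps_perm Δ) (ps_perm ι)
  intro a σ
  refine ⟨fun i => a (σ⁻¹ i), ?_⟩
  rw [← map_inv]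
  apply Equiv.ext
  intro x
  funext i
  rw [Perm.mul_apply, Perm.mul_apply, prodTop_apply, prodBase_apply, prodTop_apply, prodBase_apply, inv_inv]
  exact congrArg (fun j => a (σ⁻¹ i) (x j)) (σ.apply_symm_apply i)

/-- Distance at most one. -/
def Near (x y : ι → Δ) : Prop := ∃ j, ∀ i, i ≠ j → x i = y i

theorem prod_le : (prodBase ι Δ).range ⊔ (prodTop ι Δ).range ≤ relStab (Near (ι := ι) (Δ := Δ)) := by
  refine sup_le ?_ ?_
  · rintro _ ⟨a, rfl⟩ x y
    refine exists_congr fun j => forall_congr' fun i => ?_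
    rw [prodBase_apply, prodBase_apply, (a i).injective.eq_iff]
  · rintro _ ⟨σ, rfl⟩ x y
    constructor
    · rintro ⟨j, hj⟩
      refine ⟨σ j, fun i hi => ?_⟩
      rw [prodTop_apply, prodTop_apply]
      refine hj _ ?_
      rintro rfl
      simp at hi
    · rintro ⟨j, hj⟩
      refine ⟨σ⁻¹ j, fun i hi => ?_⟩
      have h1 := hj (σ i) (by
        rintro rfl
        simp at hi)
      rw [prodTop_apply, prodTop_apply] at h1
      simpa using h1

theorem mem_prod [Finite ι] [Finite Δ] [Nontrivial Δ] {v : Perm (ι → Δ)}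
    (hv : ∀ j, ∃ j', ∀ x y, x j = y j ↔ (v x) j' = (v y) j') : v ∈ (prodBase ι Δ).range ⊔ (prodTop ι Δ).range := by
  classical
  choose τ₀ hτ₀ using hv
  obtain ⟨d₀, d₁, hd⟩ := exists_pair_ne Δ
  have h1 : Function.Injective τ₀ := by
    intro j k hjk
    by_contra hne
    have h2 := hτ₀ j (Function.update (fun _ => d₀) j d₁) (fun _ => d₀)
    have h3 := hτ₀ k (Function.update (fun _ => d₀) j d₁) (fun _ => d₀)
    rw [← hjk, ← h2, Function.update_self, Function.update_of_ne (Ne.symm hne)] at h3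
    exact hd (h3.1 rfl).symm
  let τ : Perm ι := Equiv.ofBijective _ (Finite.injective_iff_bijective.1 h1)
  have hτ : ∀ j x y, x j = y j ↔ (v x) (τ j) = (v y) (τ j) := hτ₀
  set g := (prodTop ι Δ τ)⁻¹ * v with hg
  have hg1 : ∀ x j, (g x) j = (v x) (τ j) := by
    intro x j
    rw [hg, ← map_inv, Perm.mul_apply, prodTop_apply, inv_inv]
  have h2 : ∀ x y j, x j = y j ↔ (g x) j = (g y) j := by
    intro x y j
    rw [hg1, hg1, hτ]
  have h3 : ∀ i, Function.Injective fun d => (g (fun _ => d)) i := by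
    intro i d d' hd
    exact (h2 (fun _ => d) (fun _ => d') i).2 hd
  let a : ι → Perm Δ := fun i => Equiv.ofBijective _ (Finite.injective_iff_bijective.1 (h3 i))
  have h4 : g = prodBase ι Δ a := by
    apply Equiv.ext
    intro x
    funext i
    exact (h2 x (fun _ => x i) i).1 rfl
  have h5 : v = prodTop ι Δ τ * g := by rw [hg]; group
  rw [h5, h4]
  exact Subgroup.mul_mem _ (Subgroup.mem_sup_right ⟨τ, rfl⟩) (Subgroup.mem_sup_left ⟨a, rfl⟩)

end Wreath

variable {Ω : Type*} [Fintype Ω] [DecidableEq Ω]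

/-- **Imprimitive groups.** -/
theorem good_of_imp (h4 : 4 ≤ Nat.card Ω) {ι Δ : Type*} [Finite ι] [Finite Δ] [Nontrivial ι] [Nontrivial Δ] (φ : Ω ≃ ι × Δ)
    {V : Subgroup (Perm Ω)} (hV : ∀ v ∈ V, ∀ x y, (φ x).1 = (φ y).1 ↔ (φ (v x)).1 = (φ (v y)).1) : Good V := by
  classical
  have := Fintype.ofFinite ι
  have := Fintype.ofFinite Δ
  apply Good.transport φ
  refine ⟨(impBase ι Δ).range ⊔ (impTop ι Δ).range, ?_, ?_, ps_imp⟩
  · refine le_trans ?_ le_imp
    rintro _ ⟨v, hv, rfl⟩ x y
    have := hV v hv (φ.symm x) (φ.symm y)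
    rwa [Equiv.apply_symm_apply, Equiv.apply_symm_apply] at this
  · obtain ⟨i, j, hij⟩ := exists_pair_ne ι
    obtain ⟨c, d, hcd⟩ := exists_pair_ne Δ
    have h5 : 4 ≤ Nat.card (ι × Δ) := by rwa [← Nat.card_congr φ]
    refine not_alt_le_of_rel h5 (fun x y : ι × Δ => x.1 = y.1) (x := (i, c)) (y := (i, d)) (z := (j, c)) ?_ ?_ ?_ rfl ?_
    · intro w hw a b hab
      exact (imp_le hw a b).1 hab
    · intro h
      exact hcd (congrArg Prod.snd h)
    · intro h
      exact hij (congrArg Prod.fst h)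
    · exact hij

/-- **Groups preserving a Cartesian decomposition.** -/
theorem good_of_cart (h4 : 4 ≤ Nat.card Ω) {ι Δ : Type*} [Finite ι] [Finite Δ] [Nontrivial ι] [Nontrivial Δ] (φ : Ω ≃ (ι → Δ))
    {V : Subgroup (Perm Ω)} (hV : ∀ v ∈ V, ∀ j, ∃ j', ∀ x y, φ x j = φ y j ↔ φ (v x) j' = φ (v y) j') : Good V := by
  classical
  have := Fintype.ofFinite ι
  have := Fintype.ofFinite Δ
  apply Good.transport φ
  refine ⟨(prodBase ι Δ).range ⊔ (prodTop ι Δ).range, ?_, ?_, ps_prodAction⟩
  · rintro _ ⟨v, hv, rfl⟩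
    apply mem_prod
    intro j
    obtain ⟨j', hj'⟩ := hV v hv j
    refine ⟨j', fun x y => ?_⟩
    have := hj' (φ.symm x) (φ.symm y)
    rwa [Equiv.apply_symm_apply, Equiv.apply_symm_apply] at this
  · obtain ⟨i, j, hij⟩ := exists_pair_ne ι
    obtain ⟨c, d, hcd⟩ := exists_pair_ne Δ
    have h5 : 4 ≤ Nat.card (ι → Δ) := by rwa [← Nat.card_congr φ]
    have hfun : ∀ {f g : ι → Δ} (k : ι), f k ≠ g k → f ≠ g := fun k h h' => h (congrFun h' k)
    refine not_alt_le_of_rel h5 Near (x := fun _ => c) (y := Function.update (fun _ => c) i d) (z := fun _ => d) ?_ ?_ ?_ ?_ ?_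
    · intro w hw a b hab
      exact (prod_le hw a b).1 hab
    · refine hfun i ?_
      rw [Function.update_self]
      exact hcd
    · exact hfun i hcd
    · exact ⟨i, fun k hk => by rw [Function.update_of_ne hk]⟩
    · rintro ⟨k, hk⟩
      by_cases hki : i = k
      · exact hcd (hk j (by rintro rfl; exact hij hki))
      · exact hcd (hk i hki)

/-- **Intransitive groups.** -/
theorem good_of_intrans (h4 : 4 ≤ Nat.card Ω) (p : Ω → Prop) {a b : Ω} (ha : p a) (hb : ¬ p b)
    {V : Subgroup (Perm Ω)} (hV : ∀ v ∈ V, ∀ x, p x ↔ p (v x)) : Good V := by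
  classical
  refine ⟨(Perm.subtypeCongrHom p).range, ?_, ?_, ?_⟩
  · intro v hv
    refine ⟨(v.subtypePerm fun x => (hV v hv x).symm, v.subtypePerm fun x => not_congr (hV v hv x).symm), ?_⟩
    ext x
    by_cases hx : p x
    · simp [Perm.subtypeCongrHom, Perm.subtypeCongr.left_apply, hx]
    · simp [Perm.subtypeCongrHom, Perm.subtypeCongr.right_apply, hx]
  · have h3 : ∃ u, u ∉ ({a, b} : Finset Ω) := by
      by_contra hcon
      push Not at hcon
      have h4' : Finset.univ ⊆ ({a, b} : Finset Ω) := fun u _ => hcon u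
      have h5 := Finset.card_le_card h4'
      have h6 : ({a, b} : Finset Ω).card ≤ 2 := Finset.card_le_two
      rw [Finset.card_univ, ← Nat.card_eq_fintype_card] at h5
      omega
    obtain ⟨u, hu⟩ := h3
    simp only [Finset.mem_insert, Finset.mem_singleton, not_or] at hu
    refine not_alt_le_of_rel h4 (fun _ y => p y) (x := u) (y := a) (z := b) ?_ hu.1 hu.2 ha hb
    rintro _ ⟨⟨f, g⟩, rfl⟩ x y hy
    change p (Perm.subtypeCongr f g y)
    rw [Perm.subtypeCongr.left_apply _ _ hy]
    exact (f ⟨y, hy⟩).2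
  · exact (PS.range _ (PS.prod (ps_perm _) (ps_perm _))).mono (by norm_num)

end Cfsg.Agent.H936
end

-- part: H936/PSPrim
section
/-!
# Non-primitive groups; normalizers of transitive groups
-/

set_option autoImplicit false

open Equiv

open scoped Pointwise

namespace Cfsg.Agent.H936

variable {Ω : Type*} [Fintype Ω] [DecidableEq Ω]

/-- A transitive group preserving a non-trivial equivalence relation. -/
theorem good_of_setoid (h4 : 4 ≤ Nat.card Ω) {V : Subgroup (Perm Ω)} (htr : MulAction.IsPretransitive V Ω)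
    (r : Setoid Ω) (hr : ∀ (v : V) x y, r x y → r (v • x) (v • y)) {x y z : Ω} (hxy : x ≠ y) (h1 : r x y)
    (h2 : ¬ r x z) : Good V := by
  classical
  have hex : ∀ q : Quotient r, ∃ g : V, g • x = q.out := fun q => MulAction.exists_smul_eq V x q.out
  choose g hg using hex
  have key : ∀ w : Ω, r x ((g (Quotient.mk r w))⁻¹ • w) := by
    intro w
    have h3 : r (Quotient.mk r w).out w := Quotient.mk_out w
    have h4 := hr (g (Quotient.mk r w))⁻¹ _ _ h3
    rwa [← hg, inv_smul_smul] at h4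
  have hcls : ∀ (q : Quotient r) (d : {y // r x y}), Quotient.mk r (g q • (d : Ω)) = q := by
    intro q d
    have h3 := hr (g q) _ _ d.2
    rw [hg] at h3
    have h4 : Quotient.mk r q.out = Quotient.mk r (g q • (d : Ω)) := Quotient.sound h3
    rw [← h4, Quotient.out_eq]
  let φ : Ω ≃ Quotient r × {y // r x y} :=
    { toFun := fun w => (Quotient.mk r w, ⟨(g (Quotient.mk r w))⁻¹ • w, key w⟩)
      invFun := fun p => g p.1 • (p.2 : Ω)
      left_inv := fun w => smul_inv_smul _ _
      right_inv := fun p => by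
        refine Prod.ext (hcls p.1 p.2) (Subtype.ext ?_)
        change (g (Quotient.mk r (g p.1 • (p.2 : Ω))))⁻¹ • (g p.1 • (p.2 : Ω)) = p.2
        rw [hcls, inv_smul_smul] }
  have hφ : ∀ a b, (φ a).1 = (φ b).1 ↔ r a b := fun a b => Quotient.eq (r := r)
  have : Nontrivial (Quotient r) := ⟨⟨Quotient.mk r x, Quotient.mk r z, fun h => h2 (Quotient.eq.1 h)⟩⟩
  have : Nontrivial {y // r x y} := ⟨⟨⟨x, r.refl x⟩, ⟨y, h1⟩, fun h => hxy (congrArg Subtype.val h)⟩⟩
  refine good_of_imp h4 φ ?_
  intro v hv a b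
  rw [hφ, hφ]
  constructor
  · exact hr ⟨v, hv⟩ a b
  · intro h
    have h3 := hr ⟨v, hv⟩⁻¹ _ _ h
    have e1 : ∀ c : Ω, (⟨v, hv⟩ : V)⁻¹ • (v c) = c := fun c => inv_smul_smul (⟨v, hv⟩ : V) c
    rwa [e1, e1] at h3

/-- **Groups that are not primitive.** -/
theorem good_of_not_prim (h4 : 4 ≤ Nat.card Ω) {V : Subgroup (Perm Ω)} (hV : ¬ MulAction.IsPreprimitive V Ω) :
    Good V := by
  by_cases htr : MulAction.IsPretransitive V Ω
  · have h1 : ∃ B : Set Ω, MulAction.IsBlock V B ∧ ¬ MulAction.IsTrivialBlock B := by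
      by_contra hcon
      push Not at hcon
      exact hV ⟨fun {B} hB => hcon B hB⟩
    obtain ⟨B, hB, hB'⟩ := h1
    unfold MulAction.IsTrivialBlock at hB'
    push Not at hB'
    obtain ⟨hB1, hB2⟩ := hB'
    obtain ⟨x, hx, y, hy, hxy⟩ := hB1
    obtain ⟨z, hz⟩ := (Set.ne_univ_iff_exists_notMem _).1 hB2
    let r : Setoid Ω :=
      { r := fun x y => ∀ g : V, x ∈ g • B ↔ y ∈ g • B
        iseqv := ⟨fun _ _ => Iff.rfl, fun h g => (h g).symm, fun h h' g => (h g).trans (h' g)⟩ }
    have hblk : ∀ (g : V) (u : Ω), u ∈ B → u ∈ g • B → g • B = B := by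
      intro g u hu hu'
      by_contra hne
      have h3 := hB (g₁ := g) (g₂ := 1) (by rwa [one_smul])
      rw [one_smul] at h3
      exact Set.disjoint_left.1 h3 hu' hu
    refine good_of_setoid h4 htr r ?_ (x := x) (y := y) (z := z) hxy ?_ ?_
    · intro v a b hab g
      have h5 := hab (v⁻¹ * g)
      have h6 : ∀ c : Ω, c ∈ (v⁻¹ * g) • B ↔ v • c ∈ g • B := by
        intro c
        rw [mul_smul, Set.mem_smul_set_iff_inv_smul_mem (a := v⁻¹), inv_inv]
      rwa [h6, h6] at h5
    · intro g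
      constructor
      · intro h
        rw [hblk g x hx h]
        exact hy
      · intro h
        rw [hblk g y hy h]
        exact hx
    · intro h
      have h5 := (h 1).1 (by rwa [one_smul])
      rw [one_smul] at h5
      exact hz h5
  · have h1 : ∃ a b : Ω, ¬ ∃ g : V, g • a = b := by
      by_contra hcon
      push Not at hcon
      exact htr ⟨hcon⟩
    obtain ⟨a, b, hab⟩ := h1
    refine good_of_intrans h4 (fun w => ∃ g : V, g • a = w) (a := a) (b := b) ⟨1, one_smul _ _⟩ hab ?_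
    intro v hv w
    constructor
    · rintro ⟨g, rfl⟩
      exact ⟨⟨v, hv⟩ * g, mul_smul _ _ _⟩
    · rintro ⟨g, hg⟩
      refine ⟨⟨v, hv⟩⁻¹ * g, ?_⟩
      rw [mul_smul, hg]
      exact inv_smul_smul (⟨v, hv⟩ : V) w

theorem not_alt_le_normalizer (h5 : 5 ≤ Nat.card Ω) {N : Subgroup (Perm Ω)} (htr : MulAction.IsPretransitive N Ω)
    (hN : ¬ alternatingGroup Ω ≤ N) : ¬ alternatingGroup Ω ≤ Subgroup.normalizer (N : Set (Perm Ω)) := by
  intro hle
  have := alternatingGroup.isSimpleGroup h5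
  have hn : (N.subgroupOf (alternatingGroup Ω)).Normal := by
    refine ⟨fun n hn g => ?_⟩
    rw [Subgroup.mem_subgroupOf] at hn ⊢
    exact ((Subgroup.mem_normalizer_iff.1 (hle g.2)) _).1 hn
  rcases hn.eq_bot_or_eq_top with h | h
  · -- `N` has order at most two
    have hinj : Function.Injective (Perm.sign.comp N.subtype) := by
      rw [← MonoidHom.ker_eq_bot_iff, eq_bot_iff]
      intro n hn
      rw [MonoidHom.mem_ker] at hn
      have h6 : (n : Perm Ω) ∈ alternatingGroup Ω := hn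
      have h7 : (⟨n, h6⟩ : alternatingGroup Ω) ∈ N.subgroupOf (alternatingGroup Ω) := n.2
      rw [h, Subgroup.mem_bot] at h7
      rw [Subgroup.mem_bot]
      have h8 : (n : Perm Ω) = 1 := congrArg Subtype.val h7
      exact Subtype.ext h8
    have h6 : Nat.card N ≤ 2 := by
      have := Nat.card_le_card_of_injective _ hinj
      simpa using this
    have hne : Nonempty Ω := by
      rw [← Finite.card_pos_iff]
      omega
    obtain ⟨a⟩ := hne
    have h7 : Function.Surjective (fun n : N => n • a) := fun b => MulAction.exists_smul_eq N a b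
    have h8 := Nat.card_le_card_of_surjective _ h7
    omega
  · rw [Subgroup.subgroupOf_eq_top] at h
    exact hN h

omit [DecidableEq Ω] in
/-- **Realising an automorphism** of a transitive group which stabilises the point stabiliser. -/
theorem exists_realize {N : Subgroup (Perm Ω)} (htr : MulAction.IsPretransitive N Ω) (a : Ω) (β : MulAut N)
    (hβ : ∀ n : N, (n : Perm Ω) a = a ↔ ((β n : N) : Perm Ω) a = a) :
    ∃ w : Perm Ω, w a = a ∧ ∀ n : N, w * n * w⁻¹ = β n := by
  have hex : ∀ x : Ω, ∃ n : N, (n : Perm Ω) a = x := fun x => MulAction.exists_smul_eq N a x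
  choose f hf using hex
  have key : ∀ n n' : N, (n : Perm Ω) a = (n' : Perm Ω) a ↔ ((β n : N) : Perm Ω) a = ((β n' : N) : Perm Ω) a := by
    intro n n'
    have h1 := hβ (n'⁻¹ * n)
    rw [map_mul, map_inv, Subgroup.coe_mul, Subgroup.coe_mul, Subgroup.coe_inv, Subgroup.coe_inv, Perm.mul_apply,
      Perm.mul_apply, Perm.inv_eq_iff_eq, Perm.inv_eq_iff_eq] at h1
    exact h1
  have hinj : Function.Injective fun x => ((β (f x) : N) : Perm Ω) a := by
    intro x y hxy
    have := (key (f x) (f y)).2 hxy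
    rwa [hf, hf] at this
  let w : Perm Ω := Equiv.ofBijective _ (Finite.injective_iff_bijective.1 hinj)
  have hw : ∀ n : N, w ((n : Perm Ω) a) = ((β n : N) : Perm Ω) a := by
    intro n
    exact (key _ _).1 (hf ((n : Perm Ω) a))
  refine ⟨w, ?_, ?_⟩
  · have := hw 1
    rwa [map_one, Subgroup.coe_one, Perm.one_apply] at this
  · intro n
    rw [mul_inv_eq_iff_eq_mul]
    apply Equiv.ext
    intro x
    obtain ⟨m, hm⟩ := MulAction.exists_smul_eq N a x
    have hm' : (m : Perm Ω) a = x := hm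
    rw [Perm.mul_apply, Perm.mul_apply, ← hm']
    have h1 := hw (n * m)
    rw [map_mul, Subgroup.coe_mul, Subgroup.coe_mul, Perm.mul_apply, Perm.mul_apply] at h1
    rw [h1, hw]

/-- **Regular normal subgroups.** -/
theorem good_of_regular (h5 : 5 ≤ Nat.card Ω) {N V : Subgroup (Perm Ω)} (htr : MulAction.IsPretransitive N Ω)
    (hN : ¬ alternatingGroup Ω ≤ N) (a : Ω) (hreg : ∀ n ∈ N, n a = a → n = 1)
    (hV : V ≤ Subgroup.normalizer (N : Set (Perm Ω))) {i j : ℕ} (hi : PS i N) (hj : PS j (MulAut N)) (hij : i + j ≤ 6) :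
    Good V := by
  have hb : Function.Bijective (fun n : N => (n : Perm Ω) a) := by
    refine ⟨?_, fun x => MulAction.exists_smul_eq N a x⟩
    intro n m hnm
    have h1 : ((n : Perm Ω)⁻¹ * (m : Perm Ω)) a = a := by
      rw [Perm.mul_apply]
      have h2 : (n : Perm Ω) a = (m : Perm Ω) a := hnm
      rw [← h2, Perm.inv_eq_iff_eq]
    have h2 := hreg _ (N.mul_mem (N.inv_mem n.2) m.2) h1
    rw [inv_mul_eq_one] at h2
    exact Subtype.ext h2
  let ψ : N ≃ Ω := Equiv.ofBijective _ hb
  have hψ : ∀ n : N, ψ n = (n : Perm Ω) a := fun _ => rfl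
  let f₂ : MulAut N →* Perm Ω := ψ.permCongrHom.toMonoidHom.comp (MulAut.toPerm N)
  have hf₂ : ∀ (β : MulAut N) (n : N), f₂ β ((n : Perm Ω) a) = ((β n : N) : Perm Ω) a := by
    intro β n
    change ψ (β (ψ.symm ((n : Perm Ω) a))) = _
    rw [← hψ, ψ.symm_apply_apply, hψ]
  have hmul : ∀ (β : MulAut N) (n : N), f₂ β * n = (β n : N) * f₂ β := by
    intro β n
    apply Equiv.ext
    intro x
    obtain ⟨m, rfl⟩ := ψ.surjective x
    rw [Perm.mul_apply, Perm.mul_apply, hψ, hf₂]
    have h1 := hf₂ β (n * m)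
    rw [map_mul, Subgroup.coe_mul, Subgroup.coe_mul, Perm.mul_apply, Perm.mul_apply] at h1
    exact h1
  have hconj : ∀ (β : MulAut N) (n : N), f₂ β * n * (f₂ β)⁻¹ = (β n : N) := by
    intro β n
    rw [hmul, mul_inv_cancel_right]
  have hps : PS (i + j) ↥(N.subtype.range ⊔ f₂.range) := by
    refine PS.of_two N.subtype f₂ ?_ hi hj
    intro n β
    exact ⟨β n, hconj β n⟩
  rw [Subgroup.range_subtype] at hps
  refine ⟨N ⊔ f₂.range, ?_, ?_, hps.mono hij⟩
  · intro v hv
    obtain ⟨n, hn⟩ := MulAction.exists_smul_eq N a (v a)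
    have hn' : (n : Perm Ω) a = v a := hn
    have hw : ((n : Perm Ω)⁻¹ * v) ∈ Subgroup.normalizer (N : Set (Perm Ω)) :=
      Subgroup.mul_mem _ (Subgroup.inv_mem _ (Subgroup.le_normalizer n.2)) (hV hv)
    set w := (n : Perm Ω)⁻¹ * v with hwdef
    have hwa : w a = a := by
      rw [hwdef, Perm.mul_apply, ← hn', Perm.inv_eq_iff_eq]
    have h1 : w = f₂ (N.normalizerMonoidHom ⟨w, hw⟩) := by
      apply Equiv.ext
      intro x
      obtain ⟨m, rfl⟩ := ψ.surjective x
      rw [hψ, hf₂]
      change w ((m : Perm Ω) a) = w ((m : Perm Ω) (w⁻¹ a))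
      have h2 : w⁻¹ a = a := by rw [Perm.inv_eq_iff_eq]; exact hwa.symm
      rw [h2]
    have h2 : v = (n : Perm Ω) * w := by rw [hwdef, mul_inv_cancel_left]
    rw [h2, h1]
    exact Subgroup.mul_mem _ (Subgroup.mem_sup_left n.2) (Subgroup.mem_sup_right ⟨_, rfl⟩)
  · intro hle
    refine not_alt_le_normalizer h5 htr hN (hle.trans ?_)
    refine sup_le Subgroup.le_normalizer ?_
    rintro _ ⟨β, rfl⟩
    rw [Subgroup.mem_normalizer_iff]
    intro n
    constructor
    · intro hn
      have h1 := hconj β ⟨n, hn⟩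
      exact h1 ▸ (β ⟨n, hn⟩).2
    · intro hn
      have h1 := hconj β⁻¹ ⟨_, hn⟩
      rw [map_inv] at h1
      have h2 : (f₂ β)⁻¹ * (f₂ β * n * (f₂ β)⁻¹) * ((f₂ β)⁻¹)⁻¹ = n := by group
      have h3 := h2.symm.trans h1
      exact h3 ▸ (β⁻¹ _).2

end Cfsg.Agent.H936
end

-- part: H936/PSNonreg
section
/-!
# Normalizers of powers of non-abelian simple groups
-/

set_option autoImplicit false

open Equiv

namespace Cfsg.Agent.H936

section Cj

variable {G : Type*} [Group G] {N : Subgroup G} {ι T : Type*} [Group T]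

/-- The action of the normalizer of `N` on `N ≅ Tⁱ`. -/
def cjHom (e : N ≃* (ι → T)) : ↥(Subgroup.normalizer (N : Set G)) →* MulAut (ι → T) :=
  (MulAut.congr e).toMonoidHom.comp N.normalizerMonoidHom

theorem cjHom_apply (e : N ≃* (ι → T)) (w : ↥(Subgroup.normalizer (N : Set G))) (n n' : N)
    (h : (w : G) * n * (w : G)⁻¹ = n') : cjHom e w (e n) = e n' := by
  change e (N.normalizerMonoidHom w (e.symm (e n))) = _
  rw [e.symm_apply_apply]
  congr 1
  exact Subtype.ext h

theorem cjHom_mem (e : N ≃* (ι → T)) (n : N) (hn : (n : G) ∈ Subgroup.normalizer (N : Set G)) :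
    cjHom e ⟨n, hn⟩ = MulAut.conj (e n) := by
  ext x i
  obtain ⟨m, rfl⟩ := e.surjective x
  rw [cjHom_apply e ⟨n, hn⟩ m (n * m * n⁻¹) rfl, MulAut.conj_apply, map_mul, map_mul, map_inv]

variable [IsSimpleGroup T] [Finite ι] (hT : ¬ IsMulCommutative T)

/-- The permutation of the factors. -/
noncomputable def fperm (e : N ≃* (ι → T)) : ↥(Subgroup.normalizer (N : Set G)) →* Perm ι :=
  (AutPow.perm hT).comp (cjHom e)

theorem fperm_mem (e : N ≃* (ι → T)) (n : N) (hn : (n : G) ∈ Subgroup.normalizer (N : Set G)) :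
    fperm hT e ⟨n, hn⟩ = 1 := by
  change AutPow.perm hT (cjHom e ⟨n, hn⟩) = 1
  rw [cjHom_mem, AutPow.perm_conj]

theorem fperm_one_iff (e : N ≃* (ι → T)) (w : ↥(Subgroup.normalizer (N : Set G))) (n n' : N)
    (h : (w : G) * n * (w : G)⁻¹ = n') (i : ι) : e n' (fperm hT e w i) = 1 ↔ e n i = 1 := by
  rw [← cjHom_apply e w n n' h]
  exact AutPow.perm_one_iff hT _ _ _

end Cj

theorem mem_normalizer_of_realize {G : Type*} [Group G] {N : Subgroup G} {w : G} {β : MulAut N}
    (h : ∀ n : N, w * n * w⁻¹ = β n) : w ∈ Subgroup.normalizer (N : Set G) := by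
  rw [Subgroup.mem_normalizer_iff]
  intro n
  constructor
  · intro hn
    have := h ⟨n, hn⟩
    exact this ▸ (β ⟨n, hn⟩).2
  · intro hn
    have h1 := h (β.symm ⟨_, hn⟩)
    rw [MulEquiv.apply_symm_apply] at h1
    have h2 : ((β.symm ⟨_, hn⟩ : N) : G) = n := by
      have h3 : w * ((β.symm ⟨_, hn⟩ : N) : G) * w⁻¹ = w * n * w⁻¹ := h1
      exact mul_left_cancel (mul_right_cancel h3)
    exact h2 ▸ (β.symm ⟨_, hn⟩).2

variable {Ω : Type*} [Fintype Ω] [DecidableEq Ω]

/-- **The core of the non-regular case**: `N_a` is invariant under all permutations of the coordinates. -/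
theorem good_of_perm_inv (h5 : 5 ≤ Nat.card Ω) {N V : Subgroup (Perm Ω)} (htr : MulAction.IsPretransitive N Ω)
    (hN : ¬ alternatingGroup Ω ≤ N) (a : Ω) (hC : Subgroup.centralizer (N : Set (Perm Ω)) = ⊥)
    (hV : V ≤ Subgroup.normalizer (N : Set (Perm Ω))) {ι T : Type*} [Finite ι] [Group T] [IsSimpleGroup T]
    (hT : ¬ IsMulCommutative T) (hd : DS 3 T) (e : N ≃* (ι → T))
    (hperm : ∀ (σ : Perm ι) (n : N), (n : Perm Ω) a = a ↔
      ((e.symm (AutPow.permAut T σ (e n)) : N) : Perm Ω) a = a) : Good V := by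
  refine ⟨Subgroup.normalizer (N : Set (Perm Ω)), hV, not_alt_le_normalizer h5 htr hN, ?_⟩
  have hsurj : Function.Surjective (fperm hT e) := by
    intro σ
    let β : MulAut N := (MulAut.congr e).symm (AutPow.permAut T σ)
    have hβ : ∀ n, β n = e.symm (AutPow.permAut T σ (e n)) := fun n => rfl
    obtain ⟨w, -, hw⟩ := exists_realize htr a β (fun n => by rw [hβ]; exact hperm σ n)
    refine ⟨⟨w, mem_normalizer_of_realize hw⟩, ?_⟩
    change AutPow.perm hT (cjHom e ⟨w, mem_normalizer_of_realize hw⟩) = σ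
    have h1 : cjHom e ⟨w, mem_normalizer_of_realize hw⟩ = AutPow.permAut T σ := by
      ext x i
      obtain ⟨n, rfl⟩ := e.surjective x
      rw [cjHom_apply e _ n (β n) (hw n), hβ, e.apply_symm_apply]
    rw [h1, AutPow.perm_permAut]
  have hker : PS 3 (fperm hT e).ker := by
    let g : N →* (fperm hT e).ker :=
      (Subgroup.inclusion (Subgroup.le_normalizer (H := N))).codRestrict _ (fun n =>
        MonoidHom.mem_ker.2 (fperm_mem hT e n _))
    refine PS.of_hom g (PS.of_equiv e.symm (PS.pi fun _ => ps_zero_simple hT)) ?_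
    intro k hk
    obtain ⟨y, hy⟩ := AutPow.map_derivedSeries_le_conj hT hd ((cjHom e).comp (fperm hT e).ker.subtype)
      (fun k => MonoidHom.mem_ker.1 k.2) hk
    have hy' : cjHom e (k : ↥(Subgroup.normalizer (N : Set (Perm Ω)))) = MulAut.conj y := hy
    obtain ⟨n, rfl⟩ := e.surjective y
    have h1 : ∀ m : N, (k : Perm Ω) * m * (k : Perm Ω)⁻¹ = (n : Perm Ω) * m * (n : Perm Ω)⁻¹ := by
      intro m
      have h2 : (k : Perm Ω) * m * (k : Perm Ω)⁻¹ ∈ N := (Subgroup.mem_normalizer_iff.1 k.1.2 m).1 m.2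
      have h3 := cjHom_apply e (k : ↥(Subgroup.normalizer (N : Set (Perm Ω)))) m ⟨_, h2⟩ rfl
      rw [hy', MulAut.conj_apply, ← map_inv, ← map_mul, ← map_mul] at h3
      have h4 := e.injective h3
      exact (congrArg Subtype.val h4).symm
    have h2 : (n : Perm Ω)⁻¹ * (k : Perm Ω) ∈ Subgroup.centralizer (N : Set (Perm Ω)) := by
      rw [Subgroup.mem_centralizer_iff]
      intro m hm
      have h3 := h1 ⟨m, hm⟩
      have h4 : (k : Perm Ω) * m = (n : Perm Ω) * m * (n : Perm Ω)⁻¹ * (k : Perm Ω) := by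
        rw [← h3]; group
      rw [mul_assoc, h4]
      group
    rw [hC, Subgroup.mem_bot, inv_mul_eq_one] at h2
    exact ⟨n, Subtype.ext (Subtype.ext h2)⟩
  exact PS.of_ker (a := 3) (b := 3) hsurj hker (ps_perm ι)

/-- The full diagonal case. -/
theorem good_of_diag (h5 : 5 ≤ Nat.card Ω) {N V : Subgroup (Perm Ω)} (htr : MulAction.IsPretransitive N Ω)
    (hN : ¬ alternatingGroup Ω ≤ N) (a : Ω) (hC : Subgroup.centralizer (N : Set (Perm Ω)) = ⊥)
    (hV : V ≤ Subgroup.normalizer (N : Set (Perm Ω))) {ι T : Type*} [Finite ι] [Group T] [IsSimpleGroup T]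
    (hT : ¬ IsMulCommutative T) (hd : DS 3 T) (e : N ≃* (ι → T))
    (hst : ∀ n : N, (n : Perm Ω) a = a ↔ ∀ i j, e n i = e n j) : Good V := by
  refine good_of_perm_inv h5 htr hN a hC hV hT hd e ?_
  intro σ n
  rw [hst, hst, e.apply_symm_apply]
  constructor
  · intro h i j
    rw [AutPow.permAut_apply, AutPow.permAut_apply]
    exact h _ _
  · intro h i j
    have := h (σ i) (σ j)
    rwa [AutPow.permAut_apply, AutPow.permAut_apply, σ.symm_apply_apply, σ.symm_apply_apply] at this

/-- **Transitivity on the factors.** -/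
theorem exists_fperm {N V : Subgroup (Perm Ω)} (htr : MulAction.IsPretransitive N Ω) (a : Ω)
    (hNV : N ≤ V) (hV : V ≤ Subgroup.normalizer (N : Set (Perm Ω)))
    (hmin : ∀ M ≤ N, V ≤ Subgroup.normalizer (M : Set (Perm Ω)) → M = ⊥ ∨ M = N)
    {ι T : Type*} [Finite ι] [Group T] [IsSimpleGroup T] (hT : ¬ IsMulCommutative T) (e : N ≃* (ι → T)) (i₀ i : ι) :
    ∃ (v : Perm Ω) (hv : v ∈ V), v a = a ∧ fperm hT e ⟨v, hV hv⟩ i₀ = i := by
  classical
  have h1 : ∃ (v : Perm Ω) (hv : v ∈ V), fperm hT e ⟨v, hV hv⟩ i₀ = i := by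
    by_contra hcon
    push Not at hcon
    let O : Set ι := {j | ∃ (v : Perm Ω) (hv : v ∈ V), fperm hT e ⟨v, hV hv⟩ i₀ = j}
    let M' : Subgroup N :=
      { carrier := {n | ∀ j ∉ O, e n j = 1}
        one_mem' := fun j _ => by rw [map_one]; rfl
        mul_mem' := fun {x y} hx hy j hj => by rw [map_mul, Pi.mul_apply, hx j hj, hy j hj, one_mul]
        inv_mem' := fun {x} hx j hj => by rw [map_inv, Pi.inv_apply, hx j hj, inv_one] }
    have hM' : ∀ n, n ∈ M' ↔ ∀ j ∉ O, e n j = 1 := fun n => Iff.rfl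
    let M : Subgroup (Perm Ω) := M'.map N.subtype
    have hM : ∀ n : N, (n : Perm Ω) ∈ M ↔ n ∈ M' := by
      intro n
      constructor
      · rintro ⟨n', hn', h⟩
        have : n' = n := Subtype.ext h
        exact this ▸ hn'
      · exact fun h => ⟨n, h, rfl⟩
    have hMN : M ≤ N := by
      rintro _ ⟨n, -, rfl⟩
      exact n.2
    have hVM : V ≤ Subgroup.normalizer (M : Set (Perm Ω)) := by
      have key : ∀ v ∈ V, ∀ n ∈ M, v * n * v⁻¹ ∈ M := by
        intro v hv n hn
        have hn' : (⟨n, hMN hn⟩ : N) ∈ M' := (hM _).1 hn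
        have hc : v * n * v⁻¹ ∈ N := (Subgroup.mem_normalizer_iff.1 (hV hv) n).1 (hMN hn)
        refine (hM ⟨_, hc⟩).2 ?_
        intro j hj
        obtain ⟨i', rfl⟩ := (fperm hT e ⟨v, hV hv⟩).surjective j
        rw [fperm_one_iff hT e ⟨v, hV hv⟩ ⟨n, hMN hn⟩ ⟨_, hc⟩ rfl]
        apply hn'
        rintro ⟨u, hu, hui⟩
        apply hj
        refine ⟨v * u, V.mul_mem hv hu, ?_⟩
        have h2 : (⟨v * u, hV (V.mul_mem hv hu)⟩ : ↥(Subgroup.normalizer (N : Set (Perm Ω)))) =
            ⟨v, hV hv⟩ * ⟨u, hV hu⟩ := rfl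
        rw [h2, map_mul, Perm.mul_apply, hui]
      intro v hv
      rw [Subgroup.mem_normalizer_iff]
      intro n
      refine ⟨key v hv n, fun h => ?_⟩
      have h2 := key v⁻¹ (V.inv_mem hv) _ h
      have h3 : v⁻¹ * (v * n * v⁻¹) * v⁻¹⁻¹ = n := by group
      rwa [h3] at h2
    obtain ⟨t, ht⟩ := exists_ne (1 : T)
    rcases hmin M hMN hVM with h | h
    · have h2 : ((e.symm (Pi.mulSingle i₀ t) : N) : Perm Ω) ∈ M := by
        rw [hM]
        intro j hj
        rw [e.apply_symm_apply, Pi.mulSingle_eq_of_ne]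
        rintro rfl
        apply hj
        refine ⟨1, V.one_mem, ?_⟩
        have h2 : (⟨1, hV V.one_mem⟩ : ↥(Subgroup.normalizer (N : Set (Perm Ω)))) = 1 := rfl
        rw [h2, map_one]
        rfl
      rw [h, Subgroup.mem_bot] at h2
      have h3 : e.symm (Pi.mulSingle i₀ t) = 1 := Subtype.ext h2
      rw [MulEquiv.symm_apply_eq, map_one, Pi.mulSingle_eq_one_iff] at h3
      exact ht h3
    · have h2 : ((e.symm (Pi.mulSingle i t) : N) : Perm Ω) ∈ M := by
        rw [h]
        exact (e.symm (Pi.mulSingle i t)).2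
      rw [hM] at h2
      have h3 := h2 i (by
        rintro ⟨v, hv, h⟩
        exact hcon v hv h)
      rw [e.apply_symm_apply, Pi.mulSingle_eq_same] at h3
      exact ht h3
  obtain ⟨v, hv, hvi⟩ := h1
  obtain ⟨n, hn⟩ := MulAction.exists_smul_eq N a (v a)
  have hn' : (n : Perm Ω) a = v a := hn
  refine ⟨(n : Perm Ω)⁻¹ * v, V.mul_mem (V.inv_mem (hNV n.2)) hv, ?_, ?_⟩
  · rw [Perm.mul_apply, ← hn', Perm.inv_eq_iff_eq]
  · have h2 : (⟨(n : Perm Ω)⁻¹ * v, hV (V.mul_mem (V.inv_mem (hNV n.2)) hv)⟩ :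
        ↥(Subgroup.normalizer (N : Set (Perm Ω)))) = ⟨n, Subgroup.le_normalizer n.2⟩⁻¹ * ⟨v, hV hv⟩ := rfl
    rw [h2, map_mul, map_inv, fperm_mem, inv_one, one_mul, hvi]

/-- The product case. -/
theorem good_of_product (h5 : 5 ≤ Nat.card Ω) {N V : Subgroup (Perm Ω)} (htr : MulAction.IsPretransitive N Ω)
    (hN : ¬ alternatingGroup Ω ≤ N) (a : Ω) (hC : Subgroup.centralizer (N : Set (Perm Ω)) = ⊥)
    (hNV : N ≤ V) (hV : V ≤ Subgroup.normalizer (N : Set (Perm Ω)))
    (hmin : ∀ M ≤ N, V ≤ Subgroup.normalizer (M : Set (Perm Ω)) → M = ⊥ ∨ M = N)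
    {ι T : Type*} [Finite ι] [Group T] [IsSimpleGroup T] (i₀ : ι)
    (hT : ¬ IsMulCommutative T) (hd : DS 3 T) (e : N ≃* (ι → T)) (L : ι → Subgroup T)
    (hst : ∀ n : N, (n : Perm Ω) a = a ↔ ∀ i, e n i ∈ L i) : Good V := by
  classical
  have h1 := exists_fperm htr a hNV hV hmin hT e i₀
  choose v hv hva hvi using h1
  have h2 : ∀ i, ∃ φ : ι → MulAut T, ∀ x l, cjHom e ⟨v i, hV (hv i)⟩ x (fperm hT e ⟨v i, hV (hv i)⟩ l) = φ l (x l) :=
    fun i => AutPow.perm_spec hT _
  choose φ hφ using h2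
  have h3 : ∀ i t, t ∈ L i₀ ↔ φ i i₀ t ∈ L i := by
    intro i t
    set n : N := e.symm (Pi.mulSingle i₀ t) with hn
    have hc : v i * n * (v i)⁻¹ ∈ N := (Subgroup.mem_normalizer_iff.1 (hV (hv i)) n).1 n.2
    have h4 := cjHom_apply e ⟨v i, hV (hv i)⟩ n ⟨_, hc⟩ rfl
    have hen : e n = Pi.mulSingle i₀ t := e.apply_symm_apply _
    have h5 : e ⟨_, hc⟩ i = φ i i₀ t := by
      rw [← h4, hen]
      have := hφ i (Pi.mulSingle i₀ t) i₀
      rwa [hvi, Pi.mulSingle_eq_same] at this
    have h6 : ∀ j, j ≠ i → e ⟨_, hc⟩ j = 1 := by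
      intro j hj
      obtain ⟨l, rfl⟩ := (fperm hT e ⟨v i, hV (hv i)⟩).surjective j
      rw [← h4, hen, hφ]
      have hl : l ≠ i₀ := by
        rintro rfl
        exact hj (hvi i)
      rw [Pi.mulSingle_eq_of_ne hl, map_one]
    have h7 : (n : Perm Ω) a = a ↔ t ∈ L i₀ := by
      rw [hst, hen]
      constructor
      · intro h
        have := h i₀
        rwa [Pi.mulSingle_eq_same] at this
      · intro h j
        by_cases hj : j = i₀
        · subst hj
          rwa [Pi.mulSingle_eq_same]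
        · rw [Pi.mulSingle_eq_of_ne hj]
          exact (L j).one_mem
    have h8 : (v i * n * (v i)⁻¹) a = a ↔ φ i i₀ t ∈ L i := by
      have h9 := hst ⟨_, hc⟩
      rw [← h5]
      refine h9.trans ?_
      constructor
      · exact fun h => h i
      · intro h j
        by_cases hj : j = i
        · subst hj
          exact h
        · rw [h6 j hj]
          exact (L j).one_mem
    rw [← h7, ← h8, Perm.mul_apply, Perm.mul_apply]
    have h9 : (v i)⁻¹ a = a := by rw [Perm.inv_eq_iff_eq]; exact (hva i).symm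
    rw [h9]
    constructor
    · intro h
      rw [h, hva]
    · intro h
      apply (v i).injective
      rw [h, hva]
  let e' : N ≃* (ι → T) := e.trans (MulEquiv.piCongrRight fun i => (φ i i₀).symm)
  have he' : ∀ n i, e' n i = (φ i i₀).symm (e n i) := fun _ _ => rfl
  have hst' : ∀ n : N, (n : Perm Ω) a = a ↔ ∀ i, e' n i ∈ L i₀ := by
    intro n
    rw [hst]
    refine forall_congr' fun i => ?_
    rw [he', h3 i, MulEquiv.apply_symm_apply]
  refine good_of_perm_inv h5 htr hN a hC hV hT hd e' ?_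
  intro σ n
  rw [hst', hst', e'.apply_symm_apply]
  constructor
  · intro h i
    rw [AutPow.permAut_apply]
    exact h _
  · intro h i
    have := h (σ i)
    rwa [AutPow.permAut_apply, σ.symm_apply_apply] at this

end Cfsg.Agent.H936
end

private theorem dce_4a7d7734d019 : _root_.True := by
  try have : _root_.True := by simp only [_root_.Cfsg.Agent.H936.fperm.congr_simp]
  try have : _root_.True := by simp only [_root_.Equiv.Perm.subtypeCongrHom.eq_1]
  exact _root_.True.intro
end

-- part: H936/PSMain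
section
prune_inst 0x400000
set_option linter.all false
open scoped Cfsg.Agent.FastGrp

-- part: H936/PSCompound
section
/-!
# The compound diagonal case
-/

set_option autoImplicit false

open Equiv

namespace Cfsg.Agent.H936

variable {Ω : Type*} [Fintype Ω] [DecidableEq Ω]

/-- Invariance of the relation `c i = c j` under elements fixing `a`. -/
theorem diag_rel_one {N : Subgroup (Perm Ω)} (a : Ω)
    {ι T : Type*} [Finite ι] [Group T] [IsSimpleGroup T] (hT : ¬ IsMulCommutative T) (e : N ≃* (ι → T))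
    {c : ι → ι} (hst : ∀ n : N, (n : Perm Ω) a = a ↔ ∀ i j, c i = c j → e n i = e n j)
    (v : ↥(Subgroup.normalizer (N : Set (Perm Ω)))) (hva : (v : Perm Ω) a = a) {i j : ι} (hij : c i = c j) :
    c (fperm hT e v i) = c (fperm hT e v j) := by
  classical
  by_contra hcon
  obtain ⟨t, ht⟩ := exists_ne (1 : T)
  set n : N := e.symm (fun l => if c l = c (fperm hT e v i) then t else 1) with hn
  have hen : e n = fun l => if c l = c (fperm hT e v i) then t else 1 := e.apply_symm_apply _
  have hna : (n : Perm Ω) a = a := by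
    rw [hst, hen]
    intro k l hkl
    simp only [hkl]
  have hc : (v : Perm Ω)⁻¹ * n * (v : Perm Ω) ∈ N := by
    rw [Subgroup.mem_normalizer_iff.1 v.2]
    have : (v : Perm Ω) * ((v : Perm Ω)⁻¹ * n * (v : Perm Ω)) * (v : Perm Ω)⁻¹ = n := by group
    rw [this]
    exact n.2
  have hcv : (v : Perm Ω) * ((⟨_, hc⟩ : N) : Perm Ω) * (v : Perm Ω)⁻¹ = n := by
    change (v : Perm Ω) * ((v : Perm Ω)⁻¹ * n * (v : Perm Ω)) * (v : Perm Ω)⁻¹ = n
    group
  have h1 := fperm_one_iff hT e v ⟨_, hc⟩ n hcv i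
  have h2 := fperm_one_iff hT e v ⟨_, hc⟩ n hcv j
  have h3 : (((⟨_, hc⟩ : N) : Perm Ω)) a = a := by
    change ((v : Perm Ω)⁻¹ * n * (v : Perm Ω)) a = a
    rw [Perm.mul_apply, Perm.mul_apply, hva, hna, Perm.inv_eq_iff_eq, hva]
  rw [hst] at h3
  rw [h3 i j hij, ← h2, hen] at h1
  simp only [if_true] at h1
  rw [if_neg (Ne.symm hcon)] at h1
  exact ht (h1.2 rfl)

theorem diag_rel {N : Subgroup (Perm Ω)} (htr : MulAction.IsPretransitive N Ω) (a : Ω)
    {ι T : Type*} [Finite ι] [Group T] [IsSimpleGroup T] (hT : ¬ IsMulCommutative T) (e : N ≃* (ι → T))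
    {c : ι → ι} (hst : ∀ n : N, (n : Perm Ω) a = a ↔ ∀ i j, c i = c j → e n i = e n j)
    (v : ↥(Subgroup.normalizer (N : Set (Perm Ω)))) {i j : ι} :
    c i = c j ↔ c (fperm hT e v i) = c (fperm hT e v j) := by
  have key : ∀ (v : ↥(Subgroup.normalizer (N : Set (Perm Ω)))) (i j : ι), c i = c j →
      c (fperm hT e v i) = c (fperm hT e v j) := by
    intro v i j hij
    obtain ⟨n, hn⟩ := MulAction.exists_smul_eq N a ((v : Perm Ω) a)
    have hn' : (n : Perm Ω) a = (v : Perm Ω) a := hn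
    let n' : ↥(Subgroup.normalizer (N : Set (Perm Ω))) := ⟨n, Subgroup.le_normalizer n.2⟩
    have h1 := diag_rel_one a hT e hst (n'⁻¹ * v) (by
      change (n : Perm Ω)⁻¹ ((v : Perm Ω) a) = a
      rw [Perm.inv_eq_iff_eq, hn']) hij
    rwa [map_mul, map_inv, fperm_mem, inv_one, one_mul] at h1
  refine ⟨key v i j, fun h => ?_⟩
  have h1 := key v⁻¹ _ _ h
  rw [map_inv] at h1
  have h2 : ∀ i, (fperm hT e v)⁻¹ (fperm hT e v i) = i := fun i => (fperm hT e v).symm_apply_apply i
  rwa [h2, h2] at h1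

/-- **The compound diagonal case.** -/
theorem good_of_compound (h4 : 4 ≤ Nat.card Ω) {N V : Subgroup (Perm Ω)} (htr : MulAction.IsPretransitive N Ω)
    (a : Ω) (hV : V ≤ Subgroup.normalizer (N : Set (Perm Ω))) {m : ℕ} {T : Type*} [Group T] [Finite T] [IsSimpleGroup T]
    (hT : ¬ IsMulCommutative T) (e : N ≃* (Fin m → T)) {c : Fin m → Fin m}
    (hst : ∀ n : N, (n : Perm Ω) a = a ↔ ∀ i j, c i = c j → e n i = e n j) {k : ℕ} (hk : 2 ≤ k)
    (hc : ∀ j : Fin m, Nat.card {i : Fin m // c i = j} = k ∨ Nat.card {i : Fin m // c i = j} = 0)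
    {i₁ i₂ : Fin m} (hne : c i₁ ≠ c i₂) : Good V := by
  classical
  let J := {j : Fin m // ∃ i, c i = j}
  let cc : Fin m → J := fun i => ⟨c i, i, rfl⟩
  have hcard : ∀ j : J, Nonempty (Fin k ≃ {i : Fin m // cc i = j}) := by
    intro j
    have h1 : Nat.card {i : Fin m // cc i = j} = k := by
      have h2 : Nat.card {i : Fin m // cc i = j} = Nat.card {i : Fin m // c i = j} :=
        Nat.card_congr (Equiv.subtypeEquivRight fun i => Subtype.ext_iff)
      rw [h2]
      refine (hc j).resolve_right ?_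
      have : Nonempty {i : Fin m // c i = j} := by
        obtain ⟨j, i, hi⟩ := j
        exact ⟨⟨i, hi⟩⟩
      exact Nat.card_pos.ne'
    exact (Finite.card_eq.1 (by rw [h1, Nat.card_fin]))
  have b : ∀ j : J, Fin k ≃ {i : Fin m // cc i = j} := fun j => (hcard j).some
  -- the diagonal
  let D : Subgroup (Fin k → T) :=
    { carrier := {x | ∀ p q, x p = x q}
      one_mem' := fun _ _ => rfl
      mul_mem' := fun {x y} hx hy p q => by rw [Pi.mul_apply, Pi.mul_apply, hx p q, hy p q]
      inv_mem' := fun {x} hx p q => by rw [Pi.inv_apply, Pi.inv_apply, hx p q] }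
  have hD : ∀ x, x ∈ D ↔ ∀ p q, x p = x q := fun _ => Iff.rfl
  let Δ := (Fin k → T) ⧸ D
  let ψ : N → J → Δ := fun n j => QuotientGroup.mk fun p => e n (b j p : Fin m)
  have hψ : ∀ n n' j, ψ n j = ψ n' j ↔ ∀ i i' : Fin m, cc i = j → cc i' = j → (e n i)⁻¹ * e n' i = (e n i')⁻¹ * e n' i' := by
    intro n n' j
    change QuotientGroup.mk _ = QuotientGroup.mk _ ↔ _
    rw [QuotientGroup.eq, hD]
    constructor
    · intro h i i' hi hi'
      have h1 := h ((b j).symm ⟨i, hi⟩) ((b j).symm ⟨i', hi'⟩)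
      simp only [Pi.mul_apply, Pi.inv_apply, Equiv.apply_symm_apply] at h1
      exact h1
    · intro h p q
      exact h _ _ (b j p).2 (b j q).2
  have hψa : ∀ n n', ψ n = ψ n' ↔ (n : Perm Ω) a = (n' : Perm Ω) a := by
    intro n n'
    have h1 := hst (n⁻¹ * n')
    rw [Subgroup.coe_mul, Subgroup.coe_inv, Perm.mul_apply, Perm.inv_eq_iff_eq] at h1
    rw [eq_comm (a := (n : Perm Ω) a), h1, funext_iff]
    constructor
    · intro h i j hij
      have h2 := (hψ n n' (cc i)).1 (h _) i j rfl (Subtype.ext hij.symm)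
      rw [map_mul, map_inv]
      exact h2
    · intro h j
      rw [hψ]
      intro i i' hi hi'
      have h2 := h i i' (congrArg Subtype.val (hi.trans hi'.symm))
      rw [map_mul, map_inv] at h2
      exact h2
  have hψsurj : Function.Surjective ψ := by
    intro y
    have hz : ∀ j : J, ∃ x : Fin k → T, (QuotientGroup.mk x : Δ) = y j := fun j =>
      QuotientGroup.mk_surjective (y j)
    choose z hz using hz
    refine ⟨e.symm fun i => z (cc i) ((b (cc i)).symm ⟨i, rfl⟩), ?_⟩
    funext j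
    rw [← hz j]
    change QuotientGroup.mk _ = QuotientGroup.mk _
    congr 1
    funext p
    rw [e.apply_symm_apply]
    have h1 : ∀ (j : J) (i : {i : Fin m // cc i = j}), z (cc i) ((b (cc i)).symm ⟨i, rfl⟩) = z j ((b j).symm i) := by
      rintro j ⟨i, rfl⟩
      rfl
    rw [h1 j (b j p), Equiv.symm_apply_apply]
  have hex : ∀ x : Ω, ∃ n : N, (n : Perm Ω) a = x := fun x => MulAction.exists_smul_eq N a x
  choose f hf using hex
  have hb : Function.Bijective fun x => ψ (f x) := by
    constructor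
    · intro x y hxy
      have := (hψa _ _).1 hxy
      rwa [hf, hf] at this
    · intro y
      obtain ⟨n, rfl⟩ := hψsurj y
      exact ⟨(n : Perm Ω) a, (hψa _ _).2 (hf _)⟩
  let φ : Ω ≃ (J → Δ) := Equiv.ofBijective _ hb
  have hφ : ∀ n : N, φ ((n : Perm Ω) a) = ψ n := fun n => (hψa _ _).2 (hf _)
  -- the relations
  have hA : ∀ (j : J) (x y : Ω), φ x j = φ y j ↔ ∃ n : N, (n : Perm Ω) x = y ∧ ∀ i, cc i = j → e n i = 1 := by
    intro j x y
    obtain ⟨n, rfl⟩ : ∃ n : N, (n : Perm Ω) a = x := ⟨f x, hf x⟩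
    obtain ⟨n', rfl⟩ : ∃ n : N, (n : Perm Ω) a = y := ⟨f y, hf y⟩
    rw [hφ, hφ, hψ]
    constructor
    · intro h
      obtain ⟨i₀, hi₀⟩ : ∃ i₀, cc i₀ = j := by
        obtain ⟨j, i, hi⟩ := j
        exact ⟨i, Subtype.ext hi⟩
      set δ : N := e.symm fun _ => (e n i₀)⁻¹ * e n' i₀ with hδ
      have heδ : e δ = fun _ => (e n i₀)⁻¹ * e n' i₀ := e.apply_symm_apply _
      have hδa : (δ : Perm Ω) a = a := by
        rw [hst, heδ]
        exact fun _ _ _ => rfl
      refine ⟨n' * δ⁻¹ * n⁻¹, ?_, ?_⟩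
      · rw [Subgroup.coe_mul, Subgroup.coe_mul, Subgroup.coe_inv, Subgroup.coe_inv, Perm.mul_apply, Perm.mul_apply]
        have h1 : (n : Perm Ω)⁻¹ ((n : Perm Ω) a) = a := by rw [Perm.inv_eq_iff_eq]
        have h2 : (δ : Perm Ω)⁻¹ a = a := by rw [Perm.inv_eq_iff_eq, hδa]
        rw [h1, h2]
      · intro i hi
        rw [map_mul, map_mul, map_inv, map_inv, Pi.mul_apply, Pi.mul_apply, Pi.inv_apply, Pi.inv_apply, heδ]
        simp only
        rw [h i₀ i hi₀ hi]
        group
    · rintro ⟨u, hu, hu1⟩ i i' hi hi'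
      have h1 := hst (n'⁻¹ * u * n)
      rw [Subgroup.coe_mul, Subgroup.coe_mul, Subgroup.coe_inv, Perm.mul_apply, Perm.mul_apply, hu,
        Perm.inv_eq_iff_eq] at h1
      have h2 := h1.1 rfl i i' (congrArg Subtype.val (hi.trans hi'.symm))
      rw [map_mul, map_mul, map_inv, Pi.mul_apply, Pi.mul_apply, Pi.mul_apply, Pi.mul_apply, hu1 i hi, hu1 i' hi',
        Pi.inv_apply, Pi.inv_apply, mul_one, mul_one] at h2
      have h3 := congrArg (fun x => x⁻¹) h2
      simpa only [_root_.mul_inv_rev, _root_.inv_inv] using h3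
  have : Nontrivial J := ⟨⟨cc i₁, cc i₂, fun h => hne (congrArg Subtype.val h)⟩⟩
  have : Nontrivial Δ := by
    obtain ⟨t, ht⟩ := exists_ne (1 : T)
    refine ⟨⟨QuotientGroup.mk 1, QuotientGroup.mk (Pi.mulSingle ⟨0, by omega⟩ t), fun h => ?_⟩⟩
    rw [QuotientGroup.eq, inv_one, one_mul, hD] at h
    have h1 := h ⟨0, by omega⟩ ⟨1, by omega⟩
    rw [Pi.mulSingle_eq_same, Pi.mulSingle_eq_of_ne (by simp)] at h1
    exact ht h1
  refine good_of_cart h4 φ ?_
  intro v hv j
  obtain ⟨i₀, hi₀⟩ : ∃ i₀, cc i₀ = j := by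
    obtain ⟨j, i, hi⟩ := j
    exact ⟨i, Subtype.ext hi⟩
  let v' : ↥(Subgroup.normalizer (N : Set (Perm Ω))) := ⟨v, hV hv⟩
  refine ⟨cc (fperm hT e v' i₀), fun x y => ?_⟩
  rw [hA, hA]
  have hcc : ∀ i, cc i = j ↔ cc (fperm hT e v' i) = cc (fperm hT e v' i₀) := by
    intro i
    rw [← hi₀]
    have h1 := diag_rel htr a hT e hst v' (i := i) (j := i₀)
    rw [Subtype.ext_iff, Subtype.ext_iff]
    exact h1
  constructor
  · rintro ⟨n, hn, hn1⟩
    have hc : v * n * v⁻¹ ∈ N := (Subgroup.mem_normalizer_iff.1 (hV hv) n).1 n.2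
    refine ⟨⟨_, hc⟩, ?_, ?_⟩
    · change v ((n : Perm Ω) (v⁻¹ (v x))) = v y
      have h1 : v⁻¹ (v x) = x := by rw [Perm.inv_eq_iff_eq]
      rw [h1, hn]
    · intro i hi
      obtain ⟨i', rfl⟩ := (fperm hT e v').surjective i
      rw [fperm_one_iff hT e v' n ⟨_, hc⟩ rfl]
      exact hn1 i' ((hcc i').2 hi)
  · rintro ⟨n, hn, hn1⟩
    have hvc : v * (v⁻¹ * n * v) * v⁻¹ = n := by group
    have hc : v⁻¹ * n * v ∈ N := by
      rw [Subgroup.mem_normalizer_iff.1 (hV hv), hvc]
      exact n.2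
    refine ⟨⟨_, hc⟩, ?_, ?_⟩
    · change v⁻¹ ((n : Perm Ω) (v x)) = y
      rw [hn, Perm.inv_eq_iff_eq]
    · intro i hi
      rw [← fperm_one_iff hT e v' ⟨_, hc⟩ n hvc]
      exact hn1 _ ((hcc i).1 hi)

end Cfsg.Agent.H936
end

-- part: H936/PSGL
section
/-!
# The derived series of `GL(d, p)`
-/

set_option autoImplicit false

open Matrix

namespace Cfsg.Agent.H936

theorem ps_of_card {G : Type*} [Group G] [Finite G] {k : ℕ} (h : Nat.card G < 2 ^ (k + 1)) : PS k G := by
  by_contra hcon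
  have h1 : ∀ i ≤ k, derivedSeries G (i + 1) ≠ derivedSeries G i := by
    intro i hi h2
    exact hcon (PS.mono (show PS i G from h2) hi)
  have h2 : ∀ j ≤ k + 1, 2 ^ j * Nat.card (derivedSeries G j) ≤ Nat.card G := by
    intro j
    induction j with
    | zero =>
      intro _
      rw [derivedSeries_zero, Subgroup.card_top]
      simp
    | succ j ih =>
      intro hj
      have h3 := ih (by omega)
      have h4 : derivedSeries G (j + 1) ≤ derivedSeries G j := derivedSeries_antitone G (Nat.le_succ _)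
      obtain ⟨c, hc⟩ := Subgroup.card_dvd_of_le h4
      have hpos : 0 < Nat.card (derivedSeries G j) := Nat.card_pos
      have hc2 : 2 ≤ c := by
        by_contra hlt
        have : c = 0 ∨ c = 1 := by omega
        rcases this with rfl | rfl
        · omega
        · apply h1 j (by omega)
          exact Subgroup.eq_of_le_of_card_ge h4 (by rw [hc]; simp only [_root_.derivedSeries_succ, _root_.mul_one, _root_.Std.le_refl])
      calc 2 ^ (j + 1) * Nat.card (derivedSeries G (j + 1)) = 2 ^ j * (Nat.card (derivedSeries G (j + 1)) * 2) := by ring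
        _ ≤ 2 ^ j * (Nat.card (derivedSeries G (j + 1)) * c) := by gcongr
        _ ≤ _ := by rw [← hc]; exact h3
  have h3 := h2 (k + 1) le_rfl
  have h4 : 1 ≤ Nat.card (derivedSeries G (k + 1)) := Nat.card_pos
  have h5 : 2 ^ (k + 1) * 1 ≤ 2 ^ (k + 1) * Nat.card (derivedSeries G (k + 1)) := by gcongr
  omega

theorem ps_gl_of_perfect {ι F : Type*} [Fintype ι] [DecidableEq ι] [Field F]
    (h : commutator (_root_.Matrix.SpecialLinearGroup ι F) = ⊤) : PS 1 (GL ι F) := by
  refine PS.of_hom (A := _root_.Matrix.SpecialLinearGroup ι F) SpecialLinearGroup.toGL ?_ ?_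
  · unfold PS
    rw [derivedSeries_one, derivedSeries_zero]
    exact h
  · rw [derivedSeries_one]
    have h1 : commutator (GL ι F) ≤ (GeneralLinearGroup.det (n := ι) (R := F)).ker := 
      Abelianization.commutator_subset_ker _
    intro g hg
    have h2 := h1 hg
    rw [MonoidHom.mem_ker] at h2
    have h3 : (g : Matrix ι ι F).det = 1 := congrArg Units.val h2
    exact ⟨⟨g, h3⟩, Units.ext rfl⟩

theorem ps_gl (d p : ℕ) [hp : Fact p.Prime] : PS 5 (GL (Fin d) (ZMod p)) := by
  by_cases h3 : 3 ≤ d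
  · exact (ps_gl_of_perfect (Cfsg.Agent.S0248.result d h3)).mono (by norm_num)
  by_cases h1 : d ≤ 1
  · have h2 : ∀ a b : GL (Fin d) (ZMod p), a * b = b * a := by
      intro a b
      have : Subsingleton (Fin d) := by
        rw [Fin.subsingleton_iff_le_one]
        exact h1
      apply Units.ext
      ext i j
      have hij : i = j := Subsingleton.elim i j
      subst hij
      rw [Units.val_mul, Units.val_mul, Matrix.mul_apply, Matrix.mul_apply]
      refine Finset.sum_congr rfl fun k _ => ?_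
      have hki : k = i := Subsingleton.elim k i
      subst hki
      exact mul_comm _ _
    refine PS.of_bot ?_
    rw [eq_bot_iff]
    refine (derivedSeries_antitone _ (show 1 ≤ 5 by norm_num)).trans ?_
    rw [derivedSeries_one, commutator_def, Subgroup.commutator_le]
    intro a _ b _
    rw [Subgroup.mem_bot, commutatorElement_eq_one_iff_mul_comm]
    exact h2 a b
  have hd : d = 2 := by omega
  subst hd
  by_cases hp5 : p = 2 ∨ p = 3
  · apply ps_of_card
    rw [card_GL_field]
    rcases hp5 with rfl | rfl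
    · simp only [Fin.prod_univ_two, _root_.ZMod.card, _root_.Nat.reducePow, _root_.Fin.isValue, _root_.Fin.coe_ofNat_eq_mod, _root_.Nat.zero_mod, _root_.pow_zero, _root_.Nat.add_one_sub_one, _root_.Nat.mod_succ, _root_.pow_one, _root_.Nat.reduceSub, _root_.Nat.reduceMul, _root_.Nat.reduceAdd, _root_.Nat.reduceLT]
    · simp only [Fin.prod_univ_two, _root_.ZMod.card, _root_.Nat.reducePow, _root_.Fin.isValue, _root_.Fin.coe_ofNat_eq_mod, _root_.Nat.zero_mod, _root_.pow_zero, _root_.Nat.add_one_sub_one, _root_.Nat.mod_succ, _root_.pow_one, _root_.Nat.reduceSub, _root_.Nat.reduceMul, _root_.Nat.reduceAdd, _root_.Nat.reduceLT]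
  · push Not at hp5
    have h := Cfsg.Agent.PLocal.SL2Perfect.commutator_eq_top (p := p) hp5.1 hp5.2
    have h' := ps_gl_of_perfect (ι := Fin 2) (F := ZMod p) h
    exact h'.mono (by norm_num)

/-- Automorphism groups of elementary abelian groups. -/
theorem ps_mulAut_pow {T : Type} [Group T] [Finite T] [IsSimpleGroup T] (hT : IsMulCommutative T) {m : ℕ} {N : Type*}
    [Group N] (e : N ≃* (Fin m → T)) : PS 5 (MulAut N) := by
  letI : CommGroup T := { ‹Group T› with mul_comm := fun a b => hT.is_comm.comm a b }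
  have hp : (Nat.card T).Prime := IsSimpleGroup.prime_card
  have : Fact (Nat.card T).Prime := ⟨hp⟩
  have hcomm : ∀ a b : N, a * b = b * a := by
    intro a b
    apply e.injective
    rw [map_mul, map_mul]
    funext i
    exact hT.is_comm.comm _ _
  letI : CommGroup N := { ‹Group N› with mul_comm := hcomm }
  have hpow : ∀ x : N, x ^ Nat.card T = 1 := by
    intro x
    apply e.injective
    rw [map_pow, map_one]
    funext i
    exact pow_card_eq_one'
  have hcard : Nat.card N = Nat.card T ^ m := by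
    rw [Nat.card_congr e.toEquiv, Nat.card_fun, Nat.card_fin]
  obtain ⟨f⟩ := Cfsg.Agent.Lib.ElemAbGL.mulAut_equiv_GL (V := N) (Nat.card T) m hpow hcard
  exact PS.of_equiv f.symm (ps_gl m (Nat.card T))

end Cfsg.Agent.H936
end

-- part: H936/PSMain
section
/-!
# The primitive case, and the main theorem modulo `DS 3`
-/

set_option autoImplicit false

open Equiv

namespace Cfsg.Agent.H936

variable {Ω : Type*} [Fintype Ω] [DecidableEq Ω]

omit [Fintype Ω] [DecidableEq Ω] in
theorem isPreprimitive_of_le {V W : Subgroup (Perm Ω)} (h : V ≤ W) (hV : MulAction.IsPreprimitive V Ω) :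
    MulAction.IsPreprimitive W Ω := by
  have htr : MulAction.IsPretransitive W Ω := by
    refine ⟨fun x y => ?_⟩
    obtain ⟨g, hg⟩ := MulAction.exists_smul_eq V x y
    exact ⟨⟨g, h g.2⟩, hg⟩
  refine { toIsPretransitive := htr, isTrivialBlock_of_isBlock := ?_ }
  intro B hB
  refine hV.isTrivialBlock_of_isBlock ?_
  intro g₁ g₂ hg
  exact hB (g₁ := ⟨g₁, h g₁.2⟩) (g₂ := ⟨g₂, h g₂.2⟩) hg

/-- **Primitive groups.** -/
theorem good_of_prim (h5 : 5 ≤ Nat.card Ω) {V : Subgroup (Perm Ω)} (hp : MulAction.IsPreprimitive V Ω)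
    (hV : ¬ alternatingGroup Ω ≤ V)
    (hDS : ∀ (T : Type) [Group T] [Finite T] [IsSimpleGroup T], ¬ IsMulCommutative T → DS 3 T) : Good V := by
  classical
  have hne : Nonempty Ω := by
    rw [← Finite.card_pos_iff]
    omega
  obtain ⟨a⟩ := hne
  have hnt : Nontrivial Ω := by
    rw [← Finite.one_lt_card_iff_nontrivial]
    omega
  have hVne : V ≠ ⊥ := by
    rintro rfl
    obtain ⟨x, y, hxy⟩ := exists_pair_ne Ω
    obtain ⟨g, hg⟩ := MulAction.exists_smul_eq (⊥ : Subgroup (Perm Ω)) x y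
    have h1 : g = 1 := Subsingleton.elim _ _
    rw [h1, one_smul] at hg
    exact hxy hg
  obtain ⟨N, hNV, hN0, hVN, hmin⟩ := Cfsg.Agent.Lib.MinNormal.exists_minimal_normal_le V hVne
  have hNalt : ¬ alternatingGroup Ω ≤ N := fun h => hV (h.trans hNV)
  have hNn : (N.subgroupOf V).Normal := (Subgroup.normal_subgroupOf_iff_le_normalizer hNV).2 hVN
  let eN : N.subgroupOf V ≃* N := Subgroup.subgroupOfEquivOfLe hNV
  have hN0' : N.subgroupOf V ≠ ⊥ := by
    intro h
    rw [Subgroup.subgroupOf_eq_bot, disjoint_iff, inf_eq_left.2 hNV] at h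
    exact hN0 h
  have hfix : MulAction.fixedPoints (N.subgroupOf V) Ω ≠ Set.univ := by
    intro h
    apply hN0'
    rw [eq_bot_iff]
    intro x hx
    rw [Subgroup.mem_bot]
    apply Subtype.ext
    apply Equiv.ext
    intro y
    have hy : y ∈ MulAction.fixedPoints (N.subgroupOf V) Ω := by rw [h]; exact Set.mem_univ y
    exact hy ⟨x, hx⟩
  have htr' : MulAction.IsPretransitive (N.subgroupOf V) Ω :=
    MulAction.IsQuasiPreprimitive.isPretransitive_of_normal hfix
  have htr : MulAction.IsPretransitive N Ω := by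
    refine ⟨fun x y => ?_⟩
    obtain ⟨g, hg⟩ := MulAction.exists_smul_eq (N.subgroupOf V) x y
    exact ⟨⟨g, g.2⟩, hg⟩
  have hminV : ∀ M : Subgroup V, M.Normal → M ≤ N.subgroupOf V → M = ⊥ ∨ M = N.subgroupOf V := by
    intro M hM hMN
    have h1 : M.map V.subtype ≤ N := by
      rintro _ ⟨x, hx, rfl⟩
      exact hMN hx
    have h2 : V ≤ Subgroup.normalizer (M.map V.subtype : Set (Perm Ω)) := by
      have key : ∀ v : V, ∀ n ∈ M.map V.subtype, (v : Perm Ω) * n * (v : Perm Ω)⁻¹ ∈ M.map V.subtype := by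
        rintro v _ ⟨x, hx, rfl⟩
        exact ⟨_, hM.conj_mem x hx v, rfl⟩
      intro v hv
      rw [Subgroup.mem_normalizer_iff]
      intro n
      refine ⟨key ⟨v, hv⟩ n, fun h => ?_⟩
      have h2 := key ⟨v, hv⟩⁻¹ _ h
      have h3 : v⁻¹ * (v * n * v⁻¹) * v⁻¹⁻¹ = n := by group
      change v⁻¹ * (v * n * v⁻¹) * v⁻¹⁻¹ ∈ _ at h2
      rwa [h3] at h2
    rcases hmin _ h1 h2 with h | h
    · left
      rwa [Subgroup.map_eq_bot_iff_of_injective _ V.subtype_injective] at h
    · right
      apply Subgroup.map_injective V.subtype_injective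
      rw [h, Subgroup.map_subgroupOf_eq_of_le hNV]
  by_cases hC : Subgroup.centralizer (N : Set (Perm Ω)) = ⊥
  · -- non-regular
    have hnab : ¬ IsMulCommutative (N.subgroupOf V) := by
      intro h
      apply hN0
      rw [eq_bot_iff, ← hC]
      intro x hx
      rw [Subgroup.mem_centralizer_iff]
      intro y hy
      have h1 := h.is_comm.comm (⟨⟨y, hNV hy⟩, hy⟩ : N.subgroupOf V) ⟨⟨x, hNV hx⟩, hx⟩
      exact congrArg (fun z => ((z : V) : Perm Ω)) (congrArg Subtype.val h1)
    have huniq : ∀ L : Subgroup V, L.Normal → L ≠ ⊥ →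
        (∀ M : Subgroup V, M.Normal → M ≤ L → M = ⊥ ∨ M = L) → L = N.subgroupOf V := by
      intro L hL hL0 hLmin
      have hLN : (L ⊓ N.subgroupOf V).Normal := inferInstance
      rcases hminV _ hLN inf_le_right with h | h
      · exfalso
        apply hL0
        rw [eq_bot_iff]
        intro x hx
        have h1 : (x : Perm Ω) ∈ Subgroup.centralizer (N : Set (Perm Ω)) := by
          rw [Subgroup.mem_centralizer_iff]
          intro y hy
          have h2 : Commute x (⟨y, hNV hy⟩ : V) :=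
            Subgroup.commute_of_normal_of_disjoint L (N.subgroupOf V) hL hNn (disjoint_iff.2 h) x _ hx hy
          exact congrArg Subtype.val h2.symm.eq
        rw [hC, Subgroup.mem_bot] at h1
        rw [Subgroup.mem_bot]
        exact Subtype.ext h1
      · rcases hLmin _ hLN inf_le_left with h' | h'
        · exact absurd (h.symm.trans h') hN0'
        · exact h'.symm.trans h
    obtain ⟨T, instT, m, e, hTs, hTna, hm, hst⟩ :=
      Cfsg.Agent.S0723.result V (N.subgroupOf V) hN0' hminV huniq hnab a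
    have hfinT : Finite T := by
      have : Finite (Fin m → T) := Finite.of_equiv _ e.toEquiv
      exact Finite.of_injective (fun (t : T) (_ : Fin m) => t) fun s t h => congrFun h ⟨0, hm⟩
    have hd := hDS T hTna
    have hst0 : ∀ n : N, (((eN.symm n : N.subgroupOf V) : V) ∈ MulAction.stabilizer V a) ↔ (n : Perm Ω) a = a :=
      fun n => Iff.rfl
    rcases hst with ⟨K, -, hK⟩ | ⟨k, c, hk, hc, hK⟩
    · refine good_of_product h5 htr hNalt a hC hNV hVN hmin ⟨0, hm⟩ hTna hd (eN.symm.trans e) K ?_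
      intro n
      rw [← hst0, hK]
      rfl
    · have hK' : ∀ n : N, (n : Perm Ω) a = a ↔ ∀ i j, c i = c j → (eN.symm.trans e) n i = (eN.symm.trans e) n j := by
        intro n
        rw [← hst0, hK]
        rfl
      by_cases hcc : ∀ i j, c i = c j
      · refine good_of_diag h5 htr hNalt a hC hVN hTna hd (eN.symm.trans e) ?_
        intro n
        rw [hK']
        exact ⟨fun h i j => h i j (hcc i j), fun h i j _ => h i j⟩
      · push Not at hcc
        obtain ⟨i₁, i₂, hne⟩ := hcc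
        exact good_of_compound (by omega) htr a hVN hTna (eN.symm.trans e) hK' hk hc hne
  · -- regular
    have hW := isPreprimitive_of_le hVN hp
    set W := Subgroup.normalizer (N : Set (Perm Ω)) with hWdef
    have hCW : Subgroup.centralizer (N : Set (Perm Ω)) ≤ W := Subgroup.centralizer_le_normalizer _
    have hCn : ((Subgroup.centralizer (N : Set (Perm Ω))).subgroupOf W).Normal := by
      rw [← Subgroup.normalizerMonoidHom_ker]
      infer_instance
    have hfixC : MulAction.fixedPoints ((Subgroup.centralizer (N : Set (Perm Ω))).subgroupOf W) Ω ≠ Set.univ := by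
      intro h
      apply hC
      rw [eq_bot_iff]
      intro x hx
      rw [Subgroup.mem_bot]
      apply Equiv.ext
      intro y
      have hy : y ∈ MulAction.fixedPoints ((Subgroup.centralizer (N : Set (Perm Ω))).subgroupOf W) Ω := by
        rw [h]; exact Set.mem_univ y
      exact hy ⟨⟨x, hCW hx⟩, hx⟩
    have htrC : MulAction.IsPretransitive ((Subgroup.centralizer (N : Set (Perm Ω))).subgroupOf W) Ω :=
      MulAction.IsQuasiPreprimitive.isPretransitive_of_normal hfixC
    have hreg : ∀ n ∈ N, n a = a → n = 1 := by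
      intro n hn hna
      apply Equiv.ext
      intro b
      obtain ⟨z, hz⟩ := MulAction.exists_smul_eq ((Subgroup.centralizer (N : Set (Perm Ω))).subgroupOf W) a b
      have hz' : ((z : W) : Perm Ω) a = b := hz
      have hzc : ((z : W) : Perm Ω) ∈ Subgroup.centralizer (N : Set (Perm Ω)) := z.2
      rw [Subgroup.mem_centralizer_iff] at hzc
      have h1 := congrArg (fun g : Perm Ω => g a) (hzc n hn)
      simp only [Perm.mul_apply] at h1
      rw [hna, hz'] at h1
      exact h1
    obtain ⟨T, instT, m, hTs, hm, ⟨e⟩⟩ := Cfsg.Agent.S0721.result (N.subgroupOf V) hN0' hminV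
    have hfinT : Finite T := by
      have : Finite (Fin m → T) := Finite.of_equiv _ e.toEquiv
      exact Finite.of_injective (fun (t : T) (_ : Fin m) => t) fun s t h => congrFun h ⟨0, hm⟩
    by_cases hTc : IsMulCommutative T
    · refine good_of_regular (i := 1) (j := 5) h5 htr hNalt a hreg hVN ?_ (ps_mulAut_pow hTc (eN.symm.trans e)) le_rfl
      refine PS.of_bot ?_
      rw [derivedSeries_one, eq_bot_iff, commutator_def, Subgroup.commutator_le]
      intro x _ y _
      rw [Subgroup.mem_bot, commutatorElement_eq_one_iff_mul_comm]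
      apply (eN.symm.trans e).injective
      rw [map_mul, map_mul]
      funext i
      exact hTc.is_comm.comm _ _
    · have hd := hDS T hTc
      have h6 : PS 6 (MulAut (Fin m → T)) := by
        refine PS.of_ker (a := 3) (b := 3) (f := AutPow.perm hTc) ?_ (AutPow.ps_ker hTc hd) (ps_perm (Fin m))
        intro σ
        exact ⟨_, AutPow.perm_permAut hTc σ⟩
      refine good_of_regular (i := 0) (j := 6) h5 htr hNalt a hreg hVN ?_ ?_ le_rfl
      · exact PS.of_equiv (eN.symm.trans e).symm (PS.pi fun _ => ps_zero_simple hTc)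
      · exact PS.of_equiv (MulAut.congr (eN.symm.trans e)).symm h6

theorem good_all (h5 : 5 ≤ Nat.card Ω) {V : Subgroup (Perm Ω)} (hV : ¬ alternatingGroup Ω ≤ V)
    (hDS : ∀ (T : Type) [Group T] [Finite T] [IsSimpleGroup T], ¬ IsMulCommutative T → DS 3 T) : Good V := by
  by_cases hp : MulAction.IsPreprimitive V Ω
  · exact good_of_prim h5 hp hV hDS
  · exact good_of_not_prim (by omega) hp

/-- **The main theorem**, modulo the bound `3` for the derived length of the outer automorphism groups of the finite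
simple groups. -/
theorem ps_maximal (hDS : ∀ (T : Type) [Group T] [Finite T] [IsSimpleGroup T], ¬ IsMulCommutative T → DS 3 T) :
    (∀ H : Subgroup (Perm Ω), IsCoatom H → PS 6 H) ∧
      ∀ H : Subgroup (alternatingGroup Ω), IsCoatom H → PS 6 H := by
  by_cases h5 : 5 ≤ Nat.card Ω
  · refine reduction (by norm_num) h5 ?_
    intro V hV hmax
    obtain ⟨W, h1, h2, h3⟩ := good_all h5 hV hDS
    rw [hmax W h1 h2] at h3
    exact h3
  · have h4 : Nat.card Ω ≤ 4 := by omega
    refine ⟨fun H _ => small_case (by norm_num) h4 H.subtype H.subtype_injective, fun H _ => ?_⟩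
    exact small_case (by norm_num) h4 ((alternatingGroup Ω).subtype.comp H.subtype)
      ((alternatingGroup Ω).subtype_injective.comp H.subtype_injective)

end Cfsg.Agent.H936
end
end

-- part: H429/RegPerm
section
prune_inst 0x400000
set_option linter.all false
open scoped Cfsg.Agent.FastGrp

/-!
# The permutation of the simple factors of a minimal normal subgroup (helper429, S3692)

`gp hT e : G →* Perm (Fin m)` for a normal subgroup `M` with `e : M ≃* (Fin m → T)`.
-/

set_option autoImplicit false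

namespace Cfsg.Agent.H429.Reg

open Subgroup Cfsg.Agent.H936

section

variable {G : Type*} [Group G] (M : Subgroup G) [hM : M.Normal]

/-- `G` as a group normalising `M`. -/
def nrm : G →* ↥(normalizer (M : Set G)) :=
  (MonoidHom.id G).codRestrict _ (fun g => by rw [normalizer_eq_top]; trivial)

variable {M} {m : ℕ} {T : Type*} [Group T]

/-- The action on `T ^ m`. -/
def cja (e : M ≃* (Fin m → T)) : G →* MulAut (Fin m → T) := (cjHom e).comp (nrm M)

theorem cja_apply (e : M ≃* (Fin m → T)) (g : G) (n n' : M) (h : g * n * g⁻¹ = n') :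
    cja e g (e n) = e n' := cjHom_apply e (nrm M g) n n' h

theorem cja_mem (e : M ≃* (Fin m → T)) (n : M) : cja e (n : G) = MulAut.conj (e n) :=
  cjHom_mem e n _

variable [IsSimpleGroup T] (hT : ¬ IsMulCommutative T)

/-- The permutation of the factors. -/
noncomputable def gp (e : M ≃* (Fin m → T)) : G →* Equiv.Perm (Fin m) := (AutPow.perm hT).comp (cja e)

theorem gp_mem (e : M ≃* (Fin m → T)) (n : M) : gp hT e (n : G) = 1 := by
  change AutPow.perm hT (cja e (n : G)) = 1
  rw [cja_mem, AutPow.perm_conj]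

theorem gp_spec (e : M ≃* (Fin m → T)) (g : G) :
    ∃ φ : Fin m → MulAut T, ∀ x i, cja e g x (gp hT e g i) = φ i (x i) := AutPow.perm_spec hT _

theorem gp_one_iff (e : M ≃* (Fin m → T)) (g : G) (n n' : M) (h : g * n * g⁻¹ = n') (i : Fin m) :
    e n' (gp hT e g i) = 1 ↔ e n i = 1 := by
  rw [← cja_apply e g n n' h]
  exact AutPow.perm_one_iff hT _ _ _

omit [IsSimpleGroup T] in
theorem inv_mul_mem_centralizer (e : M ≃* (Fin m → T)) {k : G} {n : M} (h : cja e k = MulAut.conj (e n)) :
    (n : G)⁻¹ * k ∈ centralizer (M : Set G) := by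
  have h1 : ∀ x : M, k * x * k⁻¹ = (n : G) * x * (n : G)⁻¹ := by
    intro x
    have h2 : k * x * k⁻¹ ∈ M := hM.conj_mem _ x.2 k
    have h3 := cja_apply e k x ⟨_, h2⟩ rfl
    rw [h, MulAut.conj_apply, ← map_inv, ← map_mul, ← map_mul] at h3
    exact (congrArg Subtype.val (e.injective h3)).symm
  rw [mem_centralizer_iff]
  intro x hx
  have h3 := h1 ⟨x, hx⟩
  have h4 : k * x = (n : G) * x * (n : G)⁻¹ * k := by
    rw [← h3]; group
  rw [mul_assoc, h4]
  group

/-- **A perfect subgroup acting trivially on the factors lies in `M C(M)`** (Schreier). -/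
theorem exists_of_perfect {d : ℕ} (hd : DS d T) (e : M ≃* (Fin m → T)) {Y : Subgroup G} (hY : ⁅Y, Y⁆ = Y)
    (hp : ∀ y ∈ Y, gp hT e y = 1) {y : G} (hy : y ∈ Y) :
    ∃ n : M, (n : G)⁻¹ * y ∈ centralizer (M : Set G) := by
  have hder : ∀ j, derivedSeries Y j = ⊤ := by
    intro j
    induction j with
    | zero => rfl
    | succ j ih =>
      rw [derivedSeries_succ, ih]
      apply Subgroup.map_injective Y.subtype_injective
      rw [Subgroup.map_commutator, ← MonoidHom.range_eq_map, Subgroup.range_subtype, hY]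
  obtain ⟨z, hz⟩ := AutPow.map_derivedSeries_le_conj hT hd ((cja e).comp Y.subtype)
    (fun k => hp k k.2) (k := ⟨y, hy⟩) (by rw [hder]; trivial)
  obtain ⟨n, rfl⟩ := e.surjective z
  exact ⟨n, inv_mul_mem_centralizer e hz⟩

/-- The permutation group induced on the factors is transitive. -/
theorem exists_gp (hmin : ∀ X : Subgroup G, X.Normal → X ≤ M → X = ⊥ ∨ X = M) (e : M ≃* (Fin m → T)) (i₀ i : Fin m) :
    ∃ v : G, gp hT e v i₀ = i := by
  classical
  by_contra hcon
  push Not at hcon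
  let O : Set (Fin m) := {j | ∃ v : G, gp hT e v i₀ = j}
  let X' : Subgroup M :=
    { carrier := {n | ∀ j ∉ O, e n j = 1}
      one_mem' := fun j _ => by rw [map_one]; rfl
      mul_mem' := fun {x y} hx hy j hj => by rw [map_mul, Pi.mul_apply, hx j hj, hy j hj, one_mul]
      inv_mem' := fun {x} hx j hj => by rw [map_inv, Pi.inv_apply, hx j hj, inv_one] }
  have hX' : ∀ n, n ∈ X' ↔ ∀ j ∉ O, e n j = 1 := fun n => Iff.rfl
  let X : Subgroup G := X'.map M.subtype
  have hX : ∀ n : M, (n : G) ∈ X ↔ n ∈ X' := by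
    intro n
    constructor
    · rintro ⟨n', hn', h⟩
      have : n' = n := Subtype.ext h
      exact this ▸ hn'
    · exact fun h => ⟨n, h, rfl⟩
  have hXM : X ≤ M := by
    rintro _ ⟨n, -, rfl⟩
    exact n.2
  have hXn : X.Normal := by
    refine ⟨fun n hn v => ?_⟩
    have hn' : (⟨n, hXM hn⟩ : M) ∈ X' := (hX _).1 hn
    have hc : v * n * v⁻¹ ∈ M := hM.conj_mem _ (hXM hn) v
    refine (hX ⟨_, hc⟩).2 ?_
    intro j hj
    obtain ⟨i', rfl⟩ := (gp hT e v).surjective j
    rw [gp_one_iff hT e v ⟨n, hXM hn⟩ ⟨_, hc⟩ rfl]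
    apply hn'
    rintro ⟨u, hui⟩
    apply hj
    exact ⟨v * u, by rw [map_mul, Equiv.Perm.mul_apply, hui]⟩
  obtain ⟨t, ht⟩ := exists_ne (1 : T)
  rcases hmin X hXn hXM with h | h
  · have h2 : ((e.symm (Pi.mulSingle i₀ t) : M) : G) ∈ X := by
      rw [hX]
      intro j hj
      rw [e.apply_symm_apply, Pi.mulSingle_eq_of_ne]
      rintro rfl
      apply hj
      exact ⟨1, by rw [map_one]; rfl⟩
    rw [h, Subgroup.mem_bot] at h2
    have h3 : e.symm (Pi.mulSingle i₀ t) = 1 := Subtype.ext h2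
    rw [MulEquiv.symm_apply_eq, map_one, Pi.mulSingle_eq_one_iff] at h3
    exact ht h3
  · have h2 : ((e.symm (Pi.mulSingle i t) : M) : G) ∈ X := by
      rw [h]
      exact (e.symm (Pi.mulSingle i t)).2
    rw [hX] at h2
    have h3 := h2 i (by
      rintro ⟨v, h⟩
      exact hcon v h)
    rw [e.apply_symm_apply, Pi.mulSingle_eq_same] at h3
    exact ht h3

include hT in
/-- In the product case, the factors of `M ⊓ K` have the same index. -/
theorem index_eq {K : Subgroup G} (hKM : ∀ g : G, ∃ n ∈ M, g * n ∈ K)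
    (hmin : ∀ X : Subgroup G, X.Normal → X ≤ M → X = ⊥ ∨ X = M)
    (e : M ≃* (Fin m → T)) (L : Fin m → Subgroup T)
    (hL : ∀ n : M, (n : G) ∈ K ↔ ∀ i, e n i ∈ L i) (i₀ i : Fin m) : (L i₀).index = (L i).index := by
  classical
  obtain ⟨v₀, hv₀⟩ := exists_gp hT hmin e i₀ i
  obtain ⟨n₀, hn₀, hv⟩ := hKM v₀
  set v := v₀ * n₀ with hvdef
  have hvi : gp hT e v i₀ = i := by
    have h1 := gp_mem hT e ⟨n₀, hn₀⟩
    rw [hvdef, map_mul]
    change gp hT e n₀ = 1 at h1
    rw [h1, mul_one, hv₀]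
  obtain ⟨φ, hφ⟩ := gp_spec hT e v
  have h3 : ∀ t, t ∈ L i₀ ↔ φ i₀ t ∈ L i := by
    intro t
    set n : M := e.symm (Pi.mulSingle i₀ t) with hn
    have hc : v * n * v⁻¹ ∈ M := hM.conj_mem _ n.2 v
    have h4 := cja_apply e v n ⟨_, hc⟩ rfl
    have hen : e n = Pi.mulSingle i₀ t := e.apply_symm_apply _
    have h5 : e ⟨_, hc⟩ i = φ i₀ t := by
      rw [← h4, hen]
      have := hφ (Pi.mulSingle i₀ t) i₀
      rwa [hvi, Pi.mulSingle_eq_same] at this
    have h6 : ∀ j, j ≠ i → e ⟨_, hc⟩ j = 1 := by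
      intro j hj
      obtain ⟨l, rfl⟩ := (gp hT e v).surjective j
      rw [← h4, hen, hφ]
      have hl : l ≠ i₀ := by
        rintro rfl
        exact hj hvi
      rw [Pi.mulSingle_eq_of_ne hl, map_one]
    have h7 : (n : G) ∈ K ↔ t ∈ L i₀ := by
      rw [hL, hen]
      constructor
      · intro h
        have := h i₀
        rwa [Pi.mulSingle_eq_same] at this
      · intro h j
        by_cases hj : j = i₀
        · subst hj
          rwa [Pi.mulSingle_eq_same]
        · rw [Pi.mulSingle_eq_of_ne hj]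
          exact (L j).one_mem
    have h8 : v * n * v⁻¹ ∈ K ↔ φ i₀ t ∈ L i := by
      have h9 := hL ⟨_, hc⟩
      rw [← h5]
      refine h9.trans ?_
      constructor
      · exact fun h => h i
      · intro h j
        by_cases hj : j = i
        · subst hj
          exact h
        · rw [h6 j hj]
          exact (L j).one_mem
    rw [← h7, ← h8]
    constructor
    · intro h
      exact K.mul_mem (K.mul_mem hv h) (K.inv_mem hv)
    · intro h
      have h9 := K.mul_mem (K.mul_mem (K.inv_mem hv) h) hv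
      have h10 : v⁻¹ * (v * (n : G) * v⁻¹) * v = n := by group
      rwa [h10] at h9
  have h4 : L i₀ = (L i).comap (φ i₀).toMonoidHom := by
    ext t
    exact h3 t
  rw [h4]
  exact index_comap_of_surjective _ (φ i₀).surjective

end

end Cfsg.Agent.H429.Reg

private theorem dce_3154b51a2fa7 : _root_.True := by
  try have : _root_.True := by simp only [_root_.Cfsg.Agent.H429.Reg.gp.congr_simp]
  exact _root_.True.intro
end
end
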