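import Cfsg.Agent.StandardComponent.AltAut
import Cfsg.Agent.OddCyclic.EmpFFAlt
import Cfsg.Agent.S0254
import Cfsg.Agent.DS.Cl.Grp
import Cfsg.Prelude.Def_Classification2
import Cfsg.Prelude.Def_KGroupFacts
import Cfsg.Agent.S2060
import Cfsg.Agent.S2061
import Cfsg.Agent.S2062
import Cfsg.Agent.S2063
import Cfsg.Agent.S2064
import Cfsg.Agent.S2065
import Cfsg.Agent.S2066
import Cfsg.Agent.S2067
import Cfsg.Agent.S2068
import Cfsg.Agent.S2069
import Cfsg.Agent.S2070
import Cfsg.Agent.S2071
import Cfsg.Agent.S2072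
import Cfsg.Agent.S2073
import Cfsg.Agent.S2074
import Cfsg.Agent.S2075
import Cfsg.Agent.S2076
import Cfsg.Agent.S2077
import Cfsg.Agent.S2078
import Cfsg.Agent.S2079
import Cfsg.Agent.S2080
import Cfsg.Agent.S2081
import Cfsg.Agent.S2082
import Cfsg.Agent.S2083
import Cfsg.Agent.S2084
import Cfsg.Agent.S2085
import Cfsg.Agent.DS.Gen.Split
import Cfsg.Agent.H71.FldAut
import Cfsg.Agent.Schreier.ClassBase
import Cfsg.Prelude.Def_LieTwisted
import Cfsg.Agent.EvenType.ChevTwoTits
import Cfsg.Agent.FourTwo.Perf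
import Cfsg.Agent.FastGrp
import Cfsg.Agent.Prune
set_option linter.all false

section
prune_inst 0x7f00000000000000000000000000000000000000000000000000000000000000000000000000000000000000000000000000000000000000000000000000000000000000000000000000000000000000003fffffffffffffffffffffffffffbeffbdffffffff

-- part: H936/DSAlt_mg
section
set_option linter.all false
open scoped Cfsg.Agent.FastGrp

-- part: H936/DSAlt
section
/-!
# Derived length of `Out` for the alternating groups
-/

set_option autoImplicit false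

namespace Cfsg.Agent.H936

open Equiv

theorem ds_of_conj {n : ℕ} (h : ∀ e : MulAut (alternatingGroup (Fin n)), ∃ σ : Perm (Fin n),
    ∀ x : alternatingGroup (Fin n), (e x : Perm (Fin n)) = σ * x * σ⁻¹) : DS 1 (alternatingGroup (Fin n)) := by
  apply ds_one_of_sq
  intro α
  obtain ⟨σ, hσ⟩ := h α
  have hs : σ * σ ∈ alternatingGroup (Fin n) := by
    rw [Perm.mem_alternatingGroup, map_mul]
    rcases Int.units_eq_one_or (Perm.sign σ) with h | h <;> rw [h] <;> decide
  refine ⟨⟨σ * σ, hs⟩, ?_⟩
  apply MulEquiv.ext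
  intro x
  apply Subtype.ext
  rw [MulAut.mul_apply, hσ, hσ, MulAut.conj_apply]
  push_cast
  group

theorem ds_alt {G : Type*} [Group G] (h : Cfsg.IsAlternating G) : DS 2 G := by
  obtain ⟨n, hn, ⟨e⟩⟩ := h
  refine DS.of_equiv e.symm ?_
  rcases Nat.lt_or_ge n 7 with h7 | h7
  · by_cases h5 : n = 5
    · subst h5
      exact (ds_of_conj Cfsg.Agent.OddCyclic.EmpFFAlt.exists_conj).mono (by norm_num)
    · obtain rfl : n = 6 := by omega
      let F := GaloisField 3 2
      have : Fact (Nat.Prime 3) := ⟨Nat.prime_three⟩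
      have hF : Fintype F := Fintype.ofFinite F
      have hc : Fintype.card F = 9 := by
        rw [← Nat.card_eq_fintype_card, GaloisField.card 3 2 (by norm_num)]
        norm_num
      obtain ⟨f⟩ := Cfsg.Agent.S0254.result (F := F) hc
      exact DS.of_equiv f (ds_psl (F := F) (n := 2) le_rfl)
  · obtain ⟨m, rfl⟩ := Nat.exists_eq_add_of_le' (show 2 ≤ n by omega)
    exact (ds_of_conj (Cfsg.Agent.StandardComponent.AltAut.exists_conj (by omega))).mono (by norm_num)

end Cfsg.Agent.H936
end

-- part: H936/DSSpor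
section
/-!
# Derived length of `Out` for the sporadic groups
-/

set_option autoImplicit false

namespace Cfsg.Agent.H936

open Cfsg

theorem ds_of_card_one {K : Type*} [Group K] (h : Nat.card (Cfsg.Out K) = 1) : DS 1 K := by
  have h1 : (Cfsg.Inn K).index = 1 := h
  exact ds_one_of_index (by rw [show ((MulAut.conj : K →* MulAut K).range).index = 1 from h1]; norm_num)
    (by rw [show ((MulAut.conj : K →* MulAut K).range).index = 1 from h1]; norm_num)

theorem ds_of_card_two {K : Type*} [Group K] (h : Nat.card (Cfsg.Out K) = 2) : DS 1 K := by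
  have h1 : (Cfsg.Inn K).index = 2 := h
  exact ds_one_of_index (by rw [show ((MulAut.conj : K →* MulAut K).range).index = 2 from h1]; norm_num)
    (by rw [show ((MulAut.conj : K →* MulAut K).range).index = 2 from h1])

/-- **The sporadic groups.** -/
theorem ds_sporadic {G : Type*} [Group G] (h : IsSporadicGroup G) : DS 1 G := by
  rcases h with h | h | h | h | h | h | h | h | h | h | h | h | h | h | h | h | h | h | h |
      h | h | h | h | h | h | h
  · obtain ⟨e⟩ := h; exact DS.of_equiv e.symm (ds_of_card_one S2060.result)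
  · obtain ⟨e⟩ := h; exact DS.of_equiv e.symm (ds_of_card_two S2061.result)
  · obtain ⟨e⟩ := h; exact DS.of_equiv e.symm (ds_of_card_two S2062.result)
  · obtain ⟨e⟩ := h; exact DS.of_equiv e.symm (ds_of_card_one S2063.result)
  · obtain ⟨e⟩ := h; exact DS.of_equiv e.symm (ds_of_card_one S2064.result)
  · obtain ⟨e⟩ := h; exact DS.of_equiv e.symm (ds_of_card_one S2065.result)
  · obtain ⟨e⟩ := h; exact DS.of_equiv e.symm (ds_of_card_two S2066.result)
  · obtain ⟨F, _, _, ω, hF, hω, ⟨e⟩⟩ := h
    exact DS.of_equiv e.symm (ds_of_card_two (S2067.result hF ω hω))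
  · obtain ⟨e⟩ := h; exact DS.of_equiv e.symm (ds_of_card_one S2068.result)
  · obtain ⟨e⟩ := h; exact DS.of_equiv e.symm (ds_of_card_one S2069.result)
  · obtain ⟨e⟩ := h; exact DS.of_equiv e.symm (ds_of_card_one S2070.result)
  · obtain ⟨e⟩ := h; exact DS.of_equiv e.symm (ds_of_card_one S2071.result)
  all_goals obtain ⟨e⟩ := h
  all_goals first
    | exact DS.of_equiv e.symm (ds_of_card_two S2072.result)
    | exact DS.of_equiv e.symm (ds_of_card_two S2073.result)
    | exact DS.of_equiv e.symm (ds_of_card_two S2074.result)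
    | exact DS.of_equiv e.symm (ds_of_card_two S2075.result)
    | exact DS.of_equiv e.symm (ds_of_card_one S2076.result)
    | exact DS.of_equiv e.symm (ds_of_card_one S2077.result)
    | exact DS.of_equiv e.symm (ds_of_card_two S2078.result)
    | exact DS.of_equiv e.symm (ds_of_card_two S2079.result)
    | exact DS.of_equiv e.symm (ds_of_card_one S2080.result)
    | exact DS.of_equiv e.symm (ds_of_card_two S2081.result)
    | exact DS.of_equiv e.symm (ds_of_card_two S2082.result)
    | exact DS.of_equiv e.symm (ds_of_card_one S2083.result)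
    | exact DS.of_equiv e.symm (ds_of_card_one S2084.result)
    | exact DS.of_equiv e.symm (ds_of_card_one S2085.result)

end Cfsg.Agent.H936
end
end

-- part: H936/DSRee
section
set_option linter.all false
open scoped Cfsg.Agent.FastGrp

/-!
# Derived length of `Out` for `²G₂(q)` and `²F₄(q)`
-/

set_option autoImplicit false

namespace Cfsg.Agent.H936

open Cfsg.Lie

theorem derivedSeries_comm' {A : Type*} [Group A] (h : ∀ a b : A, a * b = b * a) :
    derivedSeries A 1 = ⊥ := by
  rw [eq_bot_iff, derivedSeries_succ, derivedSeries_zero, Subgroup.commutator_le]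
  intro a _ b _
  rw [Subgroup.mem_bot, commutatorElement_eq_one_iff_mul_comm]
  exact h a b

theorem ds_of_fld {F : Type*} [Field F] [Finite F] {K : Type*} [Group K] (f : (F ≃+* F) → MulAut K)
    (hf : ∀ τ ρ, f (τ * ρ) = f τ * f ρ) (h : ∀ α : MulAut K, ∃ g τ, α = MulAut.conj g * f τ) : DS 1 K := by
  refine ds_of_hom (MonoidHom.mk' f hf) 1 (fun α => ?_) ?_
  · obtain ⟨g, τ, h⟩ := h α
    exact ⟨g, τ, h⟩
  · rw [derivedSeries_comm' (fun a b => Schreier.ClassBase.ringAut_comm a b), Subgroup.map_bot]
    exact bot_le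

theorem ds_ree {G : Type*} [Group G] (h : IsoRee G) : DS 1 G := by
  obtain ⟨K, _, _, m, hm, hK, ⟨e⟩⟩ := h
  exact DS.of_equiv e.symm (ds_of_fld (fun τ => S2127.fld τ (3 ^ m)) (fun τ ρ => H71.FldAut.fldG_mul τ ρ (3 ^ m))
    (H71.FldAut.ree_aut hm hK))

theorem ds_2f4 {G : Type*} [Group G] (h : Iso2F4 G) : DS 1 G := by
  obtain ⟨K, _, _, m, hm, hK, ⟨e⟩⟩ := h
  exact DS.of_equiv e.symm (ds_of_fld (fun τ => S2128.fld τ (2 ^ m)) (fun τ ρ => H71.FldAut.fldF_mul τ ρ (2 ^ m))
    (H71.FldAut.twF4_aut hm hK))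

end Cfsg.Agent.H936
end

-- part: H936/DSTits
section
set_option linter.all false
open scoped Cfsg.Agent.FastGrp

/-!
# Derived length of `Out` for the Tits group
-/

set_option autoImplicit false

namespace Cfsg.Agent.H936

open Cfsg

theorem ds_of_dvd_two {K : Type*} [Group K] (h : (MulAut.conj : K →* MulAut K).range.index ∣ 2) : DS 1 K :=
  ds_one_of_index (fun h0 => by rw [h0, zero_dvd_iff] at h; exact absurd h (by norm_num))
    (Nat.le_of_dvd (by norm_num) h)

theorem ds_tits_TT : DS 1 ↥Cfsg.Agent.TitsK.TT := by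
  have hfin : Finite Cfsg.Agent.FourTwo.Base.LL := Cfsg.Agent.FourTwo.Perf.instFiniteLL
  have h := Cfsg.Agent.TitsK.tdata.index_inn
  refine ds_of_dvd_two ?_
  refine dvd_trans ?_ h
  exact dvd_refl _

theorem ds_tits {K : Type*} [Group K] (h : Lie.IsoTits K) : DS 1 K := by
  obtain ⟨e⟩ := h
  obtain ⟨e'⟩ := Cfsg.Agent.TitsK.exists_equiv
  have h1 := ds_tits_TT
  exact DS.of_equiv (K := ↥Cfsg.Agent.TitsK.TT) (e.trans e').symm h1

end Cfsg.Agent.H936
end
end
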