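import Cfsg.Prelude.Def_Classification2
import Cfsg.Agent.H936.DSAlt_mg_m3
import Cfsg.Agent.DS.Cl.Grp
import Cfsg.Agent.H936.DSTw
import Cfsg.Agent.Prune
set_option linter.all false
prune_inst 0x7f00000000000000000000000000000000000000000000000000000000000000000000000000000000000000000000000000000000000000000000000000000000000000000000000000000000000000003fffffffffffffffffffffffffffbeffbdffffffff
open scoped Cfsg.Agent.FastGrp

/-!
# Derived length of `Out` for the known finite simple groups
-/

set_option autoImplicit false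

namespace Cfsg.Agent.H936

open Cfsg

theorem ds_isPSL {G : Type*} [Group G] (h : IsPSL G) : DS 2 G := by
  obtain ⟨F, _, _, n, hn, -, ⟨e⟩⟩ := h
  exact DS.of_equiv e.symm (ds_psl hn)

theorem ds_isPSp {G : Type*} [Group G] (h : IsPSp G) : DS 3 G := by
  obtain ⟨F, _, _, m, hm, h2, ⟨e⟩⟩ := h
  exact DS.of_equiv e.symm (ds_psp hm fun h3 => by
    rw [Nat.card_eq_fintype_card]; exact h2 h3)

theorem ds_isPSU {G : Type*} [Group G] (h : IsPSU G) : DS 2 G := by
  obtain ⟨F, iF, iF', n, q, hF, hn, h32, ⟨e⟩⟩ := h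
  exact DS.of_equiv e.symm (ds_psu hF hn h32)

theorem ds_pomegaOdd {G : Type*} [Group G] (h : IsPOmegaOdd G) : DS 3 G := by
  obtain ⟨F, _, _, m, hm, hodd, ⟨e⟩⟩ := h
  exact DS.of_equiv e.symm (ds_odd hm
    (Cfsg.Agent.LieClassical.PomegaCard.odd_card_iff.1 hodd))

theorem ds_pomegaPlus {G : Type*} [Group G] (h : IsPOmegaPlus G) : DS 3 G := by
  obtain ⟨F, _, _, m, hm, ⟨e⟩⟩ := h
  exact DS.of_equiv e.symm (ds_plus' hm)

theorem ds_pomegaMinus {G : Type*} [Group G] (h : IsPOmegaMinus G) : DS 3 G := by
  obtain ⟨F, _, _, m, a, b, hm, hab, ⟨e⟩⟩ := h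
  exact DS.of_equiv e.symm (ds_minus hm a b hab)

/-- **The outer automorphism group of a known non-abelian finite simple group has derived length at most three.** -/
theorem ds_known {G : Type*} [Group G] (hG : ¬ IsMulCommutative G) (h : IsKnownSimple' G) : DS 3 G := by
  rcases h with h | h | h | h | h | h | h | h | h | h
  · exfalso
    apply hG
    have h1 : Fact (Nat.card G).Prime := ⟨h⟩
    have h2 : IsCyclic G := isCyclic_of_prime_card (p := Nat.card G) rfl
    exact IsCyclic.isMulCommutative
  · exact (ds_alt h).mono (by norm_num)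
  · exact (ds_isPSL h).mono (by norm_num)
  · exact ds_isPSp h
  · exact (ds_isPSU h).mono (by norm_num)
  · exact ds_pomegaOdd h
  · exact ds_pomegaPlus h
  · exact ds_pomegaMinus h
  · rcases h with h | h | h | h | h | h | h | h | h | h | h
    · exact ds_chevG2 h
    · exact ds_f4 h
    · exact ds_e6 h
    · exact ds_e7 h
    · exact ds_e8 h
    · exact ds_2e6 h
    · exact ds_3d4 h
    · exact (ds_suzuki h).mono (by norm_num)
    · exact (ds_ree h).mono (by norm_num)
    · exact (ds_2f4 h).mono (by norm_num)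
    · exact (ds_tits h).mono (by norm_num)
  · exact (ds_sporadic h).mono (by norm_num)

end Cfsg.Agent.H936
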