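import Cfsg.Agent.H489.DegCo
import Cfsg.Agent.H806.LsFiTwo_m3
import Cfsg.Agent.H936.List12
import Cfsg.Agent.H203.LSTor_m3
import Cfsg.Agent.H921.SporLe
import Cfsg.Agent.H489.DegRu_m3
import Cfsg.Agent.H906.Cover_m3
import Cfsg.Agent.H806.LsFiLe
import Cfsg.Agent.OddHalf.Known
import Cfsg.Agent.Prune
set_option linter.all false

section
prune_inst 0x7f00000000000000000000000000000000000000000000000000000000000000000000000000000000000000000000000000000000000000000000000000000000000000000000000000000000000000003fffffffffffffffffffffffffffbeffbdffffffff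

-- part: H936/List12b
section
set_option linter.all false
open scoped Cfsg.Agent.FastGrp

-- part: H489/DegCo2
section
/-!
# `HS` and `McL`: degree at least 13, every characteristic, every cover (helper489)
-/

set_option autoImplicit false

universe u v

namespace Cfsg.Agent.H489.Deg.Co

open Cfsg Cfsg.Agent.H912.Bd Cfsg.Agent.H921.Spor Cfsg.Agent.H915.LD
open Matrix (GeneralLinearGroup)

/-- **The Higman–Sims group: degree at least 13.** -/
theorem hs_le {p : ℕ} (hp : p.Prime) {F : Type u} [Field F] [Finite F] [CharP F p] {n : ℕ}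
    {P : Subgroup (GL (Fin n) F)} (hC : Core P) (e : Soc P ≃* Cfsg.Spor.HS) : 13 ≤ n := by
  by_cases h5 : p = 5
  · have h2 : ((2 : ℕ) : F) ≠ 0 := cast_ne (F := F) hp Nat.prime_two (by omega)
    have hd := hC.card_scalars_dvd e Cfsg.Agent.S2046.result
    rw [Nat.card_congr Multiplicative.toAdd, Nat.card_zmod] at hd
    rcases (Nat.dvd_prime Nat.prime_two).1 hd with h1 | h1
    · have h := (Co.HS_two.bd (F := F) (by norm_num) h2) n (hC.pr e (by rw [h1]; exact Nat.coprime_one_left 2))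
      omega
    · exact HS2.le_of_double (by exact_mod_cast h2) hC e h1
  · have h := le_of_bd hC e Cfsg.Agent.S2046.result (r := 5) (by norm_num)
      (hs_five (F := F) (by exact_mod_cast cast_ne (F := F) hp (by norm_num : (5 : ℕ).Prime) h5))
    omega

/-- **The McLaughlin group: degree at least 15.** -/
theorem mcl_le {p : ℕ} (hp : p.Prime) {F : Type u} [Field F] [Finite F] [CharP F p] {n : ℕ}
    {P : Subgroup (GL (Fin n) F)} (hC : Core P) (e : Soc P ≃* Cfsg.Spor.McL) : 15 ≤ n := by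
  by_cases h2 : p = 2
  · have h := le_of_bd hC e Cfsg.Agent.S2047.result (r := 5) (by norm_num)
      (mcl_five (F := F) (by exact_mod_cast cast_ne (F := F) hp (by norm_num : (5 : ℕ).Prime) (by omega)))
    omega
  · exact le_of_bd hC e Cfsg.Agent.S2047.result (r := 2) (by norm_num)
      (Co.McL_two.bd (F := F) (by norm_num) (cast_ne (F := F) hp Nat.prime_two h2))

end Cfsg.Agent.H489.Deg.Co
end

-- part: H936/List12b
section
/-!
# The list of simple groups in degree at most 12, second version (sporadic groups included)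

`list₁`: `P ≤ GL_n(F)` a core (`H915.LD.Core`), `n ≤ 12`, `char F = p`, `T = P / scalars` a known simple group, not of
Lie type in characteristic `p`: then `AltC p n T`, `LieC p n T`, `MultD p n T`, `Sz8 (p ≠ 2, 7 ≤ n)`, or `T` is one of
`M₁₁ M₁₂ M₂₂ M₂₃ M₂₄ J₁ J₂ J₃ Suz`, or one of the pending groups `SporP p T`.
-/

set_option autoImplicit false

universe u v w

namespace Cfsg.Agent.H936.List12

open Cfsg Cfsg.Geo Cfsg.Agent.H912.Bd Cfsg.Agent.H912.Five Cfsg.Agent.H915.LD

/-- candidates with an exceptional multiplier -/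
def MultD (p n : ℕ) (T : Type v) [Group T] : Prop :=
  (p ≠ 2 ∧ 2 ∣ n ∧ (IsL 2 7 T ∨ IsL 3 4 T ∨ (p ≠ 3 ∧ IsU 4 2 T) ∨ IsS 3 2 T ∨ IsOP 4 2 T ∨ H912.Bd.IsG2 4 T)) ∨
  (p ≠ 3 ∧ 3 ∣ n ∧ IsU 4 3 T)

/-- sporadic candidates -/
def SporC (T : Type v) [Group T] : Prop :=
  Spor.IsoM11 T ∨ Spor.IsoM12 T ∨ Spor.IsoM22 T ∨ Spor.IsoM23 T ∨ Spor.IsoM24 T ∨ Spor.IsoJ1 T ∨ Spor.IsoJ2 T ∨
    Spor.IsoJ3 T ∨ Spor.IsoSuz T

/-- sporadic groups whose exclusion is pending -/
def SporP (p : ℕ) (T : Type v) [Group T] : Prop :=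
  p = 2 ∧ (Spor.IsoFi22 T ∨ Spor.IsoFi23 T ∨ Spor.IsoB T ∨ Spor.IsoM T)

/-- all candidates -/
def CandD (p n : ℕ) (T : Type v) [Group T] : Prop :=
  AltC p n T ∨ LieC p n T ∨ MultD p n T ∨ (p ≠ 2 ∧ 7 ≤ n ∧ IsSz8 T) ∨ SporC T

section

variable {F : Type u} [Field F] [Finite F] {p n : ℕ} [CharP F p] [hp : Fact p.Prime]

theorem exists_nc {P : Subgroup (Matrix.GeneralLinearGroup (Fin n) F)} (hC : Core P) {T : Type v} [Group T]
    (e : Soc P ≃* T) : ∃ g h : T, g * h ≠ h * g := by
  by_contra hcon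
  push Not at hcon
  exact hC.nonabelian ⟨⟨fun a b => e.injective (by rw [map_mul, map_mul, hcon])⟩⟩

/-- **The sporadic groups.** -/
theorem spor_split (hn : n ≤ 12) {P : Subgroup (Matrix.GeneralLinearGroup (Fin n) F)} (hC : Core P)
    (h : IsSporadicGroup (Soc P)) : SporC (Soc P) ∨ SporP p (Soc P) := by
  have hs : IsSimpleGroup (Soc P) := hC.simple
  have hsim : ∀ {T : Type} [Group T], Soc P ≃* T → IsSimpleGroup T := fun e =>
    (MulEquiv.isSimpleGroup_congr e).1 hC.simple
  have hnc : ∀ {T : Type} [Group T], Soc P ≃* T → ∃ g h : T, g * h ≠ h * g := fun e => exists_nc hC e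
  have h2 : p ≠ 2 → ((2 : ℕ) : F) ≠ 0 := fun hp2 => cast_ne Nat.prime_two (Ne.symm hp2)
  unfold SporC SporP
  rcases h with h | h | h | h | h | h | h | h | h | h | h | h | h | h | h | h | h | h | h | h | h | h | h | h | h | h
  · exact Or.inl (by tauto)
  · exact Or.inl (by (solve | repeat (first | with_reducible assumption | exact Or.inl (by with_reducible assumption) | refine Or.inr ?_) | tauto))
  · exact Or.inl (by (solve | repeat (first | with_reducible assumption | exact Or.inl (by with_reducible assumption) | refine Or.inr ?_) | tauto))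
  · exact Or.inl (by (solve | repeat (first | with_reducible assumption | exact Or.inl (by with_reducible assumption) | refine Or.inr ?_) | tauto))
  · exact Or.inl (by (solve | repeat (first | with_reducible assumption | exact Or.inl (by with_reducible assumption) | refine Or.inr ?_) | tauto))
  · exact Or.inl (by (solve | repeat (first | with_reducible assumption | exact Or.inl (by with_reducible assumption) | refine Or.inr ?_) | tauto))
  · exact Or.inl (by (solve | repeat (first | with_reducible assumption | exact Or.inl (by with_reducible assumption) | refine Or.inr ?_) | tauto))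
  · exact Or.inl (by (solve | repeat (first | with_reducible assumption | exact Or.inl (by with_reducible assumption) | refine Or.inr ?_) | tauto))
  · obtain ⟨e⟩ := h
    have := H921.Spor.Le.j4_le hp.out hC e
    omega
  · obtain ⟨e⟩ := h
    have := H921.Spor.Le.co1_le hp.out hC e
    omega
  · obtain ⟨e⟩ := h
    have := H921.Spor.Le.co2_le hp.out hC e
    omega
  · obtain ⟨e⟩ := h
    have := H921.Spor.Le.co3_le hp.out hC e
    omega
  · obtain ⟨e⟩ := h
    have := H489.Deg.Co.mcl_le hp.out hC e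
    omega
  · obtain ⟨e⟩ := h
    have := H489.Deg.Co.hs_le hp.out hC e
    omega
  · exact Or.inl (by (solve | repeat (first | with_reducible assumption | exact Or.inl (by with_reducible assumption) | refine Or.inr ?_) | tauto))
  · obtain ⟨e⟩ := h
    have := H489.Deg.He.he_le hp.out hC e
    omega
  · obtain ⟨e⟩ := h
    have := H489.Deg.Ru.ru_le hp.out hC e
    omega
  · obtain ⟨e⟩ := h
    have := H489.Deg.ON.on_le hp.out hC e
    omega
  · obtain ⟨e⟩ := h
    have := H489.Deg.Ly.ly_le hp.out hC e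
    omega
  · by_cases hp2 : p = 2
    · exact Or.inr ⟨hp2, by tauto⟩
    · exfalso
      obtain ⟨e⟩ := h
      have := hsim e
      have := le_of_ls' hC (h2 hp2) (H806.Ls.fi22_ls_two (hnc e)) ⟨e⟩
      omega
  · by_cases hp2 : p = 2
    · exact Or.inr ⟨hp2, by (solve | repeat (first | with_reducible assumption | exact Or.inl (by with_reducible assumption) | refine Or.inr ?_) | tauto)⟩
    · exfalso
      obtain ⟨e⟩ := h
      have := hsim e
      have := le_of_ls' hC (h2 hp2) (H806.Ls.fi23_ls_two (hnc e)) ⟨e⟩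
      omega
  · obtain ⟨e⟩ := h
    have := H921.Spor.Le.fi24_le hp.out hC e
    omega
  · obtain ⟨e⟩ := h
    have := H489.Deg.HN.hn_le hp.out hC e
    omega
  · obtain ⟨e⟩ := h
    have := H489.Deg.Th.th_le hp.out hC e
    omega
  · by_cases hp2 : p = 2
    · exact Or.inr ⟨hp2, by (solve | repeat (first | with_reducible assumption | exact Or.inl (by with_reducible assumption) | refine Or.inr ?_) | tauto)⟩
    · exfalso
      obtain ⟨e⟩ := h
      have := hsim e
      have := le_of_ls' hC (h2 hp2) (H806.Ls.b_ls_two (hnc e)) ⟨e⟩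
      omega
  · by_cases hp2 : p = 2
    · exact Or.inr ⟨hp2, by (solve | repeat (first | with_reducible assumption | exact Or.inl (by with_reducible assumption) | refine Or.inr ?_) | tauto)⟩
    · exfalso
      obtain ⟨e⟩ := h
      have := hsim e
      have := le_of_ls' hC (h2 hp2) (H806.Ls.m_ls_two (hnc e)) ⟨e⟩
      omega

/-- **The list.** -/
theorem list₁ (hn : n ≤ 12) {P : Subgroup (Matrix.GeneralLinearGroup (Fin n) F)} (hC : Core P)
    (hk : IsKnownSimple' (Soc P)) (hL : ¬ IsLieTypeChar p (Soc P)) :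
    CandD p n (Soc P) ∨ SporP p (Soc P) := by
  have h2 : p ≠ 2 → ((2 : ℕ) : F) ≠ 0 := fun hp2 => cast_ne Nat.prime_two (Ne.symm hp2)
  have h3 : p ≠ 3 → ((3 : ℕ) : F) ≠ 0 := fun hp3 => cast_ne Nat.prime_three (Ne.symm hp3)
  unfold CandD
  rcases list₀ hn hC hk hL with (h | h | (⟨hp2, hn2, h⟩ | h) | ⟨hp3, -, h⟩ | h) | h
  · exact Or.inl (Or.inl h)
  · exact Or.inl (Or.inr (Or.inl h))
  · rcases h with h | h | h | h | h | h | h
    · exact Or.inl (Or.inr (Or.inr (Or.inl (Or.inl ⟨hp2, hn2, by (solve | repeat (first | with_reducible assumption | exact Or.inl (by with_reducible assumption) | refine Or.inr ?_) | tauto)⟩))))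
    · exact Or.inl (Or.inr (Or.inr (Or.inl (Or.inl ⟨hp2, hn2, by (solve | repeat (first | with_reducible assumption | exact Or.inl (by with_reducible assumption) | refine Or.inr ?_) | tauto)⟩))))
    · exact Or.inl (Or.inr (Or.inr (Or.inl (Or.inl ⟨hp2, hn2, by (solve | repeat (first | with_reducible assumption | exact Or.inl (by with_reducible assumption) | refine Or.inr ?_) | tauto)⟩))))
    · exfalso
      obtain ⟨K, iK, iKf, hK, e⟩ := h
      have := le_of_ls' hC (h2 hp2) (H95.LSx.Uni.ls_u62 (by rw [hK]; norm_num)) e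
      omega
    · exact Or.inl (Or.inr (Or.inr (Or.inl (Or.inl ⟨hp2, hn2, by (solve | repeat (first | with_reducible assumption | exact Or.inl (by with_reducible assumption) | refine Or.inr ?_) | tauto)⟩))))
    · exact Or.inl (Or.inr (Or.inr (Or.inl (Or.inl ⟨hp2, hn2, by (solve | repeat (first | with_reducible assumption | exact Or.inl (by with_reducible assumption) | refine Or.inr ?_) | tauto)⟩))))
    · exact Or.inl (Or.inr (Or.inr (Or.inl (Or.inl ⟨hp2, hn2, by (solve | repeat (first | with_reducible assumption | exact Or.inl (by with_reducible assumption) | refine Or.inr ?_) | tauto)⟩))))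
  · exact Or.inl (Or.inr (Or.inr (Or.inl (Or.inr h))))
  · exfalso
    obtain ⟨K, iK, iKf, hK, e⟩ := h
    have := le_of_ls' hC (h3 hp3) (H95.LSx.G23.ls hK) e
    omega
  · exact Or.inl (Or.inr (Or.inr (Or.inr (Or.inl h))))
  · rcases spor_split hn hC h with h | h
    · exact Or.inl (Or.inr (Or.inr (Or.inr (Or.inr h))))
    · exact Or.inr h

end

end Cfsg.Agent.H936.List12
end
end

-- part: H936/List12c
section
set_option linter.all false

/-!
# The list of simple groups in degree at most 12, final version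

`list₂` (index type `Fin n`) and `list` (any index type): `P ≤ GL(ι, F)` a core (`H915.LD.Core`), `card ι ≤ 12`,
`char F = p`, `Soc P = P / scalars` a known simple group, not of Lie type in characteristic `p`: then
`CandD p (card ι) (Soc P)`, where `CandD p n T` is `AltC p n T ∨ LieC p n T ∨ MultD p n T ∨
(p ≠ 2 ∧ 7 ≤ n ∧ IsSz8 T) ∨ SporC T` (files `List12`, `List12b`).
-/

set_option autoImplicit false

universe u v w

namespace Cfsg.Agent.H936.List12

open Cfsg Cfsg.Geo Cfsg.Agent.H912.Bd Cfsg.Agent.H912.Five Cfsg.Agent.H915.LD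

/-! ### Congruences -/

section

variable {S : Type v} {T : Type w} [Group S] [Group T]

theorem ne_congr {X : Type*} [Group X] (e : S ≃* T) (h : Nonempty (S ≃* X)) : Nonempty (T ≃* X) := by
  obtain ⟨f⟩ := h
  exact ⟨e.symm.trans f⟩

theorem isL_congr {m q : ℕ} (e : S ≃* T) (h : IsL m q S) : IsL m q T := by
  obtain ⟨K, i, j, hK, f⟩ := h
  exact ⟨K, i, j, hK, ne_congr e f⟩

theorem isU_congr {m q : ℕ} (e : S ≃* T) (h : IsU m q S) : IsU m q T := by
  obtain ⟨K, i, j, hK, f⟩ := h
  exact ⟨K, i, j, hK, ne_congr e f⟩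

theorem isS_congr {m q : ℕ} (e : S ≃* T) (h : IsS m q S) : IsS m q T := by
  obtain ⟨K, i, j, hK, f⟩ := h
  exact ⟨K, i, j, hK, ne_congr e f⟩

theorem isOP_congr {m q : ℕ} (e : S ≃* T) (h : IsOP m q S) : IsOP m q T := by
  obtain ⟨K, i, j, hK, f⟩ := h
  exact ⟨K, i, j, hK, ne_congr e f⟩

theorem isG2_congr {q : ℕ} (e : S ≃* T) (h : H912.Bd.IsG2 q S) : H912.Bd.IsG2 q T := by
  obtain ⟨K, i, j, hK, f⟩ := h
  exact ⟨K, i, j, hK, ne_congr e f⟩

theorem isSz8_congr (e : S ≃* T) (h : IsSz8 S) : IsSz8 T := by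
  obtain ⟨K, i, j, hK, f⟩ := h
  exact ⟨K, i, j, hK, ne_congr e f⟩

theorem altC_congr {p n : ℕ} (e : S ≃* T) (h : AltC p n S) : AltC p n T := by
  obtain ⟨m, h1, h2, h3, h4, h5, f⟩ := h
  exact ⟨m, h1, h2, h3, h4, h5, ne_congr e f⟩

theorem lieC_congr {p n : ℕ} (e : S ≃* T) (h : LieC p n S) : LieC p n T := by
  rcases h with ⟨q, h1, h2, h3, h4⟩ | ⟨h1, h2, h3⟩ | ⟨h1, h2, h3⟩ | ⟨h1, h2, h3⟩ | ⟨h1, h2, h3, h4⟩ | ⟨h1, h2, h3⟩ |
    ⟨h1, h2, h3⟩ | ⟨h1, h2, h3⟩ | ⟨h1, h2, h3⟩
  · exact Or.inl ⟨q, h1, h2, h3, isL_congr e h4⟩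
  · exact Or.inr (Or.inl ⟨h1, h2, isL_congr e h3⟩)
  · exact Or.inr (Or.inr (Or.inl ⟨h1, h2, isU_congr e h3⟩))
  · exact Or.inr (Or.inr (Or.inr (Or.inl ⟨h1, h2, isU_congr e h3⟩)))
  · exact Or.inr (Or.inr (Or.inr (Or.inr (Or.inl ⟨h1, h2, h3, isU_congr e h4⟩))))
  · exact Or.inr (Or.inr (Or.inr (Or.inr (Or.inr (Or.inl ⟨h1, h2, isU_congr e h3⟩)))))
  · exact Or.inr (Or.inr (Or.inr (Or.inr (Or.inr (Or.inr (Or.inl ⟨h1, h2, isS_congr e h3⟩))))))
  · exact Or.inr (Or.inr (Or.inr (Or.inr (Or.inr (Or.inr (Or.inr (Or.inl ⟨h1, h2, isS_congr e h3⟩)))))))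
  · exact Or.inr (Or.inr (Or.inr (Or.inr (Or.inr (Or.inr (Or.inr (Or.inr ⟨h1, h2, isOP_congr e h3⟩)))))))

theorem multD_congr {p n : ℕ} (e : S ≃* T) (h : MultD p n S) : MultD p n T := by
  rcases h with ⟨h1, h2, h3⟩ | ⟨h1, h2, h3⟩
  · refine Or.inl ⟨h1, h2, ?_⟩
    rcases h3 with h | h | ⟨h0, h⟩ | h | h | h
    · exact Or.inl (isL_congr e h)
    · exact Or.inr (Or.inl (isL_congr e h))
    · exact Or.inr (Or.inr (Or.inl ⟨h0, isU_congr e h⟩))
    · exact Or.inr (Or.inr (Or.inr (Or.inl (isS_congr e h))))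
    · exact Or.inr (Or.inr (Or.inr (Or.inr (Or.inl (isOP_congr e h)))))
    · exact Or.inr (Or.inr (Or.inr (Or.inr (Or.inr (isG2_congr e h)))))
  · exact Or.inr ⟨h1, h2, isU_congr e h3⟩

theorem sporC_congr (e : S ≃* T) (h : SporC S) : SporC T := by
  rcases h with h | h | h | h | h | h | h | h | h
  · exact Or.inl (ne_congr e h)
  · exact Or.inr (Or.inl (ne_congr e h))
  · exact Or.inr (Or.inr (Or.inl (ne_congr e h)))
  · exact Or.inr (Or.inr (Or.inr (Or.inl (ne_congr e h))))
  · exact Or.inr (Or.inr (Or.inr (Or.inr (Or.inl (ne_congr e h)))))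
  · exact Or.inr (Or.inr (Or.inr (Or.inr (Or.inr (Or.inl (ne_congr e h))))))
  · exact Or.inr (Or.inr (Or.inr (Or.inr (Or.inr (Or.inr (Or.inl (ne_congr e h)))))))
  · obtain ⟨K, i, j, w, h1, h2, h⟩ := h
    exact Or.inr (Or.inr (Or.inr (Or.inr (Or.inr (Or.inr (Or.inr (Or.inl ⟨K, i, j, w, h1, h2, ne_congr e h⟩)))))))
  · exact Or.inr (Or.inr (Or.inr (Or.inr (Or.inr (Or.inr (Or.inr (Or.inr (ne_congr e h))))))))

theorem candD_congr {p n : ℕ} (e : S ≃* T) (h : CandD p n S) : CandD p n T := by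
  rcases h with h | h | h | ⟨h1, h2, h⟩ | h
  · exact Or.inl (altC_congr e h)
  · exact Or.inr (Or.inl (lieC_congr e h))
  · exact Or.inr (Or.inr (Or.inl (multD_congr e h)))
  · exact Or.inr (Or.inr (Or.inr (Or.inl ⟨h1, h2, isSz8_congr e h⟩)))
  · exact Or.inr (Or.inr (Or.inr (Or.inr (sporC_congr e h))))

end

/-! ### The list -/

section

variable {F : Type u} [Field F] [Finite F] {p : ℕ} [CharP F p] [hp : Fact p.Prime]

/-- **The list, index type `Fin n`.** -/
theorem list₂ {n : ℕ} (hn : n ≤ 12) {P : Subgroup (Matrix.GeneralLinearGroup (Fin n) F)} (hC : Core P)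
    (hk : IsKnownSimple' (Soc P)) (hL : ¬ IsLieTypeChar p (Soc P)) : CandD p n (Soc P) := by
  rcases list₁ hn hC hk hL with h | ⟨-, h | h | h | h⟩
  · exact h
  · exfalso
    obtain ⟨e⟩ := h
    have := H806.Ls.fi22_le hp.out hC e
    omega
  · exfalso
    obtain ⟨e⟩ := h
    have := H806.Ls.fi23_le hp.out hC e
    omega
  · exfalso
    obtain ⟨e⟩ := h
    have := H806.Ls.b_le hp.out hC e
    omega
  · exfalso
    obtain ⟨e⟩ := h
    have := H806.Ls.m_le hp.out hC e
    omega

/-- **The list, any index type.** -/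
theorem list {ι : Type} [Fintype ι] [DecidableEq ι] (hn : Fintype.card ι ≤ 12)
    {P : Subgroup (Matrix.GeneralLinearGroup ι F)} (hC : Core P)
    (hk : IsKnownSimple' (Soc P)) (hL : ¬ IsLieTypeChar p (Soc P)) : CandD p (Fintype.card ι) (Soc P) := by
  have e := H936.Reix.socEquiv (Fintype.equivFin ι) P
  exact candD_congr e.symm (list₂ hn (H936.Reix.core_rx (Fintype.equivFin ι) hC)
    (OddHalf.Known.isKnownSimple'_congr e hC.nonabelian hk)
    (fun h => hL (OddHalf.Known.isLieTypeChar_congr e.symm h)))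

end

end Cfsg.Agent.H936.List12
end
end
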