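import Cfsg.Agent.H906.U3Card
import Cfsg.Agent.H906.U3Def
import Mathlib.Algebra.QuadraticAlgebra.Basic
import Cfsg.Agent.LieRecognition.RankOneAbstract
import Mathlib.LinearAlgebra.Basis.VectorSpace
import Mathlib.Algebra.CharP.Two
import Cfsg.Agent.H659.SevenU42_m3
import Mathlib.LinearAlgebra.Eigenspace.Pi
import Cfsg.Agent.H906.Cover_m3
import Cfsg.Agent.S2089
import Cfsg.Agent.FastGrp
import Cfsg.Agent.Prune
set_option linter.all false
prune_inst 0x7ffdbdfffbf8f9dfffff7e7fa6dccffdfdbfbfffe6dff9cbffe069ffabdf7b02c9e56bad8feb9bfe1eb6c21c10f87b53fffffeffe86ffc7ffffdfff41ffbffdffdf7350971d48c3e0fbc0ff683f0778e7f3fffffffffffffffffffffffffffbeffbfffffffff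
open scoped Cfsg.Agent.FastGrp

-- part: H936/U33Grp
section
/-!
# Explicit elements and relations in `SU₃(3)`

`K` a field with nine elements, `t ∈ K` with `t ^ 2 = t + 1`. The elements of `SUG σ` are described by matrices over the
computable ring `R9 = F₃[t]` (`Rp`). `exists_data`: elements `z x y h c` with the relations used in `U33Two`.
-/

set_option autoImplicit false
set_option maxRecDepth 100000

namespace Cfsg.Agent.H936.U33

open Cfsg.Agent.UThreeGen.MatGroup Cfsg.Agent.H906
open scoped MatrixGroups Matrix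

/-- `F₉`, `t² = t + 1` -/
abbrev R9 := QuadraticAlgebra (ZMod 3) 1 1

/-- `a + b t` -/
def q9 (a b : ZMod 3) : R9 := ⟨a, b⟩

/-- the Gram matrix over `R9` -/
def gm9 : Matrix (Fin 3) (Fin 3) R9 := !![0, 0, 1; 0, -1, 0; 1, 0, 0]

def mZ : Matrix (Fin 3) (Fin 3) R9 := !![1, 0, q9 1 1; 0, 1, 0; 0, 0, 1]
def mX : Matrix (Fin 3) (Fin 3) R9 := !![1, 1, q9 2 0; 0, 1, 1; 0, 0, 1]
def mY : Matrix (Fin 3) (Fin 3) R9 := !![1, q9 0 1, 1; 0, 1, q9 1 2; 0, 0, 1]
def mH : Matrix (Fin 3) (Fin 3) R9 := !![q9 0 1, 0, 0; 0, q9 1 1, 0; 0, 0, q9 0 2]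
def mN : Matrix (Fin 3) (Fin 3) R9 := !![0, 0, -1; 0, -1, 0; -1, 0, 0]
def mC : Matrix (Fin 3) (Fin 3) R9 := !![q9 1 2, q9 1 2, q9 2 1; q9 1 2, q9 0 1, 1; q9 2 0, q9 1 2, q9 2 0]

section

variable {K : Type*} [Field K] {σ : K →+* K} [hσ : Fact (∀ x, σ (σ x) = x)] (hs : ∀ x, σ x = x ^ 3) (φ : R9 →+* K)

/-- the element `g` is given by the matrix `M` -/
def Rp (σ : K →+* K) (φ : R9 →+* K) (g : SUG σ) (M : Matrix (Fin 3) (Fin 3) R9) : Prop := g.1.1 = M.map φ

omit hσ in
theorem Rp.mul {g g' : SUG σ} {M M' : Matrix (Fin 3) (Fin 3) R9} (h : Rp σ φ g M) (h' : Rp σ φ g' M') :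
    Rp σ φ (g * g') (M * M') := by
  unfold Rp at *
  rw [coe_mul_SUG, h, h', Matrix.map_mul]

omit hσ in
theorem Rp.one : Rp σ φ 1 1 := by
  unfold Rp
  rw [Matrix.map_one _ (map_zero φ) (map_one φ)]
  rfl

omit hσ in
theorem Rp.pow {g : SUG σ} {M : Matrix (Fin 3) (Fin 3) R9} (h : Rp σ φ g M) (k : ℕ) : Rp σ φ (g ^ k) (M ^ k) := by
  induction k with
  | zero => rw [pow_zero, pow_zero]; exact Rp.one φ
  | succ k ih => rw [pow_succ, pow_succ]; exact ih.mul φ h

omit hσ in
theorem Rp.eq {g g' : SUG σ} {M M' : Matrix (Fin 3) (Fin 3) R9} (h : Rp σ φ g M) (h' : Rp σ φ g' M') (e : M = M') :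
    g = g' := by
  apply Subtype.ext
  apply Subtype.ext
  have h1 : g.1.1 = M.map φ := h
  have h2 : g'.1.1 = M'.map φ := h'
  rw [h1, h2, e]

include hs in
omit hσ in
/-- an element from a matrix -/
theorem exists_rp {M : Matrix (Fin 3) (Fin 3) R9}
    (hd : M 0 0 * M 1 1 * M 2 2 - M 0 0 * M 1 2 * M 2 1 - M 0 1 * M 1 0 * M 2 2 + M 0 1 * M 1 2 * M 2 0 +
      M 0 2 * M 1 0 * M 2 1 - M 0 2 * M 1 1 * M 2 0 = 1)
    (hG : Mᵀ * gm9 * M.map (fun x => x ^ 3) = gm9) : ∃ g : SUG σ, Rp σ φ g M := by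
  have hdet : (M.map φ).det = 1 := by
    rw [Matrix.det_fin_three]
    simp only [Matrix.map_apply]
    rw [← map_one φ, ← hd]
    simp only [map_add, map_sub, map_mul]
  have hgm : gm9.map φ = Gm K := by
    ext i j
    (revert i j; simp only [gm9, Gm, _root_.Fin.forall_fin_succ, _root_.Matrix.map_apply, _root_.Matrix.of_apply, _root_.Matrix.cons_val', _root_.Matrix.cons_val_fin_one, Fin.isValue, _root_.Matrix.cons_val_zero, _root_.Matrix.cons_val_succ, _root_.forall_const, _root_.map_zero, _root_.map_one, _root_.and_self, _root_.map_neg, _root_.implies_true])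
  refine ⟨⟨⟨M.map φ, hdet⟩, ?_⟩, rfl⟩
  change (M.map φ)ᵀ * Gm K * (M.map φ).map σ = Gm K
  have h1 : (M.map φ).map σ = (M.map (fun x => x ^ 3)).map φ := by
    ext i j
    simp only [Matrix.map_apply]
    rw [hs, map_pow]
  rw [h1, ← hgm, ← Matrix.transpose_map, ← Matrix.map_mul, ← Matrix.map_mul, hG]

theorem rp_emb {w : HG σ} {a b : R9} (ha : w.a = φ a) (hb : w.b = φ b) (hs : ∀ x, σ x = x ^ 3) :
    Rp σ φ (emb σ w) !![1, a, b; 0, 1, a ^ 3; 0, 0, 1] := by
  unfold Rp
  rw [emb_val, umat, ha, hb, hs]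
  ext i j
  (revert i j; simp only [_root_.Fin.forall_fin_succ, _root_.Matrix.of_apply, _root_.Matrix.cons_val', _root_.Matrix.cons_val_fin_one, _root_.Matrix.map_apply, Fin.isValue, _root_.Matrix.cons_val_zero, _root_.Matrix.cons_val_succ, _root_.forall_const, _root_.map_one, _root_.and_self, _root_.map_zero, _root_.map_pow, _root_.implies_true])

/-- the homomorphism `R9 → K` -/
theorem exists_phi [CharP K 3] {t : K} (ht : t * t = t + 1) :
    ∃ φ : R9 →+* K, ∀ a b : ZMod 3, φ ⟨a, b⟩ = (ZMod.castHom (dvd_refl 3) K a) + (ZMod.castHom (dvd_refl 3) K b) * t := by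
  let c := ZMod.castHom (dvd_refl 3) K
  refine ⟨{ toFun := fun r => c r.re + c r.im * t, map_one' := ?_, map_mul' := ?_, map_zero' := ?_, map_add' := ?_ },
    fun a b => rfl⟩
  · change c (1 : R9).re + c (1 : R9).im * t = 1
    rw [show (1 : R9).re = 1 from rfl, show (1 : R9).im = 0 from rfl, map_one, map_zero]; ring
  · intro r s
    change c (r * s).re + c (r * s).im * t = (c r.re + c r.im * t) * (c s.re + c s.im * t)
    rw [show (r * s).re = r.re * s.re + 1 * r.im * s.im from rfl,
      show (r * s).im = r.re * s.im + r.im * s.re + 1 * r.im * s.im from rfl]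
    simp only [map_add, map_mul, map_one]
    linear_combination (-(c r.im) * c s.im) * ht
  · change c (0 : R9).re + c (0 : R9).im * t = 0
    rw [show (0 : R9).re = 0 from rfl, show (0 : R9).im = 0 from rfl, map_zero]; ring
  · intro r s
    change c (r + s).re + c (r + s).im * t = (c r.re + c r.im * t) + (c s.re + c s.im * t)
    rw [show (r + s).re = r.re + s.re from rfl, show (r + s).im = r.im + s.im from rfl, map_add, map_add]
    ring

end

/-- The data. -/
structure GD {G : Type*} [Group G] (B U : Subgroup G) (n z x y h c : G) : Prop where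
  data : Cfsg.Agent.LieRecognition.RankOneAbstract.Data B U n
  card : Nat.card U = 27
  zU : z ∈ U
  xU : x ∈ U
  yU : y ∈ U
  z3 : z ^ 3 = 1
  x3 : x ^ 3 = 1
  y3 : y ^ 3 = 1
  z1 : z ≠ 1
  cent : ∀ u ∈ U, z * u = u * z
  xy : x * y = z * (y * x)
  hz : h * z = z⁻¹ * h
  xh : x * h = h * y
  yh : y * h = h * (x * y * z)
  h8 : h ^ 8 = 1
  c3 : c ^ 3 = 1
  cz : (c * z) ^ 8 = 1
  s4 : (z⁻¹ * c * z * c) ^ 4 = 1
  comm : (c * z) ^ 2 * (z⁻¹ * c * z * c) = (z⁻¹ * c * z * c) * (c * z) ^ 2
  gen : Subgroup.closure {z, c} = ⊤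
  fix : B ≤ Subgroup.closure {x, y, z, h}

theorem exists_t {K : Type*} [Field K] [Finite K] (hK : Nat.card K = 3 ^ 2) [CharP K 3] :
    ∃ t : K, t * t = t + 1 := by
  obtain ⟨a0, ha0⟩ := IsCyclic.exists_generator (α := Kˣ)
  have hord : orderOf a0 = 8 := by
    rw [orderOf_eq_card_of_forall_mem_zpowers ha0, Nat.card_units, hK]; norm_num
  have h3K : (3 : K) = 0 := by exact_mod_cast CharP.cast_eq_zero K 3
  have ha04 : (a0 : K) ^ 4 = -1 := by
    have h1 : ((a0 : K) ^ 4 - 1) * ((a0 : K) ^ 4 + 1) = 0 := by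
      have h2 : a0 ^ 8 = 1 := by rw [← hord]; exact pow_orderOf_eq_one a0
      have h3 := congrArg Units.val h2
      rw [Units.val_pow_eq_pow_val, Units.val_one] at h3
      linear_combination h3
    rcases mul_eq_zero.1 h1 with h2 | h2
    · exfalso
      have h3 : a0 ^ 4 = 1 := Units.ext (by rw [Units.val_pow_eq_pow_val, Units.val_one]; exact sub_eq_zero.1 h2)
      have h4 := orderOf_dvd_of_pow_eq_one h3
      rw [hord] at h4
      norm_num at h4
    · exact eq_neg_of_add_eq_zero_left h2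
  have h5 : ((a0 : K) ^ 2 - a0 - 1) * ((a0 : K) ^ 2 + a0 - 1) = 0 := by
    linear_combination ha04 - (a0 : K) ^ 2 * h3K
  rcases mul_eq_zero.1 h5 with h6 | h6
  · exact ⟨a0, by linear_combination h6⟩
  · exact ⟨-a0, by linear_combination h6⟩

theorem r9_inv : ∀ a b : ZMod 3, q9 a b ≠ 0 → ∃ c d : ZMod 3, q9 a b * q9 c d = 1 := by decide +kernel

theorem r9_pow : ∀ a b : ZMod 3, q9 a b ≠ 0 → ∃ k : Fin 8, q9 a b = q9 0 1 ^ (k : ℕ) := by decide +kernel

theorem r9_tr : ∀ a b : ZMod 3, q9 a b + q9 a b ^ 3 = 0 → ∃ k : Fin 3, q9 a b = ((k : ℕ) : R9) * q9 1 1 := by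
  decide +kernel

section

variable {K : Type*} [Field K] {σ : K →+* K} [hσ : Fact (∀ x, σ (σ x) = x)] [Finite K] (hs : ∀ x, σ x = x ^ 3)
  (hK : Nat.card K = 3 ^ 2) [CharP K 3]

theorem pow_a (w : HG σ) (k : ℕ) : (w ^ k).a = k * w.a := by
  induction k with
  | zero => rw [pow_zero]; simp [one_a]
  | succ k ih => rw [pow_succ, mul_a, ih]; push_cast; ring

theorem pow_b {w : HG σ} (hw : w.a = 0) (k : ℕ) : (w ^ k).b = k * w.b := by
  induction k with
  | zero => rw [pow_zero]; simp [one_b]
  | succ k ih => rw [pow_succ, mul_b, ih, pow_a, hw]; push_cast; ring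

include hs hK in
theorem exists_data : ∃ z x y h c : SUG σ, GD (_root_.Cfsg.Agent.UThreeGen.MatGroup.borel σ) (emb σ).range (wel σ) z x y h c := by
  classical
  obtain ⟨t, ht⟩ := exists_t hK
  obtain ⟨φ, hφ⟩ := exists_phi ht
  have hφq : ∀ a b : ZMod 3, φ (q9 a b) = (ZMod.castHom (dvd_refl 3) K a) + (ZMod.castHom (dvd_refl 3) K b) * t := hφ
  have h3K : (3 : K) = 0 := by exact_mod_cast CharP.cast_eq_zero K 3
  have hinj : Function.Injective φ := by
    rw [injective_iff_map_eq_zero]
    rintro ⟨a, b⟩ hab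
    by_contra h0
    obtain ⟨c, d, hcd⟩ := r9_inv a b h0
    have h1 : φ (q9 a b) * φ (q9 c d) = 1 := by rw [← map_mul, hcd, map_one]
    rw [show φ (q9 a b) = 0 from hab, zero_mul] at h1
    exact zero_ne_one h1
  have hcardR : Nat.card R9 = 9 := by
    rw [Nat.card_congr (QuadraticAlgebra.equivProd (R := ZMod 3) 1 1), Nat.card_prod, Nat.card_zmod]
  have : Finite R9 := Nat.finite_of_card_ne_zero (by rw [hcardR]; norm_num)
  have hsurj : Function.Surjective φ := (hinj.bijective_of_nat_card_le (by rw [hcardR, hK]; norm_num)).2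
  have ht0 : t ≠ 0 := by
    rintro rfl
    rw [zero_mul, zero_add] at ht
    exact zero_ne_one ht
  have hφt : φ (q9 0 1) = t := by rw [hφq]; simp
  -- the elements of `HG`
  have hX : φ (q9 2 0) + σ (φ (q9 2 0)) = φ 1 * σ (φ 1) := by
    rw [hs, hs, ← map_pow, ← map_pow, ← map_add, ← map_mul]
    congr 1
  have hY : φ 1 + σ (φ 1) = φ (q9 0 1) * σ (φ (q9 0 1)) := by
    rw [hs, hs, ← map_pow, ← map_pow, ← map_add, ← map_mul]
    congr 1
  have hZ : φ (q9 1 1) + σ (φ (q9 1 1)) = φ 0 * σ (φ 0) := by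
    rw [hs, hs, ← map_pow, ← map_pow, ← map_add, ← map_mul]
    congr 1
  let X : HG σ := ⟨φ 1, φ (q9 2 0), hX⟩
  let Y : HG σ := ⟨φ (q9 0 1), φ 1, hY⟩
  let Z : HG σ := ⟨φ 0, φ (q9 1 1), hZ⟩
  have rX : Rp σ φ (emb σ X) mX := by
    have := rp_emb φ (w := X) rfl rfl hs
    exact this
  have rY : Rp σ φ (emb σ Y) mY := by
    have := rp_emb φ (w := Y) rfl rfl hs
    rwa [show (q9 0 1 : R9) ^ 3 = q9 1 2 by decide +kernel] at this
  have rZ : Rp σ φ (emb σ Z) mZ := by
    have := rp_emb φ (w := Z) rfl rfl hs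
    exact this
  let tu : Kˣ := Units.mk0 t ht0
  have ht3 : t ^ 3 = 1 + 2 * t := by linear_combination (t + 1) * ht
  have rH : Rp σ φ (tor σ tu) mH := by
    unfold Rp
    rw [tor_val]
    have e1 : (tu : K) = φ (q9 0 1) := hφt.symm
    have e2 : σ (tu : K) * (tu : K)⁻¹ = φ (q9 1 1) := by
      change σ t * t⁻¹ = _
      rw [hs, hφq, map_one, one_mul, ht3, ← div_eq_mul_inv, div_eq_iff ht0]
      linear_combination (-1) * ht
    have e3 : (σ (tu : K))⁻¹ = φ (q9 0 2) := by
      change (σ t)⁻¹ = _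
      rw [hs, hφq, map_zero, zero_add, ht3]
      refine inv_eq_of_mul_eq_one_right ?_
      rw [show (2 : ZMod 3) = 1 + 1 from rfl, map_add, map_one, one_add_one_eq_two]
      linear_combination 4 * ht + (2 * t + 1) * h3K
    rw [e2, e3, e1]
    ext i j
    (revert i j; simp only [mH, _root_.Fin.forall_fin_succ, _root_.Matrix.of_apply, _root_.Matrix.cons_val', _root_.Matrix.cons_val_fin_one, _root_.Matrix.map_apply, Fin.isValue, _root_.Matrix.cons_val_zero, _root_.Matrix.cons_val_succ, _root_.forall_const, _root_.map_zero, _root_.and_self, _root_.implies_true])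
  have rN : Rp σ φ (wel σ) mN := by
    unfold Rp
    rw [wel_val]
    ext i j
    (revert i j; simp only [mN, Wm, _root_.Fin.forall_fin_succ, _root_.Matrix.of_apply, _root_.Matrix.cons_val', _root_.Matrix.cons_val_fin_one, _root_.Matrix.map_apply, Fin.isValue, _root_.Matrix.cons_val_zero, _root_.Matrix.cons_val_succ, _root_.forall_const, _root_.map_zero, _root_.map_neg, _root_.map_one, _root_.and_self, _root_.implies_true])
  obtain ⟨c, rC⟩ := exists_rp (σ := σ) hs φ (M := mC) (by decide +kernel) (by decide +kernel)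
  -- elements of `U`
  have hZa : Z.a = 0 := map_zero φ
  have hUz : ∀ w : HG σ, w.a = 0 → ∃ k : ℕ, w = Z ^ k := by
    intro w hw
    obtain ⟨⟨a, b⟩, hr⟩ := hsurj w.b
    have h1 : φ (q9 a b + q9 a b ^ 3) = φ 0 := by
      rw [map_add, map_pow, ← hs, show φ (q9 a b) = w.b from hr, map_zero]
      have := w.h
      rw [hw, zero_mul] at this
      exact this
    obtain ⟨k, hk⟩ := r9_tr a b (hinj h1)
    refine ⟨k, ?_⟩
    ext
    · rw [hw, pow_a, hZa, mul_zero]
    · rw [pow_b hZa, ← hr]
      change φ (q9 a b) = ((k : ℕ) : K) * φ (q9 1 1)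
      rw [hk, map_mul, map_natCast]
  have hUg : ∀ u ∈ (emb σ).range, ∃ i j k : ℕ, u = emb σ X ^ i * emb σ Y ^ j * emb σ Z ^ k := by
    rintro _ ⟨w, rfl⟩
    obtain ⟨⟨a, b⟩, hr⟩ := hsurj w.a
    obtain ⟨k, hk⟩ := hUz ((X ^ a.val * Y ^ b.val)⁻¹ * w) (by
      rw [mul_a, inv_a, mul_a, pow_a, pow_a, ← hr]
      change -((a.val : K) * φ 1 + (b.val : K) * φ (q9 0 1)) + φ (q9 a b) = 0
      rw [map_one, hφt, hφq]
      have e : ∀ a : ZMod 3, (a.val : K) = ZMod.castHom (dvd_refl 3) K a := by
        intro a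
        conv_rhs => rw [← ZMod.natCast_zmod_val a]
        rw [map_natCast]
      rw [e, e]; ring)
    refine ⟨a.val, b.val, k, ?_⟩
    rw [← map_pow, ← map_pow, ← map_pow, ← map_mul, ← map_mul, ← hk]
    congr 1
    group
  have hT : ∀ a : Kˣ, ∃ k : ℕ, a = tu ^ k := by
    intro a
    obtain ⟨⟨u, v⟩, hr⟩ := hsurj (a : K)
    obtain ⟨k, hk⟩ := r9_pow u v (by
      intro h0
      have h1 : φ (q9 u v) = 0 := by rw [h0, map_zero]
      exact a.ne_zero (hr.symm.trans h1))
    refine ⟨k, Units.ext ?_⟩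
    rw [Units.val_pow_eq_pow_val, ← hr]
    change φ (q9 u v) = t ^ (k : ℕ)
    rw [hk, map_pow, hφt]
  have hzc : ∀ u ∈ (emb σ).range, emb σ Z * u = u * emb σ Z := by
    rintro _ ⟨w, rfl⟩
    rw [← map_mul, ← map_mul]
    congr 1
    ext
    · rw [mul_a, mul_a, add_comm]
    · rw [mul_b, mul_b, hZa, map_zero, zero_mul, mul_zero, add_comm w.b]
  have hxh : emb σ X * tor σ tu = tor σ tu * emb σ Y :=
    Rp.eq φ (rX.mul φ rH) (rH.mul φ rY) (by decide +kernel)
  have hyh : emb σ Y * tor σ tu = tor σ tu * (emb σ X * emb σ Y * emb σ Z) :=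
    Rp.eq φ (rY.mul φ rH) (rH.mul φ ((rX.mul φ rY).mul φ rZ)) (by decide +kernel)
  have hz3 : emb σ Z ^ 3 = 1 := Rp.eq φ (rZ.pow φ 3) (Rp.one φ) (by decide +kernel)
  have hzi : (emb σ Z)⁻¹ = emb σ Z * emb σ Z := by
    rw [inv_eq_iff_mul_eq_one, ← pow_two, ← pow_succ']
    exact hz3
  have rZi : Rp σ φ (emb σ Z)⁻¹ (mZ * mZ) := by rw [hzi]; exact rZ.mul φ rZ
  -- generation
  have hgZ : emb σ Z ∈ Subgroup.closure ({emb σ Z, c} : Set (SUG σ)) := Subgroup.subset_closure (by simp)
  have hgC : c ∈ Subgroup.closure ({emb σ Z, c} : Set (SUG σ)) := Subgroup.subset_closure (by simp)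
  have hword : ∀ (l : List Bool), ∃ g ∈ Subgroup.closure ({emb σ Z, c} : Set (SUG σ)),
      Rp σ φ g (l.map fun b => if b then mZ else mC).prod := by
    intro l
    induction l with
    | nil => exact ⟨1, one_mem _, Rp.one φ⟩
    | cons b l ih =>
      obtain ⟨g, hg, hg'⟩ := ih
      cases b
      · exact ⟨c * g, mul_mem hgC hg, rC.mul φ hg'⟩
      · exact ⟨emb σ Z * g, mul_mem hgZ hg, rZ.mul φ hg'⟩
  have hgH : tor σ tu ∈ Subgroup.closure ({emb σ Z, c} : Set (SUG σ)) := by
    obtain ⟨g, hg, hg'⟩ := hword [false, true, false, true, true, false, true, false, true, false, true, false]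
    rwa [← Rp.eq φ hg' rH (by decide +kernel)]
  have hgN : wel σ ∈ Subgroup.closure ({emb σ Z, c} : Set (SUG σ)) := by
    obtain ⟨g, hg, hg'⟩ := hword [false, true, false, true, false, true, false, true]
    rwa [← Rp.eq φ hg' rN (by decide +kernel)]
  have hgX : emb σ X ∈ Subgroup.closure ({emb σ Z, c} : Set (SUG σ)) := by
    obtain ⟨g, hg, hg'⟩ := hword [false, true, false, false, true, true, false, true, false, true, false, true, true,
      false, false, true, false]
    rwa [← Rp.eq φ hg' rX (by decide +kernel)]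
  have hgY : emb σ Y ∈ Subgroup.closure ({emb σ Z, c} : Set (SUG σ)) := by
    have : emb σ Y = (tor σ tu)⁻¹ * (emb σ X * tor σ tu) := by rw [hxh]; group
    rw [this]
    exact mul_mem (inv_mem hgH) (mul_mem hgX hgH)
  have hgU : ∀ u ∈ (emb σ).range, u ∈ Subgroup.closure ({emb σ Z, c} : Set (SUG σ)) := by
    intro u hu
    obtain ⟨i, j, k, rfl⟩ := hUg u hu
    exact mul_mem (mul_mem (pow_mem hgX i) (pow_mem hgY j)) (pow_mem hgZ k)
  have hgB : ∀ b ∈ _root_.Cfsg.Agent.UThreeGen.MatGroup.borel σ, b ∈ Subgroup.closure ({emb σ Z, c} : Set (SUG σ)) := by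
    intro b hb
    obtain ⟨u, hu, a, rfl⟩ := borel_eq b hb
    obtain ⟨k, rfl⟩ := hT a
    rw [map_pow]
    exact mul_mem (hgU u hu) (pow_mem hgH k)
  refine ⟨emb σ Z, emb σ X, emb σ Y, tor σ tu, c, ?_⟩
  exact
    { data := data_SUG
      card := by
        have h1 := card_HG (σ := σ) (by norm_num) hs hK
        rw [← Nat.card_congr (MonoidHom.ofInjective (emb_injective (σ := σ))).toEquiv, h1]
        norm_num
      zU := ⟨Z, rfl⟩
      xU := ⟨X, rfl⟩
      yU := ⟨Y, rfl⟩
      z3 := hz3
      x3 := Rp.eq φ (rX.pow φ 3) (Rp.one φ) (by decide +kernel)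
      y3 := Rp.eq φ (rY.pow φ 3) (Rp.one φ) (by decide +kernel)
      z1 := by
        intro h1
        have h2 : Z = 1 := emb_injective (by rw [h1, map_one])
        have h3 : Z.b = 0 := by rw [h2, one_b]
        have h4 : φ (q9 1 1) = φ 0 := by rw [map_zero]; exact h3
        have h5 := hinj h4
        revert h5
        decide +kernel
      cent := hzc
      xy := Rp.eq φ (rX.mul φ rY) (rZ.mul φ (rY.mul φ rX)) (by decide +kernel)
      hz := Rp.eq φ (rH.mul φ rZ) (rZi.mul φ rH) (by decide +kernel)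
      xh := hxh
      yh := hyh
      h8 := Rp.eq φ (rH.pow φ 8) (Rp.one φ) (by decide +kernel)
      c3 := Rp.eq φ (rC.pow φ 3) (Rp.one φ) (by decide +kernel)
      cz := Rp.eq φ ((rC.mul φ rZ).pow φ 8) (Rp.one φ) (by decide +kernel)
      s4 := Rp.eq φ ((((rZi.mul φ rC).mul φ rZ).mul φ rC).pow φ 4) (Rp.one φ) (by decide +kernel)
      comm := Rp.eq φ (((rC.mul φ rZ).pow φ 2).mul φ (((rZi.mul φ rC).mul φ rZ).mul φ rC))
        ((((rZi.mul φ rC).mul φ rZ).mul φ rC).mul φ ((rC.mul φ rZ).pow φ 2)) (by decide +kernel)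
      gen := by
        rw [eq_top_iff]
        intro g _
        by_cases hg : g ∈ _root_.Cfsg.Agent.UThreeGen.MatGroup.borel σ
        · exact hgB g hg
        · obtain ⟨s, hs', hb⟩ := (data_SUG (σ := σ)).bruhat g hg
          have e : g = s * wel σ * ((s * wel σ)⁻¹ * g) := by group
          rw [e]
          exact mul_mem (mul_mem (hgU s hs') hgN) (hgB _ hb)
      fix := by
        intro b hb
        obtain ⟨u, hu, a, rfl⟩ := borel_eq b hb
        obtain ⟨k, rfl⟩ := hT a
        obtain ⟨i, j, l, rfl⟩ := hUg u hu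
        rw [map_pow]
        have h1 : ∀ g ∈ ({emb σ X, emb σ Y, emb σ Z, tor σ tu} : Set (SUG σ)),
            g ∈ Subgroup.closure ({emb σ X, emb σ Y, emb σ Z, tor σ tu} : Set (SUG σ)) :=
          fun g hg => Subgroup.subset_closure hg
        exact mul_mem (mul_mem (mul_mem (pow_mem (h1 _ (by simp)) i) (pow_mem (h1 _ (by simp)) j))
          (pow_mem (h1 _ (by simp)) l)) (pow_mem (h1 _ (by simp)) k) }

end

end Cfsg.Agent.H936.U33
end

-- part: H936/TwoFix
section
/-!
# Rank one groups in characteristic two: no vector fixed by a point stabiliser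

* `no_fixed`: `G` with a rank one datum `Data B U n`, `|U|` odd, `V` a nontrivial irreducible representation over a
  field of characteristic two: no nonzero vector is fixed by `B`;
* `exists_fixed_of_pow`: an operator with `T ^ 2 ^ k = 1` has a nonzero fixed vector.
-/

set_option autoImplicit false

namespace Cfsg.Agent.H936.TwoFix

open Cfsg.Agent.LieRecognition.RankOneAbstract

variable {G : Type*} [Group G] {A : Type*} [Field A] {V : Type*} [AddCommGroup V] [Module A V]

theorem add_self (h2 : (2 : A) = 0) (v : V) : v + v = 0 := by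
  rw [← two_smul A v, h2, zero_smul]

theorem neg_eq (h2 : (2 : A) = 0) (v : V) : -v = v := by
  rw [neg_eq_iff_add_eq_zero]; exact add_self h2 v

/-- An odd multiple is the identity. -/
theorem odd_smul (h2 : (2 : A) = 0) {m : ℕ} (hm : Odd m) (v : V) : m • v = v := by
  obtain ⟨k, rfl⟩ := hm
  rw [add_smul, one_smul, mul_smul, two_nsmul, add_self h2, zero_add]

theorem no_fixed [Finite G] (h2 : (2 : A) = 0) (ρ : G →* Module.End A V)
    (hirr : ∀ W : Submodule A V, (∀ g, ∀ v ∈ W, ρ g v ∈ W) → W = ⊥ ∨ W = ⊤) (hnt : ∃ g, ρ g ≠ 1)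
    {B U : Subgroup G} {n : G} (D : Data B U n) (hodd : Odd (Nat.card U)) {v : V} (hv : ∀ b ∈ B, ρ b v = v) :
    v = 0 := by
  classical
  have := Fintype.ofFinite G
  have := Fintype.ofFinite U
  have := Fintype.ofFinite (G ⧸ B)
  by_contra hv0
  have happ : ∀ (g g' : G) (w : V), ρ (g * g') w = ρ g (ρ g' w) := fun g g' w => by
    rw [map_mul, Module.End.mul_apply]
  let f : G ⧸ B → V := fun q => ρ q.out v
  have hf : ∀ g : G, f (QuotientGroup.mk g) = ρ g v := by
    intro g
    obtain ⟨b, hb⟩ := QuotientGroup.mk_out_eq_mul B g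
    change ρ (Quotient.out (QuotientGroup.mk g : G ⧸ B)) v = _
    rw [hb, happ, hv b b.2]
  have hfs : ∀ (g : G) (q : G ⧸ B), ρ g (f q) = f (g • q) := by
    intro g q
    induction q using QuotientGroup.induction_on with
    | H x =>
      have : g • (QuotientGroup.mk x : G ⧸ B) = QuotientGroup.mk (g * x) := rfl
      rw [this, hf, hf, happ]
  -- the fixed vectors
  let W0 : Submodule A V :=
    { carrier := {w | ∀ g, ρ g w = w}
      add_mem' := fun ha hb g => by rw [map_add, ha g, hb g]
      zero_mem' := fun g => map_zero _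
      smul_mem' := fun c w hw g => by rw [map_smul, hw g] }
  have hW0 : W0 = ⊥ := by
    rcases hirr W0 (fun g w hw g' => by rw [hw g, hw g']) with h | h
    · exact h
    · exfalso
      obtain ⟨g, hg⟩ := hnt
      apply hg
      ext w
      have : w ∈ W0 := h ▸ Submodule.mem_top
      exact this g
  have hτ : ∑ q, f q = 0 := by
    have h1 : ∑ q, f q ∈ W0 := by
      intro g
      rw [map_sum]
      simp only [hfs]
      exact Equiv.sum_comp (MulAction.toPerm g) f
    rwa [hW0, Submodule.mem_bot] at h1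
  let E : Module.End A V := ∑ s : U, ρ (s : G)
  have hE : ∀ w, E w = ∑ s : U, ρ (s : G) w := fun w => by simp only [E, _root_.LinearMap.coe_sum, _root_.Finset.sum_apply]
  have hEv : E v = v := by
    rw [hE, Finset.sum_congr rfl (fun (s : U) _ => hv s (D.le s.2)), Finset.sum_const, Finset.card_univ,
      ← Nat.card_eq_fintype_card]
    exact odd_smul h2 hodd v
  have hEs : ∀ (s : U) w, E (ρ (s : G) w) = E w := by
    intro s w
    rw [hE, hE]
    simp only [← happ]
    exact Equiv.sum_comp (Equiv.mulRight s) (fun t : U => ρ (t : G) w)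
  have hEn : E (ρ n v) = v := by
    rw [← Equiv.sum_comp D.equiv, Fintype.sum_option] at hτ
    have e1 : f (D.equiv none) = v := by
      change f (QuotientGroup.mk 1) = v
      rw [hf, map_one]; rfl
    have e2 : ∑ s : U, f (D.equiv (some s)) = E (ρ n v) := by
      rw [hE]
      refine Finset.sum_congr rfl fun s _ => ?_
      change f ((s : G) • (QuotientGroup.mk n : G ⧸ B)) = _
      rw [← hfs, hf]
    rw [e1, e2] at hτ
    have h3 := (neg_eq_of_add_eq_zero_right hτ).symm
    rw [neg_eq h2 v] at h3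
    exact h3
  have key : ∀ g, E (ρ g v) = v := by
    intro g
    by_cases hg : g ∈ B
    · rw [hv g hg, hEv]
    · obtain ⟨s, hs, hb⟩ := D.bruhat g hg
      have e : g = s * (n * ((s * n)⁻¹ * g)) := by group
      rw [e, happ, hEs ⟨s, hs⟩, happ, hv _ hb, hEn]
  let W1 : Submodule A V :=
    { carrier := {w | ∀ g, E (ρ g w) = E w}
      add_mem' := fun ha hb g => by rw [map_add, map_add, ha g, hb g, map_add]
      zero_mem' := fun g => by rw [map_zero]
      smul_mem' := fun c w hw g => by rw [map_smul, map_smul, hw g, map_smul] }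
  have hW1 : W1 = ⊤ := by
    rcases hirr W1 (fun g w hw g' => by rw [← happ, hw, hw]) with h | h
    · exfalso
      have h1 : v ∈ W1 := fun g => by rw [key, hEv]
      rw [h, Submodule.mem_bot] at h1
      exact hv0 h1
    · exact h
  have hEg : ∀ g w, E (ρ g w) = E w := fun g w => by
    have : w ∈ W1 := hW1 ▸ Submodule.mem_top
    exact this g
  have hker : LinearMap.ker E = ⊥ := by
    rcases hirr (LinearMap.ker E) (fun g w hw => by
      rw [LinearMap.mem_ker] at hw ⊢
      rw [hEg, hw]) with h | h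
    · exact h
    · exfalso
      have h1 : v ∈ LinearMap.ker E := h ▸ Submodule.mem_top
      rw [LinearMap.mem_ker, hEv] at h1
      exact hv0 h1
  obtain ⟨g, hg⟩ := hnt
  apply hg
  ext w
  exact LinearMap.ker_eq_bot.1 hker (hEg g w)

/-- In characteristic two an operator of order a power of two has a nonzero fixed vector. -/
theorem exists_fixed_of_pow (h2 : (2 : A) = 0) [Nontrivial V] {T : Module.End A V} {k : ℕ} (hT : T ^ 2 ^ k = 1) :
    ∃ v : V, v ≠ 0 ∧ T v = v := by
  by_contra hcon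
  push Not at hcon
  have hinj : Function.Injective (⇑(T - 1)) := by
    rw [← LinearMap.ker_eq_bot, LinearMap.ker_eq_bot']
    intro v hv
    by_contra hv0
    apply hcon v hv0
    rw [LinearMap.sub_apply, Module.End.one_apply, sub_eq_zero] at hv
    exact hv
  have key : ∀ k : ℕ, (T - 1) ^ 2 ^ k = T ^ 2 ^ k - 1 := by
    have h2' : (2 : Module.End A V) = 0 := by
      ext v
      change (2 : Module.End A V) v = 0
      have : (2 : Module.End A V) = 1 + 1 := by norm_num
      rw [this, LinearMap.add_apply, Module.End.one_apply]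
      exact add_self h2 v
    intro k
    induction k with
    | zero => simp
    | succ k ih =>
      rw [pow_succ, pow_mul, ih, pow_mul]
      have : (T ^ 2 ^ k - 1) ^ 2 = (T ^ 2 ^ k) ^ 2 - 1 + 2 * (1 - T ^ 2 ^ k) := by noncomm_ring
      rw [this, h2', zero_mul, add_zero]
  have h0 : (T - 1) ^ 2 ^ k = 0 := by rw [key, hT, sub_self]
  obtain ⟨v, hv⟩ := exists_ne (0 : V)
  have h1 : ∀ m : ℕ, Function.Injective (⇑((T - 1) ^ m)) := by
    intro m
    induction m with
    | zero => rw [pow_zero]; exact fun a b h => h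
    | succ m ih =>
      rw [pow_succ, Module.End.mul_eq_comp, LinearMap.coe_comp]
      exact ih.comp hinj
  apply hv
  apply h1 (2 ^ k)
  rw [h0]; rfl

end Cfsg.Agent.H936.TwoFix
end

-- part: H936/SixVec
section
/-!
# Six vectors

`exists_six`: a group generated by `a`, `c` with `c ^ 3 = 1`, `(c a) ^ 8 = 1`, `(a⁻¹ c a c) ^ 4 = 1`, `(c a) ^ 2` and
`a⁻¹ c a c` commuting, `V` an irreducible representation in characteristic two on which `a ^ 2 + a + 1 = 0`: then `V` is
spanned by six vectors on which `a` and `c` act by the matrices `mA`, `mC` over the prime field.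
-/

set_option autoImplicit false

namespace Cfsg.Agent.H936.SixVec

open Cfsg.Agent.H936.TwoFix

variable {G : Type*} [Group G] {A : Type*} [Field A] {V : Type*} [AddCommGroup V] [Module A V]

/-- the six vectors -/
structure Six (ρ : G →* Module.End A V) (a c : G) (b : Fin 6 → V) : Prop where
  a0 : ρ a (b 0) = b 1
  a1 : ρ a (b 1) = b 0 + b 1
  a2 : ρ a (b 2) = b 5
  a3 : ρ a (b 3) = b 4
  a4 : ρ a (b 4) = b 3 + b 4
  a5 : ρ a (b 5) = b 2 + b 5
  c0 : ρ c (b 0) = b 2
  c1 : ρ c (b 1) = b 3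
  c2 : ρ c (b 2) = b 4
  c3 : ρ c (b 3) = b 5
  c4 : ρ c (b 4) = b 0
  c5 : ρ c (b 5) = b 1

/-- a subspace invariant under generators is invariant -/
theorem inv_of_gen [Finite G] (ρ : G →* Module.End A V) {a c : G} (hgen : Subgroup.closure {a, c} = ⊤)
    {W : Submodule A V} (ha : ∀ v ∈ W, ρ a v ∈ W) (hc : ∀ v ∈ W, ρ c v ∈ W) (g : G) : ∀ v ∈ W, ρ g v ∈ W := by
  have hg : g ∈ Submonoid.closure ({a, c} : Set G) := by
    rw [← Subgroup.closure_toSubmonoid_of_finite, hgen]
    trivial
  induction hg using Submonoid.closure_induction with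
  | mem x hx =>
    rcases hx with rfl | hx
    · exact ha
    · rw [Set.mem_singleton_iff.1 hx]; exact hc
  | one => intro v hv; rwa [map_one, Module.End.one_apply]
  | mul x y _ _ hx hy => intro v hv; rw [map_mul, Module.End.mul_apply]; exact hx _ (hy v hv)

theorem exists_six [Finite G] [Nontrivial V] (h2 : (2 : A) = 0) (ρ : G →* Module.End A V)
    (hirr : ∀ W : Submodule A V, (∀ g, ∀ v ∈ W, ρ g v ∈ W) → W = ⊥ ∨ W = ⊤) {a c : G}
    (hgen : Subgroup.closure {a, c} = ⊤) (ha : ∀ w, ρ a (ρ a w) = ρ a w + w) (hc : c ^ 3 = 1)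
    (h8 : (c * a) ^ 8 = 1) (h4 : (a⁻¹ * c * a * c) ^ 4 = 1)
    (hcomm : (c * a) ^ 2 * (a⁻¹ * c * a * c) = (a⁻¹ * c * a * c) * (c * a) ^ 2) :
    ∃ b : Fin 6 → V, Six ρ a c b ∧ Submodule.span A (Set.range b) = ⊤ := by
  have happ : ∀ (g g' : G) (w : V), ρ (g * g') w = ρ g (ρ g' w) := fun g g' w => by
    rw [map_mul, Module.End.mul_apply]
  -- the common fixed vector
  obtain ⟨v, hv0, hv1, hv2⟩ : ∃ v : V, v ≠ 0 ∧ ρ ((c * a) ^ 2) v = v ∧ ρ (a⁻¹ * c * a * c) v = v := by
    let W : Submodule A V := LinearMap.eqLocus (ρ ((c * a) ^ 2)) LinearMap.id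
    have hW : ∀ w, w ∈ W ↔ ρ ((c * a) ^ 2) w = w := fun w => Iff.rfl
    have hWi : ∀ w ∈ W, ρ (a⁻¹ * c * a * c) w ∈ W := by
      intro w hw
      rw [hW] at hw ⊢
      rw [← happ, hcomm, happ, hw]
    obtain ⟨w, hw0, hw⟩ := exists_fixed_of_pow (k := 2) h2 (T := ρ ((c * a) ^ 2)) (by
      rw [← map_pow, ← pow_mul, show 2 * 2 ^ 2 = 8 by norm_num, h8, map_one])
    have : Nontrivial W := ⟨⟨⟨w, hw⟩, 0, fun h => hw0 (congrArg Subtype.val h)⟩⟩
    have hpow : ∀ m : ℕ, ∀ u : W, ((((ρ (a⁻¹ * c * a * c)).restrict hWi) ^ m : Module.End A W) u : V) =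
        ρ ((a⁻¹ * c * a * c) ^ m) u := by
      intro m
      induction m with
      | zero => intro u; simp only [_root_.map_mul, _root_.pow_zero, _root_.Module.End.one_apply, _root_.map_one]
      | succ m ih =>
        intro u
        rw [pow_succ, Module.End.mul_apply, ih, pow_succ, happ]
        rfl
    obtain ⟨u, hu0, hu⟩ := exists_fixed_of_pow (k := 2) h2 (T := (ρ (a⁻¹ * c * a * c)).restrict hWi) (by
      ext u
      rw [hpow, show 2 ^ 2 = 4 by norm_num, h4, map_one]
      rfl)
    exact ⟨u, fun h => hu0 (Subtype.ext h), u.2, congrArg Subtype.val hu⟩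
  have e1 : ρ a (ρ c v) = ρ c (ρ c (ρ a v)) := by
    have h1 : a * c = c * c * a * (a⁻¹ * c * a * c) := by
      have : c * c * a * (a⁻¹ * c * a * c) = c ^ 3 * (a * c) := by rw [pow_succ, pow_two]; group
      rw [this, hc, one_mul]
    rw [← happ, h1, happ, hv2, happ, happ]
  have e2 : ρ a (ρ c (ρ a v)) = ρ c (ρ c v) := by
    have h1 : a * c * a = c * c * (c * a) ^ 2 := by
      have : c * c * (c * a) ^ 2 = c ^ 3 * (a * c * a) := by
        rw [pow_two, pow_succ, pow_two]; group
      rw [this, hc, one_mul]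
    rw [← happ, ← happ, h1, happ, hv1, happ]
  have e3 : ∀ w, ρ c (ρ c (ρ c w)) = w := by
    intro w
    rw [← happ, ← happ, ← pow_two, ← pow_succ, hc, map_one, Module.End.one_apply]
  let b : Fin 6 → V := ![v, ρ a v, ρ c v, ρ c (ρ a v), ρ c (ρ c v), ρ c (ρ c (ρ a v))]
  have hS : Six ρ a c b :=
    { a0 := rfl
      a1 := by change ρ a (ρ a v) = v + ρ a v; rw [ha, add_comm]
      a2 := e1
      a3 := e2
      a4 := by
        change ρ a (ρ c (ρ c v)) = ρ c (ρ a v) + ρ c (ρ c v)
        rw [← e2, ha, add_comm]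
      a5 := by
        change ρ a (ρ c (ρ c (ρ a v))) = ρ c v + ρ c (ρ c (ρ a v))
        rw [← e1, ha, add_comm]
      c0 := rfl
      c1 := rfl
      c2 := rfl
      c3 := rfl
      c4 := e3 v
      c5 := e3 _ }
  refine ⟨b, hS, ?_⟩
  set W := Submodule.span A (Set.range b) with hWdef
  have hb : ∀ i, b i ∈ W := fun i => Submodule.subset_span ⟨i, rfl⟩
  have hga : ∀ w ∈ W, ρ a w ∈ W := by
    intro w hw
    induction hw using Submodule.span_induction with
    | mem x hx =>
      obtain ⟨i, rfl⟩ := hx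
      fin_cases i
      · exact hS.a0 ▸ hb 1
      · exact hS.a1 ▸ W.add_mem (hb 0) (hb 1)
      · exact hS.a2 ▸ hb 5
      · exact hS.a3 ▸ hb 4
      · exact hS.a4 ▸ W.add_mem (hb 3) (hb 4)
      · exact hS.a5 ▸ W.add_mem (hb 2) (hb 5)
    | zero => rw [map_zero]; exact W.zero_mem
    | add x y _ _ hx hy => rw [map_add]; exact W.add_mem hx hy
    | smul r x _ hx => rw [map_smul]; exact W.smul_mem r hx
  have hgc : ∀ w ∈ W, ρ c w ∈ W := by
    intro w hw
    induction hw using Submodule.span_induction with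
    | mem x hx =>
      obtain ⟨i, rfl⟩ := hx
      fin_cases i
      · exact hS.c0 ▸ hb 2
      · exact hS.c1 ▸ hb 3
      · exact hS.c2 ▸ hb 4
      · exact hS.c3 ▸ hb 5
      · exact hS.c4 ▸ hb 0
      · exact hS.c5 ▸ hb 1
    | zero => rw [map_zero]; exact W.zero_mem
    | add x y _ _ hx hy => rw [map_add]; exact W.add_mem hx hy
    | smul r x _ hx => rw [map_smul]; exact W.smul_mem r hx
  rcases hirr W (fun g => inv_of_gen ρ hgen hga hgc g) with h | h
  · exfalso
    have h1 := hb 0
    rw [h, Submodule.mem_bot] at h1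
    exact hv0 h1
  · exact h

/-- the matrix of `a` (columns: images of the basis vectors) -/
def mA : Matrix (Fin 6) (Fin 6) ℤ :=
  !![0, 1, 0, 0, 0, 0;
     1, 1, 0, 0, 0, 0;
     0, 0, 0, 0, 0, 1;
     0, 0, 0, 0, 1, 0;
     0, 0, 0, 1, 1, 0;
     0, 0, 1, 0, 0, 1]

/-- the matrix of `c` -/
def mC : Matrix (Fin 6) (Fin 6) ℤ :=
  !![0, 0, 0, 0, 1, 0;
     0, 0, 0, 0, 0, 1;
     1, 0, 0, 0, 0, 0;
     0, 1, 0, 0, 0, 0;
     0, 0, 1, 0, 0, 0;
     0, 0, 0, 1, 0, 0]

theorem Six.a_apply {ρ : G →* Module.End A V} {a c : G} {b : Fin 6 → V} (h : Six ρ a c b) (j : Fin 6) :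
    ρ a (b j) = ∑ i, (mA i j : A) • b i := by
  (revert j; simp only [Fin.sum_univ_succ, mA, h.a0, h.a1, h.a2, h.a3, h.a4, h.a5, _root_.Fin.forall_fin_succ, _root_.Matrix.of_apply, _root_.Matrix.cons_val', _root_.Matrix.cons_val_fin_one, Fin.isValue, _root_.Matrix.cons_val_zero, _root_.Matrix.cons_val_succ, _root_.Fin.succ_zero_eq_one, _root_.Fin.succ_one_eq_two, Fin.reduceSucc, _root_.Finset.univ_unique, _root_.Fin.default_eq_zero, _root_.Finset.sum_singleton, _root_.Int.cast_zero, _root_.zero_smul, _root_.Int.cast_one, _root_.one_smul, _root_.add_zero, _root_.zero_add, _root_.IsEmpty.forall_iff, _root_.and_self])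

theorem Six.c_apply {ρ : G →* Module.End A V} {a c : G} {b : Fin 6 → V} (h : Six ρ a c b) (j : Fin 6) :
    ρ c (b j) = ∑ i, (mC i j : A) • b i := by
  (revert j; simp only [Fin.sum_univ_succ, mC, h.c0, h.c1, h.c2, h.c3, h.c4, h.c5, _root_.Fin.forall_fin_succ, _root_.Matrix.of_apply, _root_.Matrix.cons_val', _root_.Matrix.cons_val_fin_one, Fin.isValue, _root_.Matrix.cons_val_zero, _root_.Matrix.cons_val_succ, _root_.Fin.succ_zero_eq_one, _root_.Fin.succ_one_eq_two, Fin.reduceSucc, _root_.Finset.univ_unique, _root_.Fin.default_eq_zero, _root_.Finset.sum_singleton, _root_.Int.cast_zero, _root_.zero_smul, _root_.Int.cast_one, _root_.one_smul, _root_.add_zero, _root_.zero_add, _root_.IsEmpty.forall_iff, _root_.and_self])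

end Cfsg.Agent.H936.SixVec
end

-- part: H936/U33Mod
section
/-!
# Representations of `SU₃(3)` in characteristic two of degree at most 13

`exists_basis`: an irreducible representation with `z` acting nontrivially, of degree at most 13, has degree six and is
given by the matrices `mA`, `mC` in a suitable basis.
-/

set_option autoImplicit false

namespace Cfsg.Agent.H936.U33Mod

open Module Cfsg.Agent.H659.Triple Cfsg.Agent.H659.HeisLine Cfsg.Agent.H936.TwoFix Cfsg.Agent.H936.U33
  Cfsg.Agent.H936.SixVec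

section

variable {A : Type*} [Field A] {V : Type*} [AddCommGroup V] [Module A V] [FiniteDimensional A V]

/-- Common eigenvectors of two commuting operators with distinct pairs of eigenvalues. -/
theorem card_le_of_pairs (X Y : Module.End A V) (hXY : Commute X Y) {ι : Type*} [Fintype ι] (v : ι → V)
    (hv : ∀ i, v i ≠ 0) (α β : ι → A) (hX : ∀ i, X (v i) = α i • v i) (hY : ∀ i, Y (v i) = β i • v i)
    (hinj : Function.Injective fun i => (α i, β i)) : Fintype.card ι ≤ finrank A V := by
  classical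
  let f : Fin 2 → Module.End A V := ![X, Y]
  have hcomm : ∀ i j, Commute (f i) (f j) := by
    intro i j
    fin_cases i <;> fin_cases j
    · exact Commute.refl _
    · exact hXY
    · exact hXY.symm
    · exact Commute.refl _
  have hind := Module.End.independent_iInf_maxGenEigenspace_of_forall_mapsTo f
    (fun i j φ => Module.End.mapsTo_maxGenEigenspace_of_comm (hcomm j i) φ)
  have hinj' : Function.Injective (fun i : ι => (![α i, β i] : Fin 2 → A)) := by
    intro i j hij
    apply hinj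
    have h0 := congrFun hij 0
    have h1 := congrFun hij 1
    exact Prod.ext h0 h1
  have hmem : ∀ (T : Module.End A V) (μ : A) (w : V), T w = μ • w → w ∈ T.maxGenEigenspace μ := by
    intro T μ w hw
    rw [Module.End.mem_maxGenEigenspace]
    refine ⟨1, ?_⟩
    rw [pow_one, LinearMap.sub_apply, LinearMap.smul_apply, Module.End.one_apply, hw, sub_self]
  have hl := (hind.comp hinj').linearIndependent _ (v := v) (fun i => by
    rw [Function.comp_apply, Submodule.mem_iInf]
    intro k
    fin_cases k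
    · exact hmem _ _ _ (hX i)
    · exact hmem _ _ _ (hY i)) hv
  exact hl.fintype_card_le_finrank

end

/-- the action on the weights -/
def st (w : ZMod 3 × ZMod 3) : ZMod 3 × ZMod 3 := (w.2, w.1 + w.2)

theorem st_inj : ∀ i j : ZMod 3, (i, j) ≠ (0, 0) → Function.Injective (fun k : Fin 8 => st^[(k : ℕ)] (i, j)) := by
  decide +kernel

section

variable {G : Type*} [Group G] [Finite G] {A : Type*} [Field A] [IsAlgClosed A] {V : Type*} [AddCommGroup V] [Module A V]
  [FiniteDimensional A V] {B U : Subgroup G} {n z x y h c : G}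

theorem pow_val_add {ω : A} (hω3 : ω ^ 3 = 1) (a b : ZMod 3) : ω ^ (a + b).val = ω ^ a.val * ω ^ b.val := by
  rw [← pow_add, ZMod.val_add]
  conv_rhs => rw [← Nat.mod_add_div (a.val + b.val) 3, pow_add, pow_mul, hω3, one_pow, mul_one]

theorem exists_basis (h2 : (2 : A) = 0) (D : GD B U n z x y h c) (ρ : G →* Module.End A V)
    (hirr : ∀ W : Submodule A V, (∀ g, ∀ v ∈ W, ρ g v ∈ W) → W = ⊥ ∨ W = ⊤) (hz : ρ z ≠ 1)
    (hd : finrank A V ≤ 13) : ∃ b : Basis (Fin 6) A V, Six ρ z c b := by
  classical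
  have happ : ∀ (g g' : G) (w : V), ρ (g * g') w = ρ g (ρ g' w) := fun g g' w => by
    rw [map_mul, Module.End.mul_apply]
  have hnt : Nontrivial V := by
    by_contra h0
    rw [not_nontrivial_iff_subsingleton] at h0
    exact hz (by ext w; exact Subsingleton.elim _ _)
  have h3 : (3 : A) ≠ 0 := by
    intro h3
    have : (1 : A) = 0 := by linear_combination h3 - h2
    exact one_ne_zero this
  obtain ⟨ω, hω, h1, hω3⟩ := exists_omega h3
  set T := ρ z with hT
  have hT3 : T ^ 3 = 1 := by rw [hT, ← map_pow, D.z3, map_one]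
  have hsum := sum_eigen hT3 h3 hω h1 hω3
  rw [Fin.sum_univ_three] at hsum
  change finrank A (T.eigenspace (ω ^ 0)) + finrank A (T.eigenspace (ω ^ 1)) + finrank A (T.eigenspace (ω ^ 2)) = _ at hsum
  rw [pow_zero, pow_one] at hsum
  have hUD : ∀ (μ : A) (u : G), u ∈ U → ∀ v ∈ T.eigenspace μ, ρ u v ∈ T.eigenspace μ := by
    intro μ u hu v hv
    rw [Module.End.mem_eigenspace_iff] at hv ⊢
    rw [hT, mul_app, D.cent u hu, ← mul_app, ← hT, hv, map_smul]
  have hzh : z * h = h * z⁻¹ := by
    have := D.hz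
    have e : z * (h * z) * z⁻¹ = z * (z⁻¹ * h) * z⁻¹ := by rw [this]
    simpa only [mul_assoc, _root_.mul_inv_cancel, _root_.mul_one, _root_.mul_inv_cancel_left] using e
  have hzi : z⁻¹ = z * z := by
    rw [inv_eq_iff_mul_eq_one, ← pow_two, ← pow_succ']
    exact D.z3
  have hzinv : ∀ (μ : A) (v : V), μ ^ 3 = 1 → T v = μ • v → ρ z⁻¹ v = (μ ^ 2) • v := by
    intro μ v hμ hv
    rw [hzi, ← mul_app, ← hT, hv, map_smul, hv, smul_smul, pow_two]
  have hhD : ∀ (μ : A), μ ^ 3 = 1 → ∀ v ∈ T.eigenspace μ, ρ h v ∈ T.eigenspace (μ ^ 2) := by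
    intro μ hμ v hv
    rw [Module.End.mem_eigenspace_iff] at hv ⊢
    rw [hT, mul_app, hzh, ← mul_app, hzinv μ v hμ hv, map_smul]
  have hd12 : finrank A (T.eigenspace ω) ≤ finrank A (T.eigenspace (ω ^ 2)) :=
    Cfsg.Agent.H659.SevenU42.finrank_le_of_maps ρ h (hhD ω hω3)
  have hd21 : finrank A (T.eigenspace (ω ^ 2)) ≤ finrank A (T.eigenspace ω) := by
    refine Cfsg.Agent.H659.SevenU42.finrank_le_of_maps ρ h ?_
    intro v hv
    have := hhD (ω ^ 2) (by rw [← pow_mul, mul_comm, pow_mul, hω3, one_pow]) v hv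
    have e : (ω ^ 2) ^ 2 = ω := by linear_combination ω * hω3
    rwa [e] at this
  have h3d : 3 ∣ finrank A (T.eigenspace ω) := by
    have h4 := pow_finrank ρ D.xy (ω := ω) (T.eigenspace ω) (hUD ω x D.xU) (hUD ω x⁻¹ (U.inv_mem D.xU))
      (hUD ω y D.yU) (hUD ω y⁻¹ (U.inv_mem D.yU)) (fun v hv => Module.End.mem_eigenspace_iff.1 hv)
    have h5 : orderOf ω = 3 := orderOf_eq_prime hω3 h1
    rw [← h5]
    exact orderOf_dvd_of_pow_eq_one h4
  have hd1 : finrank A (T.eigenspace ω) ≠ 0 := by
    intro h0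
    apply hz
    have h7 : finrank A (T.eigenspace (1 : A)) = finrank A V := by (clear * - hsum hd21 h0; omega)
    have h8 := Submodule.eq_top_of_finrank_eq h7
    ext v
    have h9 : v ∈ T.eigenspace (1 : A) := by rw [h8]; trivial
    rw [Module.End.mem_eigenspace_iff, one_smul] at h9
    rw [h9, Module.End.one_apply]
  have hE1d : finrank A (T.eigenspace (1 : A)) ≤ 7 := by omega
  -- no fixed vectors
  have hE1 : T.eigenspace (1 : A) = ⊥ := by
    by_contra hbot
    set E := T.eigenspace (1 : A) with hE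
    have hEm : ∀ v, v ∈ E ↔ ρ z v = v := by
      intro v
      rw [hE, Module.End.mem_eigenspace_iff, one_smul]
    have hEn : Nontrivial E := Submodule.nontrivial_iff_ne_bot.2 hbot
    let X : Module.End A E := (ρ x).restrict (hUD 1 x D.xU)
    let Y : Module.End A E := (ρ y).restrict (hUD 1 y D.yU)
    have hXv : ∀ v : E, (X v : V) = ρ x v := fun v => rfl
    have hYv : ∀ v : E, (Y v : V) = ρ y v := fun v => rfl
    have hXY : Commute X Y := by
      ext v
      change ρ x (ρ y (v : V)) = ρ y (ρ x (v : V))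
      rw [← happ, ← happ, D.xy, happ, (hEm _).1]
      rw [happ]
      exact hUD 1 y D.yU _ (hUD 1 x D.xU _ v.2)
    -- a common eigenvector
    obtain ⟨α, hα⟩ := Module.End.exists_eigenvalue X
    have hXn : Nontrivial (X.eigenspace α) := Submodule.nontrivial_iff_ne_bot.2 hα
    have hYm : ∀ v ∈ X.eigenspace α, Y v ∈ X.eigenspace α := by
      intro v hv
      rw [Module.End.mem_eigenspace_iff] at hv ⊢
      rw [← Module.End.mul_apply, hXY.eq, Module.End.mul_apply, hv, map_smul]
    obtain ⟨β, hβ⟩ := Module.End.exists_eigenvalue (Y.restrict hYm)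
    obtain ⟨w1, hw1, hw10⟩ := Submodule.exists_mem_ne_zero_of_ne_bot hβ
    have hYw : Y w1 = β • (w1 : E) := congrArg Subtype.val (Module.End.mem_eigenspace_iff.1 hw1)
    have hXw : X w1 = α • (w1 : E) := Module.End.mem_eigenspace_iff.1 w1.2
    obtain ⟨w, hwE⟩ : ∃ w : E, w = (w1 : E) := ⟨_, rfl⟩
    rw [← hwE] at hYw hXw
    have hw0 : w ≠ 0 := by
      rw [hwE]
      exact fun h0 => hw10 (Subtype.ext h0)
    have hX3 : X ^ 3 = 1 := by
      ext v
      change ρ x (ρ x (ρ x (v : V))) = v
      rw [← happ, ← happ, ← pow_two, ← pow_succ, D.x3, map_one, Module.End.one_apply]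
    have hY3 : Y ^ 3 = 1 := by
      ext v
      change ρ y (ρ y (ρ y (v : V))) = v
      rw [← happ, ← happ, ← pow_two, ← pow_succ, D.y3, map_one, Module.End.one_apply]
    obtain ⟨i, hi⟩ := exists_pow hω hω3 (pow_eigen hX3 hw0 hXw)
    obtain ⟨j, hj⟩ := exists_pow hω hω3 (pow_eigen hY3 hw0 hYw)
    have hHE : ∀ v ∈ E, ρ h v ∈ E := by
      intro v hv
      have := hhD 1 (one_pow 3) v hv
      rwa [one_pow] at this
    let H : Module.End A E := (ρ h).restrict hHE
    have hHv : ∀ v : E, (H v : V) = ρ h v := fun v => rfl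
    have hXH : ∀ v : E, X (H v) = H (Y v) := by
      intro v
      apply Subtype.ext
      change ρ x (ρ h (v : V)) = ρ h (ρ y (v : V))
      rw [← happ, ← happ, D.xh]
    have hYH : ∀ v : E, Y (H v) = H (X (Y v)) := by
      intro v
      apply Subtype.ext
      change ρ y (ρ h (v : V)) = ρ h (ρ x (ρ y (v : V)))
      rw [← happ, D.yh, happ, happ, (hEm _).1 v.2, happ]
    have hH8 : H ^ 8 = 1 := by
      have hp : ∀ (m : ℕ) (v : E), (((H ^ m) v : E) : V) = ρ (h ^ m) v := by
        intro m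
        induction m with
        | zero => intro v; simp only [_root_.pow_zero, _root_.Module.End.one_apply, _root_.map_one]
        | succ m ih =>
          intro v
          rw [pow_succ, Module.End.mul_apply, ih, pow_succ, happ]
          rfl
      ext v
      rw [hp, D.h8, map_one]
      rfl
    have hHinj : Function.Injective H := by
      have e : H ^ 7 * H = 1 := by rw [← pow_succ, hH8]
      intro a b hab
      have h5 : (H ^ 7) (H a) = (H ^ 7) (H b) := by rw [hab]
      rwa [← Module.End.mul_apply, ← Module.End.mul_apply, e, Module.End.one_apply, Module.End.one_apply] at h5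
    by_cases h00 : ((i : ZMod 3), (j : ZMod 3)) = (0, 0)
    · -- trivial weight
      have hi0 : i = 0 := congrArg Prod.fst h00
      have hj0 : j = 0 := congrArg Prod.snd h00
      rw [hi0] at hi
      rw [hj0] at hj
      let W : Submodule A E := LinearMap.eqLocus X LinearMap.id ⊓ LinearMap.eqLocus Y LinearMap.id
      have hWm : ∀ v, v ∈ W ↔ X v = v ∧ Y v = v := fun v => Iff.rfl
      have hwW : w ∈ W := by
        rw [hWm, hXw, hYw, hi, hj]
        simp
      have hWn : Nontrivial W := ⟨⟨⟨w, hwW⟩, 0, fun h0 => hw0 (congrArg Subtype.val h0)⟩⟩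
      have hWi : ∀ v ∈ W, H v ∈ W := by
        intro v hv
        rw [hWm] at hv ⊢
        rw [hXH, hYH, hv.2, hv.1]
        exact ⟨rfl, rfl⟩
      obtain ⟨u, hu0, hu⟩ := exists_fixed_of_pow (k := 3) h2 (T := H.restrict hWi) (by
        have hp : ∀ (m : ℕ) (v : W), ((((H.restrict hWi) ^ m) v : W) : E) = (H ^ m) v := by
          intro m
          induction m with
          | zero => intro v; simp only [_root_.pow_zero, _root_.Module.End.one_apply]
          | succ m ih =>
            intro v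
            rw [pow_succ, Module.End.mul_apply, ih, pow_succ, Module.End.mul_apply]
            rfl
        ext v
        rw [hp, show 2 ^ 3 = 8 by norm_num, hH8]
        rfl)
      have hfix : ∀ b ∈ B, ρ b ((u : E) : V) = ((u : E) : V) := by
        intro b hb
        have hb' := D.fix hb
        let S : Subgroup G :=
          { carrier := {g | ρ g ((u : E) : V) = ((u : E) : V)}
            mul_mem' := fun {a b} ha hb => by
              change ρ (a * b) _ = _
              rw [happ, show ρ b ((u : E) : V) = _ from hb, show ρ a ((u : E) : V) = _ from ha]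
            one_mem' := by change ρ 1 _ = _; rw [map_one]; rfl
            inv_mem' := fun {a} ha => by
              change ρ a⁻¹ _ = _
              conv_lhs => rw [← (show ρ a ((u : E) : V) = _ from ha)]
              rw [← happ, inv_mul_cancel, map_one]; rfl }
        have hS : Subgroup.closure {x, y, z, h} ≤ S := by
          rw [Subgroup.closure_le]
          rintro g (rfl | rfl | rfl | hg)
          · exact congrArg Subtype.val u.2.1
          · exact congrArg Subtype.val u.2.2
          · exact (hEm _).1 (u : E).2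
          · rw [Set.mem_singleton_iff.1 hg]
            exact congrArg (fun a : W => ((a : E) : V)) hu
        exact hS hb'
      have h5 := no_fixed h2 ρ hirr ⟨z, hz⟩ D.data (by rw [D.card]; decide) hfix
      exact hu0 (Subtype.ext (Subtype.ext h5))
    · -- eight weights
      let wt : ℕ → ZMod 3 × ZMod 3 := fun k => st^[k] (i, j)
      let v : ℕ → E := fun k => (H ^ k) w
      have hv0 : ∀ k, v k ≠ 0 := by
        intro k
        induction k with
        | zero => exact hw0
        | succ k ih =>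
          change (H ^ (k + 1)) w ≠ 0
          rw [pow_succ', Module.End.mul_apply]
          intro h0
          exact ih (hHinj (by rw [map_zero]; exact h0))
      have hvw : ∀ k, X (v k) = ω ^ (wt k).1.val • v k ∧ Y (v k) = ω ^ (wt k).2.val • v k := by
        intro k
        induction k with
        | zero =>
          constructor
          · change X w = ω ^ (i : ZMod 3).val • w
            rw [hXw, hi]
          · change Y w = ω ^ (j : ZMod 3).val • w
            rw [hYw, hj]
        | succ k ih =>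
          have e1 : v (k + 1) = H (v k) := by
            change (H ^ (k + 1)) w = _
            rw [pow_succ', Module.End.mul_apply]
          have e2 : wt (k + 1) = st (wt k) := Function.iterate_succ_apply' _ _ _
          rw [e1, e2]
          constructor
          · rw [hXH, ih.2, map_smul]; rfl
          · rw [hYH, ih.2, map_smul, ih.1, map_smul, map_smul, smul_smul]
            congr 1
            change _ = ω ^ ((wt k).1 + (wt k).2).val
            rw [pow_val_add hω3, mul_comm]
      have h8 := card_le_of_pairs X Y hXY (ι := Fin 8) (fun k => v k) (fun k => hv0 k)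
        (fun k => ω ^ (wt k).1.val) (fun k => ω ^ (wt k).2.val) (fun k => (hvw k).1) (fun k => (hvw k).2) (by
          intro k l hkl
          have hk := congrArg Prod.fst hkl
          have hl := congrArg Prod.snd hkl
          have e1 : (wt k).1 = (wt l).1 := pow_inj_fin hω h1 hω3 hk
          have e2 : (wt k).2 = (wt l).2 := pow_inj_fin hω h1 hω3 hl
          exact st_inj i j h00 (Prod.ext e1 e2))
      rw [Fintype.card_fin] at h8
      omega
  have ha : ∀ w, ρ z (ρ z w) = ρ z w + w := by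
    intro w
    have h5 : (ρ z (ρ z w) + ρ z w + w) ∈ T.eigenspace (1 : A) := by
      rw [Module.End.mem_eigenspace_iff, one_smul, map_add, map_add]
      have e : T (T (T w)) = w := by
        have := congrArg (fun S : Module.End A V => S w) hT3
        exact this
      change T (T (T w)) + T (T w) + T w = T (T w) + T w + w
      rw [e]; abel
    rw [hE1, Submodule.mem_bot, add_assoc] at h5
    rw [← neg_eq h2 (ρ z (ρ z w))]
    exact neg_eq_of_add_eq_zero_right h5
  obtain ⟨b, hS, hspan⟩ := exists_six h2 ρ hirr D.gen ha D.c3 D.cz D.s4 D.comm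
  have h0 : finrank A (T.eigenspace (1 : A)) = 0 := by rw [hE1]; exact finrank_bot A V
  have hcard : Fintype.card (Fin 6) ≤ finrank A V := by
    rw [Fintype.card_fin]; (clear * - hsum hd12 h3d hd1; omega)
  have hle : finrank A V ≤ 6 := by
    have := finrank_le_of_span_eq_top hspan
    rwa [Fintype.card_fin] at this
  have hli : LinearIndependent A b := linearIndependent_of_top_le_span_of_card_eq_finrank (le_of_eq hspan.symm) (by
    rw [Fintype.card_fin] at hcard ⊢
    (clear * - hcard hle; omega))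
  refine ⟨Basis.mk hli (le_of_eq hspan.symm), ?_⟩
  rw [Basis.coe_mk]
  exact hS

end

end Cfsg.Agent.H936.U33Mod
end

-- part: H936/U33Two
section
/-!
# `PSU₃(3)` in characteristic two, degree at most 13

`u33_two`: the degree is six, the core is self-dual and its traces are in the prime field.
-/

set_option autoImplicit false

namespace Cfsg.Agent.H936.U33Two

open Module Cfsg Cfsg.Geo Cfsg.Agent.H915.LD Cfsg.Agent.H936.TwoFix Cfsg.Agent.H936.U33 Cfsg.Agent.H936.SixVec
  Cfsg.Agent.UThreeGen.MatGroup Cfsg.Agent.H906 Cfsg.Agent.H659.SevenU33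

universe u v

section

variable {G : Type*} [Group G] [Finite G] {A : Type*} [Field A] {V V' : Type*} [AddCommGroup V] [Module A V]
  [AddCommGroup V'] [Module A V']

theorem toMatrix_gen {ρ : G →* Module.End A V} {a c : G} {b : Basis (Fin 6) A V} (h : Six ρ a c b) :
    LinearMap.toMatrix b b (ρ a) = mA.map (Int.cast : ℤ → A) ∧
      LinearMap.toMatrix b b (ρ c) = _root_.Cfsg.Agent.H936.SixVec.mC.map (Int.cast : ℤ → A) := by
  constructor
  · ext i j
    rw [LinearMap.toMatrix_apply, h.a_apply, Matrix.map_apply, map_sum, Finset.sum_apply']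
    simp [Finsupp.single_apply]
  · ext i j
    rw [LinearMap.toMatrix_apply, h.c_apply, Matrix.map_apply, map_sum, Finset.sum_apply']
    simp [Finsupp.single_apply]

theorem exists_int {ρ : G →* Module.End A V} {ρ' : G →* Module.End A V'} {a c : G}
    (hgen : Subgroup.closure {a, c} = ⊤) {b : Basis (Fin 6) A V} {b' : Basis (Fin 6) A V'} (h : Six ρ a c b)
    (h' : Six ρ' a c b') (g : G) : ∃ N : Matrix (Fin 6) (Fin 6) ℤ,
      LinearMap.toMatrix b b (ρ g) = N.map (Int.cast : ℤ → A) ∧
      LinearMap.toMatrix b' b' (ρ' g) = N.map (Int.cast : ℤ → A) := by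
  have hg : g ∈ Submonoid.closure ({a, c} : Set G) := by
    rw [← Subgroup.closure_toSubmonoid_of_finite, hgen]
    trivial
  induction hg using Submonoid.closure_induction with
  | mem x hx =>
    rcases hx with rfl | hx
    · exact ⟨mA, (toMatrix_gen h).1, (toMatrix_gen h').1⟩
    · rw [Set.mem_singleton_iff.1 hx]
      exact ⟨_root_.Cfsg.Agent.H936.SixVec.mC, (toMatrix_gen h).2, (toMatrix_gen h').2⟩
  | one =>
    refine ⟨1, ?_, ?_⟩
    · rw [map_one, LinearMap.toMatrix_one, Matrix.map_one _ Int.cast_zero Int.cast_one]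
    · rw [map_one, LinearMap.toMatrix_one, Matrix.map_one _ Int.cast_zero Int.cast_one]
  | mul x y _ _ hx hy =>
    obtain ⟨N, hN, hN'⟩ := hx
    obtain ⟨M, hM, hM'⟩ := hy
    have e : ((N * M).map (Int.cast : ℤ → A)) = N.map (Int.cast : ℤ → A) * M.map (Int.cast : ℤ → A) :=
      Matrix.map_mul (f := Int.castRingHom A)
    refine ⟨N * M, ?_, ?_⟩
    · rw [map_mul, LinearMap.toMatrix_mul, hN, hM, e]
    · rw [map_mul, LinearMap.toMatrix_mul, hN', hM', e]

variable [FiniteDimensional A V] [FiniteDimensional A V']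

theorem trace_eq_int {ρ : G →* Module.End A V} {ρ' : G →* Module.End A V'} {a c : G}
    (hgen : Subgroup.closure {a, c} = ⊤) {b : Basis (Fin 6) A V} {b' : Basis (Fin 6) A V'} (h : Six ρ a c b)
    (h' : Six ρ' a c b') (g : G) : ∃ m : ℤ, LinearMap.trace A V (ρ g) = m ∧ LinearMap.trace A V' (ρ' g) = m := by
  obtain ⟨N, hN, hN'⟩ := exists_int hgen h h' g
  refine ⟨N.trace, ?_, ?_⟩
  · rw [LinearMap.trace_eq_matrix_trace A b, hN]
    simp [Matrix.trace]
  · rw [LinearMap.trace_eq_matrix_trace A b', hN']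
    simp [Matrix.trace]

end

section

variable {G : Type*} [Group G] {A : Type*} [Field A] {ι : Type*} [Fintype ι] [DecidableEq ι]

/-- the representation by endomorphisms -/
def toEnd (ρ : G →* Matrix ι ι A) : G →* Module.End A (ι → A) :=
  (Matrix.toLinAlgEquiv' : Matrix ι ι A ≃ₐ[A] _).toMonoidHom.comp ρ

theorem trace_toEnd (ρ : G →* Matrix ι ι A) (g : G) : LinearMap.trace A _ (toEnd ρ g) = (ρ g).trace :=
  Matrix.trace_toLin'_eq (ρ g)

theorem toEnd_ne_one {ρ : G →* Matrix ι ι A} {g : G} (h : ρ g ≠ 1) : toEnd ρ g ≠ 1 := by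
  intro h0
  apply h
  have h1 : (Matrix.toLinAlgEquiv' : Matrix ι ι A ≃ₐ[A] _) (ρ g) = 1 := h0
  exact (map_eq_one_iff _ (Matrix.toLinAlgEquiv' : Matrix ι ι A ≃ₐ[A] _).injective).1 h1

end

theorem u33_two {ι : Type} [Fintype ι] [DecidableEq ι] {F : Type u} [Field F] [Finite F] [CharP F 2]
    {P : Subgroup (GL ι F)} (hC : Core P) {K : Type v} [Field K] [Fintype K] (hK : Fintype.card K = 9)
    (e : Nonempty (Soc P ≃* PSU 3 K 3)) (hn : Fintype.card ι ≤ 13) : Fintype.card ι = 6 ∧ SD P ∧ Fr P 2 := by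
  classical
  obtain ⟨e⟩ := e
  have hmul : HasCyclicSchurMultiplier (PSU 3 K 3) (Nat.gcd 3 (3 + 1)) :=
    Cfsg.Agent.S2089.result 3 3 hK le_rfl (by norm_num) (by simp)
  obtain ⟨e', -⟩ := hC.equiv_of_coprime e hmul (by
    rw [Nat.card_congr Multiplicative.toAdd, Nat.card_zmod]
    norm_num only [_root_.Nat.coprime_one_left_eq_true])
  have hcK : Nat.card K = 3 ^ 2 := by rw [Nat.card_eq_fintype_card, hK]; norm_num
  obtain ⟨r, hr⟩ := CharP.exists K
  have hrp : r.Prime := CharP.char_is_prime K r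
  have hr3 : r = 3 := by
    have h1 : ((Fintype.card K : ℕ) : K) = 0 := Nat.cast_card_eq_zero K
    rw [CharP.cast_eq_zero_iff K r, hK, show 9 = 3 ^ 2 by norm_num] at h1
    exact (Nat.prime_dvd_prime_iff_eq hrp Nat.prime_three).1 (hrp.dvd_of_dvd_pow h1)
  subst hr3
  have hexp : ExpChar K 3 := ExpChar.prime Nat.prime_three
  set σ : K →+* K := frobenius K 3 with hσdef
  have hs : ∀ x, σ x = x ^ 3 := fun x => frobenius_def _ _
  have hσ : Fact (∀ x, σ (σ x) = x) := ⟨fun x => by
    rw [hs, hs, ← pow_mul]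
    have := FiniteField.pow_card x
    rwa [hK] at this⟩
  obtain ⟨q, hqs, hqk⟩ := exists_psu_hom (σ := σ) (by norm_num) hs hcK
  obtain ⟨z, x, y, h, c, D⟩ := exists_data hs hcK
  -- the representation
  let r : SUG σ →* P := e'.symm.toMonoidHom.comp q
  have hr : Function.Surjective r := e'.symm.surjective.comp hqs
  let ρ' : SUG σ →* Matrix ι ι F := ((Units.coeHom _).comp P.subtype).comp r
  have hspan : Submodule.span F (Set.range ρ') = ⊤ := by
    rw [← span_subtype hC.absIrred]
    congr 1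
    ext X
    constructor
    · rintro ⟨g, rfl⟩
      exact ⟨r g, rfl⟩
    · rintro ⟨g, rfl⟩
      obtain ⟨g, rfl⟩ := hr g
      exact ⟨g, rfl⟩
  let A := AlgebraicClosure F
  have h2F : (2 : F) = 0 := by exact_mod_cast CharP.cast_eq_zero F 2
  have h2A : (2 : A) = 0 := by
    have := congrArg (algebraMap F A) h2F
    rwa [map_zero, map_ofNat] at this
  let ρA : SUG σ →* Matrix ι ι A := extRep A ρ'
  have hspanA : Submodule.span A (Set.range ρA) = ⊤ := span_extRep hspan
  have hfin : Finite (SUG σ) := inferInstance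
  have hρz : ρA z ≠ 1 := by
    intro h0
    have h1 : r z = 1 := by
      apply Subtype.ext
      apply Units.ext
      ext i j
      apply (algebraMap F A).injective
      have := congrFun (congrFun h0 i) j
      change algebraMap F A ((((r z : P) : GL ι F) : Matrix ι ι F) i j) = _ at this
      rw [this]
      by_cases hij : i = j
      · subst hij; simp only [_root_.Matrix.one_apply_eq, _root_.OneMemClass.coe_one, _root_.Units.val_one, _root_.map_one]
      · simp only [hij, _root_.ne_eq, _root_.not_false_eq_true, _root_.Matrix.one_apply_ne, _root_.OneMemClass.coe_one, _root_.Units.val_one, _root_.map_zero]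
    have h3 : q z = 1 := by
      have h4 : e'.symm (q z) = 1 := h1
      rwa [map_eq_one_iff _ e'.symm.injective] at h4
    have h4 : z ∈ Subgroup.center (SUG σ) := by rw [← hqk]; exact h3
    obtain ⟨w, hw⟩ := D.zU
    rw [← hw] at h4
    have h5 := eq_one_of_mem_center h4
    apply D.z1
    rw [← hw, h5, map_one]
  have hdim : ∀ ρ : SUG σ →* Matrix ι ι A, Submodule.span A (Set.range ρ) = ⊤ → ρ z ≠ 1 →
      ∃ b : Basis (Fin 6) A (ι → A), Six (toEnd ρ) z c b := by
    intro ρ hρ hρz
    exact Cfsg.Agent.H936.U33Mod.exists_basis h2A D (toEnd ρ) (fun W hW => eq_bot_or_top hρ W hW) (toEnd_ne_one hρz) (by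
      rw [finrank_fintype_fun_eq_card]; exact hn)
  obtain ⟨b, hb⟩ := hdim ρA hspanA hρz
  obtain ⟨b', hb'⟩ := hdim (contra ρA) (span_contra hspanA) (by
    intro h0
    rw [contra_apply] at h0
    apply hρz
    have h1 : ρA z⁻¹ = 1 := by
      rw [← Matrix.transpose_transpose (ρA z⁻¹), h0, Matrix.transpose_one]
    have h3 : ρA z * ρA z⁻¹ = 1 := by rw [← map_mul, mul_inv_cancel, map_one]
    rwa [h1, mul_one] at h3)
  have hcard : Fintype.card ι = 6 := by
    have h1 := Module.finrank_eq_card_basis b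
    rwa [finrank_fintype_fun_eq_card, Fintype.card_fin] at h1
  have htr : ∀ g, (ρA g).trace = algebraMap F A (tr (r g : GL ι F)) := fun g => trace_extRep ρ' g
  have key : ∀ g : P, ∃ m : ℤ, algebraMap F A (tr (g : GL ι F)) = m ∧ algebraMap F A (tr (g : GL ι F)⁻¹) = m := by
    intro g
    obtain ⟨g, rfl⟩ := hr g
    obtain ⟨m, h1, h2⟩ := trace_eq_int D.gen hb hb' g
    refine ⟨m, ?_, ?_⟩
    · rw [← htr, ← trace_toEnd, h1]
    · rw [trace_toEnd, contra_apply, Matrix.trace_transpose, htr, map_inv] at h2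
      exact h2
  refine ⟨hcard, ?_, ?_⟩
  · intro g hg
    obtain ⟨m, h1, h2⟩ := key ⟨g, hg⟩
    apply (algebraMap F A).injective
    rw [h1, h2]
  · intro g hg
    obtain ⟨m, h1, -⟩ := key ⟨g, hg⟩
    apply (algebraMap F A).injective
    rw [map_pow, h1]
    rcases Int.even_or_odd' m with ⟨k, hk | hk⟩
    · have h3 : (m : A) = 0 := by rw [hk, Int.cast_mul, Int.cast_ofNat, h2A, zero_mul]
      rw [h3]; ring
    · have h3 : (m : A) = 1 := by
        rw [hk, Int.cast_add, Int.cast_mul, Int.cast_ofNat, h2A, zero_mul, Int.cast_one, zero_add]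
      rw [h3]; ring

end Cfsg.Agent.H936.U33Two
end

private theorem dce_4b06826c37a5 : _root_.True := by
  try have : _root_.True := by simp only [_root_.Cfsg.Agent.H936.U33.mH.eq_1]
  try have : _root_.True := by simp only [_root_.Cfsg.Agent.H936.U33.gm9.eq_1]
  try have : _root_.True := by simp only [_root_.Cfsg.Agent.H936.SixVec.mC.eq_1]
  try have : _root_.True := by simp only [_root_.Cfsg.Agent.H936.U33.mN.eq_1]
  try have : _root_.True := by simp only [_root_.Cfsg.Agent.H936.SixVec.mA.eq_1]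
  exact _root_.True.intro
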