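import Cfsg.Agent.H937.T2Rep_m3
import Cfsg.Agent.H659.SevenU42_m3
import Cfsg.Agent.LieRecognition.RankOneAbstract
import Cfsg.Agent.H906.U3Def
import Cfsg.Agent.ChevalleyStructure.NineField
import Cfsg.Agent.H659.AcIrr
import Cfsg.Agent.H464.L2StageOne_m3
import Cfsg.Agent.H906.Cover_m3
import Cfsg.Agent.H95.StemCover
import Cfsg.Agent.S2089
import Cfsg.Agent.LieClassical.FieldTransfer
import Cfsg.Agent.H936.U33Two
import Cfsg.Agent.FastGrp
import Cfsg.Agent.Prune
set_option linter.all false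

section
prune_inst 0x7fffffffbbf8f9dfdfff7e7ffe9edffdffffbfffe6dff9cbffe0e9ffbbdf7b0acfe5abad8fea5bfe1ef7623490f87b53fffffeffeb6bfc7ffffd1ff41ffbffcffdf7b50951fe8cb40fbc2fff03f0778e7f3fffffffffffffffffffffffffffbeffbfffffffff

-- part: H659/U3Stage
section
set_option linter.all false
open scoped Cfsg.Agent.FastGrp

-- part: H659/U3Borel
section
/-!
# Representations of `SU₃(3)` of degree ≤ 12, characteristic ≠ 3: the fixed space of the centre of a Sylow 3-subgroup
-/

set_option autoImplicit false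

namespace Cfsg.Agent.H659.U3

open Module
open Cfsg.Agent.H659.Sp4 (Om Fi Ei mem_Fi mem_Ei eq_zero_of_neg decomp finrank_le_of_inj om_zero)
open Cfsg.Agent.H659.Triple

variable {G : Type*} [Group G]

/-- the group data -/
structure BD (B U : Subgroup G) (z x y h w : G) : Prop where
  data : Cfsg.Agent.LieRecognition.RankOneAbstract.Data B U w
  hB : ∀ b ∈ B, ∃ u ∈ U, ∃ k : ℕ, b = u * h ^ k
  gen : ∀ u ∈ U, ∃ a b c : ℕ, u = x ^ a * y ^ b * z ^ c
  xU : x ∈ U
  yU : y ∈ U
  z3 : z ^ 3 = 1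
  x3 : x ^ 3 = 1
  y3 : y ^ 3 = 1
  xy : x * y = z * (y * x)
  zx : z * x = x * z
  zy : z * y = y * z
  zh : z * h = h * (z * z)
  xh : x * h = h * (x * (y * z))
  yh : y * h = h * (x * (x * (y * (z * z))))
  hw : h * w = w * h ^ 5
  h8 : h ^ 8 = 1

variable {K : Type*} [Field K] {V : Type*} [AddCommGroup V] [Module K V] {B U : Subgroup G} {z x y h w : G}
  (H : BD B U z x y h w) (ρ : G →* Module.End K V)

theorem mul_app (a b : G) (v : V) : ρ a (ρ b v) = ρ (a * b) v := by rw [map_mul, Module.End.mul_apply]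

theorem comb8 (m : Fin 3 → Fin 3 → ℕ) (h : ∀ j k, m j k ≤ m (j + k) (j + j + k)) :
    ∀ j k, (j ≠ 0 ∨ k ≠ 0) → m j k = m 0 1 := by
  have c1 : m 0 1 ≤ m 1 1 := h 0 1
  have c2 : m 1 1 ≤ m 2 0 := h 1 1
  have c3 : m 2 0 ≤ m 2 1 := h 2 0
  have c4 : m 2 1 ≤ m 0 2 := h 2 1
  have c5 : m 0 2 ≤ m 2 2 := h 0 2
  have c6 : m 2 2 ≤ m 1 0 := h 2 2
  have c7 : m 1 0 ≤ m 1 2 := h 1 0
  have c8 : m 1 2 ≤ m 0 1 := h 1 2
  intro j k hjk
  fin_cases j <;> fin_cases k
  · rcases hjk with h | h <;> exact absurd rfl h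
  · rfl
  · change m 0 2 = m 0 1; omega
  · change m 1 0 = m 0 1; omega
  · change m 1 1 = m 0 1; omega
  · change m 1 2 = m 0 1; omega
  · change m 2 0 = m 0 1; omega
  · change m 2 1 = m 0 1; omega
  · change m 2 2 = m 0 1; omega

section D

variable [FiniteDimensional K V] [IsAlgClosed K] (h3 : (3 : K) ≠ 0)

include H h3 in
/-- `U` acts trivially on the fixed space of `z` if its dimension is at most 7 -/
theorem xy_fix (hD : finrank K (Fi (ρ z)) ≤ 7) {v : V} (hv : ρ z v = v) : ρ x v = v ∧ ρ y v = v := by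
  obtain ⟨ω, w1, w2, w3⟩ := exists_omega h3
  have hω : Om ω := ⟨w1, w2, w3⟩
  have hxD : ∀ v ∈ Fi (ρ z), ρ x v ∈ Fi (ρ z) := by
    intro v hv
    rw [mem_Fi] at hv ⊢
    rw [mul_app, H.zx, ← mul_app, hv]
  have hyD : ∀ v ∈ Fi (ρ z), ρ y v ∈ Fi (ρ z) := by
    intro v hv
    rw [mem_Fi] at hv ⊢
    rw [mul_app, H.zy, ← mul_app, hv]
  have hhD : ∀ v ∈ Fi (ρ z), ρ h v ∈ Fi (ρ z) := by
    intro v hv
    rw [mem_Fi] at hv ⊢
    rw [mul_app, H.zh, ← mul_app, ← mul_app, hv, hv]
  have hhD' : ∀ v ∈ Fi (ρ z), ρ h⁻¹ v ∈ Fi (ρ z) := by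
    intro v hv
    have e : h⁻¹ = h ^ 7 := by
      rw [inv_eq_iff_mul_eq_one, ← pow_succ']; exact H.h8
    rw [e]
    have : ∀ k : ℕ, ρ (h ^ k) v ∈ Fi (ρ z) := by
      intro k
      induction k with
      | zero => rw [pow_zero, map_one]; exact hv
      | succ k ih => rw [pow_succ', ← mul_app]; exact hhD _ ih
    exact this 7
  let X : Module.End K (Fi (ρ z)) := (ρ x).restrict hxD
  let Y : Module.End K (Fi (ρ z)) := (ρ y).restrict hyD
  let Hh : Module.End K (Fi (ρ z)) := (ρ h).restrict hhD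
  let Hh' : Module.End K (Fi (ρ z)) := (ρ h⁻¹).restrict hhD'
  have hXY : X * Y = Y * X := by
    ext v
    change ρ x (ρ y v) = ρ y (ρ x v)
    have hv : ρ z (ρ (y * x) v) = ρ (y * x) v := by
      have := hyD _ (hxD _ v.2)
      rw [← mul_app]; exact this
    rw [mul_app, H.xy, ← mul_app, hv, mul_app]
  have hX3 : X ^ 3 = 1 := by
    ext v
    rw [pow_succ, pow_two]
    change ρ x (ρ x (ρ x v)) = v
    rw [mul_app, mul_app, ← pow_two, ← pow_succ, H.x3, map_one, Module.End.one_apply]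
  have hY3 : Y ^ 3 = 1 := by
    ext v
    rw [pow_succ, pow_two]
    change ρ y (ρ y (ρ y v)) = v
    rw [mul_app, mul_app, ← pow_two, ← pow_succ, H.y3, map_one, Module.End.one_apply]
  have hz : ∀ v : Fi (ρ z), ρ z (v : V) = v := fun v => v.2
  have hXH : ∀ v, X (Hh v) = Hh (X (Y v)) := by
    intro v
    apply Subtype.ext
    change ρ x (ρ h v) = ρ h (ρ x (ρ y v))
    rw [mul_app, H.xh, ← mul_app, ← mul_app, ← mul_app, hz]
  have hYH : ∀ v, Y (Hh v) = Hh (X (X (Y v))) := by
    intro v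
    apply Subtype.ext
    change ρ y (ρ h v) = ρ h (ρ x (ρ x (ρ y v)))
    rw [mul_app, H.yh, ← mul_app, ← mul_app, ← mul_app, ← mul_app, ← mul_app, hz, hz]
  have hm : ∀ j k, finrank K (E3 (1 : Module.End K (Fi (ρ z))) X Y ω (0, j, k)) ≤
      finrank K (E3 (1 : Module.End K (Fi (ρ z))) X Y ω (0, j + k, j + j + k)) := by
    intro j k
    refine finrank_le_of_inj (T := Hh) (T' := Hh') ?_ ?_
    · intro v
      apply Subtype.ext
      change ρ h⁻¹ (ρ h v) = v
      rw [mul_app, inv_mul_cancel, map_one, Module.End.one_apply]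
    · intro v hv
      rw [mem_E3] at hv ⊢
      obtain ⟨-, a2, a3⟩ := hv
      refine ⟨?_, ?_, ?_⟩
      · rw [om_zero, Module.End.one_apply]
      · rw [hXH, a3, map_smul, map_smul, a2, map_smul, smul_smul]
        change _ = ω ^ (j + k).val • _
        rw [pow_add_fin hω.c, mul_comm]
      · rw [hYH, a3, map_smul, map_smul, map_smul, a2, map_smul, a2, map_smul, map_smul, smul_smul, smul_smul]
        change _ = ω ^ (j + j + k).val • _
        rw [pow_add_fin hω.c, pow_add_fin hω.c]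
        congr 1; ring
  have hc := comb8 _ hm
  have hsum := sum_E3 (A := (1 : Module.End K (Fi (ρ z)))) (B := X) (C := Y) (by rw [one_mul, mul_one])
    (by rw [one_mul, mul_one]) hXY (one_pow 3) hX3 hY3 h3 hω.a hω.b hω.c
  simp only [Fintype.sum_prod_type, Fin.sum_univ_three] at hsum
  have b1 := hc 0 2 (by decide)
  have b2 := hc 1 0 (by decide)
  have b3 := hc 1 1 (by decide)
  have b4 := hc 1 2 (by decide)
  have b5 := hc 2 0 (by decide)
  have b6 := hc 2 1 (by decide)
  have b7 := hc 2 2 (by decide)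
  have h01 : finrank K (E3 (1 : Module.End K (Fi (ρ z))) X Y ω (0, 0, 1)) = 0 := by
    omega
  have hzero : ∀ j k, (j ≠ 0 ∨ k ≠ 0) → ∀ v ∈ E3 (1 : Module.End K (Fi (ρ z))) X Y ω (0, j, k), v = 0 := by
    intro j k hjk v hv
    have e := (hc j k hjk).trans h01
    rw [Submodule.finrank_eq_zero.1 e] at hv
    exact (Submodule.mem_bot K).1 hv
  have hX3' : ∀ v, X (X (X v)) = v := fun v => by
    have := congrArg (fun f : Module.End K (Fi (ρ z)) => f v) hX3
    simpa only [pow_succ, Module.End.mul_apply, _root_.pow_zero, _root_.one_mul, _root_.Module.End.one_apply] using this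
  have hY3' : ∀ v, Y (Y (Y v)) = v := fun v => by
    have := congrArg (fun f : Module.End K (Fi (ρ z)) => f v) hY3
    simpa only [pow_succ, Module.End.mul_apply, _root_.pow_zero, _root_.one_mul, _root_.Module.End.one_apply] using this
  have hmem : (⟨v, hv⟩ : Fi (ρ z)) ∈ E3 (1 : Module.End K (Fi (ρ z))) X Y ω (0, 0, 0) := by
    refine decomp hω h3 hX3' ⊤ _ (fun _ _ => trivial) ?_ (v := (⟨v, hv⟩ : Fi (ρ z))) trivial
    intro a v _ hva
    refine decomp hω h3 hY3' (Ei X (ω ^ a.val)) _ ?_ ?_ (v := v) hva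
    · intro u hu
      rw [mem_Ei] at hu ⊢
      rw [← Module.End.mul_apply, hXY, Module.End.mul_apply, hu, map_smul]
    · intro b u hu hub
      by_cases hab : a = 0 ∧ b = 0
      · obtain ⟨rfl, rfl⟩ := hab
        rw [mem_E3]
        exact ⟨by rw [om_zero, Module.End.one_apply], hu, hub⟩
      · have : u = 0 := hzero a b (by
          by_contra hcon
          push Not at hcon
          exact hab hcon) u (by
            rw [mem_E3]
            exact ⟨by rw [om_zero, Module.End.one_apply], hu, hub⟩)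
        rw [this]; exact Submodule.zero_mem _
  rw [mem_E3, om_zero] at hmem
  exact ⟨congrArg Subtype.val hmem.2.1, congrArg Subtype.val hmem.2.2⟩

omit [FiniteDimensional K V] [IsAlgClosed K] in
include H in
theorem e_comm_s {s : G} (hs : s ∈ U) (v : V) :
    (ρ s v + ρ z (ρ s v) + ρ (z * z) (ρ s v)) = ρ s (v + ρ z v + ρ (z * z) v) := by
  obtain ⟨a, b, c, rfl⟩ := H.gen s hs
  have hx : ∀ k : ℕ, z * x ^ k = x ^ k * z := fun k => (Commute.pow_right (show Commute z x from H.zx) k)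
  have hy : ∀ k : ℕ, z * y ^ k = y ^ k * z := fun k => (Commute.pow_right (show Commute z y from H.zy) k)
  have hzz : ∀ k : ℕ, z * z ^ k = z ^ k * z := fun k => (Commute.pow_right (show Commute z z from rfl) k)
  have hc : z * (x ^ a * y ^ b * z ^ c) = (x ^ a * y ^ b * z ^ c) * z := by
    rw [← mul_assoc, ← mul_assoc, hx, mul_assoc (x ^ a), hy, ← mul_assoc, mul_assoc _ z, hzz, ← mul_assoc]
  generalize hg : x ^ a * y ^ b * z ^ c = g at hc
  rw [map_add, map_add, mul_app, mul_app, mul_app, mul_app, mul_assoc z, hc, ← mul_assoc, hc, mul_assoc]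

include H h3 in
theorem borel_cases (hz : ρ z ≠ 1) (hirr : ∀ L : Submodule K V, (∀ g, ∀ v ∈ L, ρ g v ∈ L) → L = ⊥ ∨ L = ⊤)
    (h12 : finrank K V ≤ 12) :
    (finrank K V = 7) ∨ (finrank K V = 8 ∧ ∀ v, ρ z v = v → ρ (h ^ 4) v = -v) ∨
      ((finrank K V = 6 ∨ finrank K V = 12) ∧ ∀ v, ρ z v = v → v = 0) := by
  obtain ⟨ω, w1, w2, w3⟩ := exists_omega h3
  have hω : Om ω := ⟨w1, w2, w3⟩
  have hT3 : (ρ z) ^ 3 = 1 := by rw [← map_pow, H.z3, map_one]
  have hT3' : ∀ v, ρ z (ρ z (ρ z v)) = v := by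
    intro v
    rw [mul_app, mul_app, ← pow_two, ← pow_succ, H.z3, map_one, Module.End.one_apply]
  have hinv : ∀ v, ρ h⁻¹ (ρ h v) = v := fun v => by
    rw [mul_app, inv_mul_cancel, map_one, Module.End.one_apply]
  -- dimensions
  have hsum : finrank K (Fi (ρ z)) + finrank K (Ei (ρ z) ω) + finrank K (Ei (ρ z) (ω ^ 2)) = finrank K V := by
    have := HeisLine.sum_eigen hT3 h3 w1 w2 w3
    rw [Fin.sum_univ_three] at this
    have e0 : (ρ z).eigenspace (ω ^ (0 : Fin 3).val) = Fi (ρ z) := by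
      ext v
      rw [Module.End.mem_eigenspace_iff, mem_Fi]
      change ρ z v = ω ^ 0 • v ↔ _
      rw [pow_zero, one_smul]
    have e1 : (ρ z).eigenspace (ω ^ (1 : Fin 3).val) = Ei (ρ z) ω := by
      ext v
      rw [Module.End.mem_eigenspace_iff, mem_Ei]
      change ρ z v = ω ^ 1 • v ↔ _
      rw [pow_one]
    have e2 : (ρ z).eigenspace (ω ^ (2 : Fin 3).val) = Ei (ρ z) (ω ^ 2) := by
      ext v
      rw [Module.End.mem_eigenspace_iff, mem_Ei]
      rfl
    rw [e0, e1, e2] at this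
    exact this
  have hsw : ∀ c : K, ∀ v, ρ z v = c • v → ρ z (ρ h v) = (c ^ 2) • ρ h v := by
    intro c v hv
    rw [mul_app, H.zh, ← mul_app, ← mul_app, hv, map_smul, hv, smul_smul, map_smul, pow_two]
  have d12 : finrank K (Ei (ρ z) ω) ≤ finrank K (Ei (ρ z) (ω ^ 2)) :=
    finrank_le_of_inj hinv (fun v hv => hsw _ _ hv)
  have d21 : finrank K (Ei (ρ z) (ω ^ 2)) ≤ finrank K (Ei (ρ z) ω) :=
    finrank_le_of_inj hinv (fun v hv => by
      rw [mem_Ei]
      refine (hsw _ _ hv).trans ?_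
      congr 1
      linear_combination ω * w3)
  have hstab : ∀ (u : G), z * u = u * z → ∀ v ∈ Ei (ρ z) ω, ρ u v ∈ Ei (ρ z) ω := by
    intro u hu v hv
    rw [mem_Ei] at hv ⊢
    rw [mul_app, hu, ← mul_app, hv, map_smul]
  have hdvd : 3 ∣ finrank K (Ei (ρ z) ω) := by
    have hp := HeisLine.pow_finrank ρ (z := z) H.xy (ω := ω) (Ei (ρ z) ω) (hstab x H.zx)
      (hstab x⁻¹ (Commute.inv_right (show Commute z x from H.zx))) (hstab y H.zy)
      (hstab y⁻¹ (Commute.inv_right (show Commute z y from H.zy))) (fun v hv => hv)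
    have ho : orderOf ω = 3 := orderOf_eq_prime w3 w2
    rw [← ho]
    exact orderOf_dvd_of_pow_eq_one hp
  have hpos : finrank K (Ei (ρ z) ω) ≠ 0 := by
    intro h0
    have h0' : finrank K (Ei (ρ z) (ω ^ 2)) = 0 := by omega
    apply hz
    ext v
    rw [Module.End.one_apply]
    have : v ∈ Fi (ρ z) := by
      refine decomp hω h3 hT3' ⊤ _ (fun _ _ => trivial) ?_ (v := v) trivial
      intro a v _ hva
      fin_cases a
      · rw [mem_Fi]
        rw [hva]; exact om_zero
      · have hm : v ∈ Ei (ρ z) ω := by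
          rw [mem_Ei, hva]; change ω ^ 1 • v = _; rw [pow_one]
        rw [Submodule.finrank_eq_zero.1 h0] at hm
        rw [(Submodule.mem_bot K).1 hm]; exact Submodule.zero_mem _
      · have hm : v ∈ Ei (ρ z) (ω ^ 2) := hva
        rw [Submodule.finrank_eq_zero.1 h0'] at hm
        rw [(Submodule.mem_bot K).1 hm]; exact Submodule.zero_mem _
    exact this
  obtain ⟨m, hm⟩ := hdvd
  by_cases hD0 : finrank K (Fi (ρ z)) = 0
  · right; right
    refine ⟨?_, ?_⟩
    · omega
    · intro v hv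
      have hm : v ∈ Fi (ρ z) := hv
      rw [Submodule.finrank_eq_zero.1 hD0] at hm
      exact (Submodule.mem_bot K).1 hm
  have hD6 : finrank K (Fi (ρ z)) ≤ 6 := by omega
  have hDge : finrank K (Fi (ρ z)) + 6 = finrank K V ∨ 12 < finrank K V := by omega
  have hDn : finrank K (Fi (ρ z)) + 6 = finrank K V := by (clear * - h12 hDge; omega)
  have hxy := fun v (hv : ρ z v = v) => xy_fix H ρ h3 (by omega) hv
  -- `U` fixes the fixed space
  have hU : ∀ u ∈ U, ∀ v, ρ z v = v → ρ u v = v := by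
    intro u hu v hv
    obtain ⟨a, b, c, rfl⟩ := H.gen u hu
    have hpow : ∀ g : G, ρ g v = v → ∀ k : ℕ, ρ (g ^ k) v = v := by
      intro g hg k
      induction k with
      | zero => rw [pow_zero, map_one, Module.End.one_apply]
      | succ k ih => rw [pow_succ, ← mul_app, hg, ih]
    rw [← mul_app, ← mul_app, hpow z hv, hpow y (hxy v hv).2, hpow x (hxy v hv).1]
  -- the projection
  let e : V → V := fun v => v + ρ z v + ρ (z * z) v
  have he_add : ∀ u v, e (u + v) = e u + e v := by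
    intro u v
    simp only [e, map_add]; abel
  have he_smul : ∀ (c : K) v, e (c • v) = c • e v := by
    intro c v
    simp only [e, map_smul, smul_add]
  have heD : ∀ v, ρ z (e v) = e v := by
    intro v
    simp only [e, map_add, mul_app]
    rw [← mul_assoc, ← pow_two, ← pow_succ, H.z3, map_one, Module.End.one_apply]
    abel
  have he3 : ∀ v, ρ z v = v → e v = (3 : K) • v := by
    intro v hv
    simp only [e]
    rw [← mul_app, hv, hv]
    module
  have hes : ∀ s ∈ U, ∀ v, e (ρ s v) = ρ s (e v) := fun s hs v => e_comm_s H ρ hs v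
  have heh : ∀ v, e (ρ h v) = ρ h (e v) := by
    intro v
    have a1 : ρ z (ρ h v) = ρ h (ρ (z * z) v) := by
      rw [mul_app, mul_app, H.zh]
    have a2 : ρ (z * z) (ρ h v) = ρ h (ρ z v) := by
      rw [mul_app, mul_app, mul_assoc, H.zh, ← mul_assoc, H.zh]
      have : h * (z * z) * (z * z) = h * z := by
        have hz4 : z * z * (z * z) = z := by
          rw [← pow_two z, ← pow_add, show 2 + 2 = 3 + 1 from rfl, pow_succ, H.z3, one_mul]
        rw [mul_assoc, hz4]
      rw [this]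
    simp only [e]
    rw [a1, a2, map_add, map_add]
    abel
  -- the span argument
  have key : ∀ v, v ≠ 0 → ρ z v = v → ∀ l : K, ρ h v = l • v → ∀ u ∈ Fi (ρ z), u ∈ Submodule.span K {v, e (ρ w v)} := by
    intro v hv0 hv l hl
    have hhk : ∀ k : ℕ, ρ (h ^ k) v = l ^ k • v := by
      intro k
      induction k with
      | zero => rw [pow_zero, map_one, Module.End.one_apply, pow_zero, one_smul]
      | succ k ih => rw [pow_succ, ← mul_app, hl, map_smul, ih, smul_smul, pow_succ, mul_comm]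
    have hB : ∀ b ∈ B, ∃ c : K, ρ b v = c • v := by
      intro b hb
      obtain ⟨u, hu, k, rfl⟩ := H.hB b hb
      exact ⟨l ^ k, by rw [← mul_app, hhk, map_smul, hU u hu v hv]⟩
    have hg : ∀ g : G, e (ρ g v) ∈ Submodule.span K {v, e (ρ w v)} := by
      intro g
      by_cases hgB : g ∈ B
      · obtain ⟨c, hc⟩ := hB g hgB
        rw [hc, he_smul, he3 v hv]
        exact Submodule.smul_mem _ _ (Submodule.smul_mem _ _ (Submodule.subset_span (Set.mem_insert _ _)))
      · obtain ⟨s, hs, hsg⟩ := H.data.bruhat g hgB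
        obtain ⟨c, hc⟩ := hB _ hsg
        have e1 : ρ g v = c • ρ s (ρ w v) := by
          have : g = s * w * ((s * w)⁻¹ * g) := by group
          rw [this, ← mul_app, hc, map_smul, mul_app]
        rw [e1, he_smul, hes s hs, hU s hs _ (heD _)]
        exact Submodule.smul_mem _ _ (Submodule.subset_span (Set.mem_insert_of_mem _ rfl))
    let L : Submodule K V := Submodule.span K (Set.range fun g => ρ g v)
    have hL : L = ⊤ := by
      rcases hirr L (by
        intro g u hu
        induction hu using Submodule.span_induction with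
        | mem u hu =>
          obtain ⟨g', rfl⟩ := hu
          exact Submodule.subset_span ⟨g * g', (mul_app ρ g g' v).symm⟩
        | zero => rw [map_zero]; exact Submodule.zero_mem _
        | add a b _ _ ha hb => rw [map_add]; exact Submodule.add_mem _ ha hb
        | smul c a _ ha => rw [map_smul]; exact Submodule.smul_mem _ _ ha) with h | h
      · exfalso
        apply hv0
        have : v ∈ L := Submodule.subset_span ⟨1, by change ρ 1 v = v; rw [map_one]; rfl⟩
        rw [h] at this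
        exact (Submodule.mem_bot K).1 this
      · exact h
    have hall : ∀ u, e u ∈ Submodule.span K {v, e (ρ w v)} := by
      intro u
      have hu : u ∈ L := by rw [hL]; trivial
      induction hu using Submodule.span_induction with
      | mem u hu => obtain ⟨g, rfl⟩ := hu; exact hg g
      | zero =>
        have : e 0 = 0 := by simp only [e, map_zero, add_zero]
        rw [this]; exact Submodule.zero_mem _
      | add a b _ _ ha hb => rw [he_add]; exact Submodule.add_mem _ ha hb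
      | smul c a _ ha => rw [he_smul]; exact Submodule.smul_mem _ _ ha
    intro u hu
    have := hall u
    rw [he3 u hu] at this
    exact (Submodule.smul_mem_iff _ h3).1 this
  have hhD : ∀ v ∈ Fi (ρ z), ρ h v ∈ Fi (ρ z) := by
    intro v hv
    rw [mem_Fi] at hv ⊢
    rw [mul_app, H.zh, ← mul_app, ← mul_app, hv, hv]
  have : Nontrivial (Fi (ρ z)) := Module.nontrivial_of_finrank_pos (R := K) (Nat.pos_of_ne_zero hD0)
  obtain ⟨l, hl⟩ := Module.End.exists_eigenvalue ((ρ h).restrict hhD)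
  obtain ⟨v, hv⟩ := hl.exists_hasEigenvector
  have hvl : ρ h (v : V) = l • (v : V) := congrArg Subtype.val hv.apply_eq_smul
  have hv0 : (v : V) ≠ 0 := fun h0 => hv.2 (Subtype.ext h0)
  have hvz : ρ z (v : V) = v := v.2
  have hspan := key v hv0 hvz l hvl
  have hw' : ρ h (e (ρ w (v : V))) = l ^ 5 • e (ρ w (v : V)) := by
    rw [← heh, mul_app, H.hw, ← mul_app]
    have hhk : ∀ k : ℕ, ρ (h ^ k) (v : V) = l ^ k • (v : V) := by
      intro k
      induction k with
      | zero => rw [pow_zero, map_one, Module.End.one_apply, pow_zero, one_smul]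
      | succ k ih => rw [pow_succ, ← mul_app, hvl, map_smul, ih, smul_smul, pow_succ, mul_comm]
    rw [hhk, map_smul, he_smul]
  have hl8 : l ^ 8 = 1 := by
    have hhk : ∀ k : ℕ, ρ (h ^ k) (v : V) = l ^ k • (v : V) := by
      intro k
      induction k with
      | zero => rw [pow_zero, map_one, Module.End.one_apply, pow_zero, one_smul]
      | succ k ih => rw [pow_succ, ← mul_app, hvl, map_smul, ih, smul_smul, pow_succ, mul_comm]
    have h8 := hhk 8
    rw [H.h8, map_one, Module.End.one_apply] at h8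
    have : (1 - l ^ 8) • (v : V) = 0 := by rw [sub_smul, one_smul, ← h8, sub_self]
    exact (sub_eq_zero.1 ((smul_eq_zero.1 this).resolve_right hv0)).symm
  by_cases hl4 : l ^ 4 = 1
  · -- `h` is the scalar `l` on the fixed space
    left
    have hscal : ∀ u ∈ Fi (ρ z), ρ h u = l • u := by
      intro u hu
      have := hspan u hu
      rw [Submodule.mem_span_pair] at this
      obtain ⟨a, b, rfl⟩ := this
      rw [map_add, map_smul, map_smul, hvl, hw', show l ^ 5 = l by linear_combination l * hl4,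
        smul_add l (a • (v : V)), smul_comm l a, smul_comm l b]
    let M : Module.End K (Fi (ρ z)) :=
      { toFun := fun u => ⟨e (ρ w (u : V)), heD _⟩
        map_add' := by
          intro a b
          apply Subtype.ext
          change e (ρ w ((a : V) + b)) = e (ρ w a) + e (ρ w b)
          rw [map_add, he_add]
        map_smul' := by
          intro c a
          apply Subtype.ext
          change e (ρ w (c • (a : V))) = c • e (ρ w a)
          rw [map_smul, he_smul] }
    obtain ⟨m', hm'⟩ := Module.End.exists_eigenvalue M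
    obtain ⟨v', hv'⟩ := hm'.exists_hasEigenvector
    have hv'l : e (ρ w (v' : V)) = m' • (v' : V) := congrArg Subtype.val hv'.apply_eq_smul
    have hv'0 : (v' : V) ≠ 0 := fun h0 => hv'.2 (Subtype.ext h0)
    have hle : Fi (ρ z) ≤ Submodule.span K {(v' : V)} := by
      intro u hu
      have := key v' hv'0 v'.2 l (hscal _ v'.2) u hu
      rw [hv'l, Submodule.mem_span_pair] at this
      obtain ⟨a, b, rfl⟩ := this
      rw [Submodule.mem_span_singleton]
      exact ⟨a + b * m', by rw [add_smul, mul_smul]⟩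
    have h1 : finrank K (Fi (ρ z)) ≤ 1 :=
      (Submodule.finrank_mono hle).trans (finrank_span_singleton hv'0).le
    (clear * - h12 hD0 hDn h1; omega)
  · have hl4' : l ^ 4 = -1 := by
      have : (l ^ 4 - 1) * (l ^ 4 + 1) = 0 := by linear_combination hl8
      rcases mul_eq_zero.1 this with h | h
      · exact absurd (sub_eq_zero.1 h) hl4
      · exact eq_neg_of_add_eq_zero_left h
    have hle : Fi (ρ z) ≤ Submodule.span K {(v : V), e (ρ w (v : V))} := hspan
    have h2' : finrank K (Fi (ρ z)) ≤ 2 := by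
      refine (Submodule.finrank_mono hle).trans ?_
      classical
      have := finrank_span_finset_le_card (R := K) ({(v : V), e (ρ w (v : V))} : Finset V)
      rw [Finset.coe_pair] at this
      exact this.trans Finset.card_le_two
    have h4 : ∀ u, ρ z u = u → ρ (h ^ 4) u = -u := by
      intro u hu
      have hpow : ∀ (c : K) (u : V), ρ h u = c • u → ρ (h ^ 4) u = c ^ 4 • u := by
        intro c u hc
        rw [show h ^ 4 = h * (h * (h * h)) by rw [pow_succ', pow_succ', pow_two], ← mul_app, ← mul_app, ← mul_app]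
        simp only [hc, map_smul, smul_smul]
        congr 1; ring
      have := hspan u hu
      rw [Submodule.mem_span_pair] at this
      obtain ⟨a, b, rfl⟩ := this
      have e5 : (l ^ 5) ^ 4 = -1 := by
        linear_combination (l^16 - l^12 + l^8 - l^4 + 1) * hl4'
      rw [map_add, map_smul, map_smul, hpow l _ hvl, hpow (l ^ 5) _ hw', hl4', e5]
      module
    rcases Nat.lt_or_ge (finrank K (Fi (ρ z))) 2 with h | h
    · left; (clear * - h12 hD0 hDn h; omega)
    · right; left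
      exact ⟨by omega, h4⟩

end D

end Cfsg.Agent.H659.U3
end

-- part: H659/U3Core
section
/-!
# Representations of `SU₃(3)` in characteristic ≠ 2, 3 in which no vector is fixed by `z` and `t`

`z` a transvection, `t` the central involution of the `SL₂(3)` that contains `z`.
-/

set_option autoImplicit false

namespace Cfsg.Agent.H659.U3

open Module
open Cfsg.Agent.H659.Sp4 (Om Fi Ei mem_Fi mem_Ei eq_zero_of_neg)

/-- the operators -/
structure Ops (K : Type*) [Field K] (V : Type*) [AddCommGroup V] [Module K V] where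
  z : Module.End K V
  τ : Module.End K V
  i : Module.End K V
  j : Module.End K V
  t : Module.End K V
  t1 : Module.End K V
  c : Module.End K V
  r : Module.End K V

variable {K : Type*} [Field K] {V : Type*} [AddCommGroup V] [Module K V]

/-- the relations -/
structure Rels (O : Ops K V) : Prop where
  zzz : ∀ v, O.z (O.z (O.z v)) = v
  τττ : ∀ v, O.τ (O.τ (O.τ v)) = v
  ii : ∀ v, O.i (O.i v) = O.t v
  jj : ∀ v, O.j (O.j v) = O.t v
  tt : ∀ v, O.t (O.t v) = v
  ji : ∀ v, O.j (O.i v) = O.t (O.i (O.j v))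
  zi : ∀ v, O.z (O.i v) = O.j (O.z v)
  jp : ∀ v, O.i (O.z (O.i (O.z (O.z v)))) = O.z (O.z (O.i (O.z v)))
  pj : ∀ v, O.z (O.i (O.z (O.z (O.i v)))) = O.t (O.z (O.z (O.i (O.z v))))
  iz : ∀ v, O.i (O.z v) = O.z (O.t (O.j (O.i v)))
  tz : ∀ v, O.t (O.z v) = O.z (O.t v)
  ti : ∀ v, O.t (O.i v) = O.i (O.t v)
  tj : ∀ v, O.t (O.j v) = O.j (O.t v)
  t1c : ∀ v, O.t1 v = O.c (O.i v)
  cz : ∀ v, O.c (O.z v) = O.z (O.c v)
  t1t : ∀ v, O.t1 (O.t v) = O.t (O.t1 v)
  t1t1 : ∀ v, O.t1 (O.t1 v) = v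
  τt : ∀ v, O.τ (O.t v) = O.t1 (O.τ v)
  τt1 : ∀ v, O.τ (O.t1 v) = O.t (O.t1 (O.τ v))
  iτ : ∀ v, O.i (O.τ v) = O.τ (O.r v)
  rr : ∀ v, O.r (O.r v) = O.t (O.t1 v)
  rt : ∀ v, O.r (O.t v) = O.t (O.r v)
  rz : ∀ v, O.r (O.z v) = O.z (O.z (O.j (O.r v)))
  iττ : ∀ v, O.i (O.τ (O.τ (O.i (O.r v)))) = O.τ (O.τ v)
  jτ : ∀ v, O.j (O.τ v) = O.τ (O.τ (O.t (O.j v)))
  jττ : ∀ v, O.j (O.τ (O.τ v)) = O.τ (O.r (O.r (O.j v)))

/-- irreducibility -/
def Irr (O : Ops K V) : Prop := ∀ W : Submodule K V, (∀ v ∈ W, O.z v ∈ W) → (∀ v ∈ W, O.τ v ∈ W) → W = ⊥ ∨ W = ⊤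

variable {O : Ops K V} (R : Rels O) (h2 : (2 : K) ≠ 0)

include R h2 in
/-- the quaternion group acts trivially on the fixed space of `t` -/
theorem i_fix (H : ∀ v, O.z v = v → O.t v = v → v = 0) {v : V} (hv : O.t v = v) : O.i v = v := by
  have rel : ∀ w, O.t w = w → w + O.z w + O.z (O.z w) = 0 := by
    intro w hw
    apply H
    · rw [map_add, map_add, R.zzz]; abel
    · rw [map_add, map_add, R.tz, R.tz, R.tz, hw]
  have c1 : ∀ w, O.t w = w → O.i w = -w → O.z (O.i (O.z (O.z w))) = w → w = 0 := by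
    intro w hw h1 h1'
    have e1 := rel w hw
    have e2 : O.z (O.z (O.i (O.z w))) = -w := by
      rw [← R.jp, h1', h1]
    have e3 : O.i (O.z w) = -O.z w := by
      have := congrArg O.z e2
      rw [R.zzz, map_neg] at this
      exact this
    have e4 : O.i (O.z (O.z w)) = O.z (O.z w) := by
      have := congrArg (fun u => O.z (O.z u)) h1'
      simp only [R.zzz] at this
      exact this
    have e5 := congrArg O.i e1
    rw [map_add, map_add, e3, e4, h1, map_zero] at e5
    have e6 : (2 : K) • O.z (O.z w) = 0 := by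
      have : (2 : K) • O.z (O.z w) = (w + O.z w + O.z (O.z w)) + (-w + -O.z w + O.z (O.z w)) := by module
      rw [this, e1, e5, add_zero]
    have e7 := (smul_eq_zero.1 e6).resolve_left h2
    have e8 := congrArg O.z e7
    rw [R.zzz, map_zero] at e8
    exact e8
  have c2 : ∀ w, O.t w = w → O.i w = -w → O.z (O.i (O.z (O.z w))) = -w → w = 0 := by
    intro w hw h1 h1'
    have e1 := rel w hw
    have e2 : O.z (O.z (O.i (O.z w))) = w := by
      rw [← R.jp, h1', map_neg, h1, neg_neg]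
    have e3 : O.i (O.z w) = O.z w := by
      have := congrArg O.z e2
      rw [R.zzz] at this
      exact this
    have e4 : O.i (O.z (O.z w)) = -O.z (O.z w) := by
      have := congrArg (fun u => O.z (O.z u)) h1'
      simp only [R.zzz, map_neg] at this
      exact this
    have e5 := congrArg O.i e1
    rw [map_add, map_add, e3, e4, h1, map_zero] at e5
    have e6 : (2 : K) • O.z w = 0 := by
      have : (2 : K) • O.z w = (w + O.z w + O.z (O.z w)) + (-w + O.z w + -O.z (O.z w)) := by module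
      rw [this, e1, e5, add_zero]
    have e7 := (smul_eq_zero.1 e6).resolve_left h2
    have e8 := congrArg (fun u => O.z (O.z u)) e7
    simp only [R.zzz, map_zero] at e8
    exact e8
  set w := v - O.i v with hw
  have hwt : O.t w = w := by rw [hw, map_sub, R.ti, hv]
  have hjw : O.i w = -w := by
    rw [hw, map_sub, R.ii, hv]; abel
  set w' := O.z (O.i (O.z (O.z w))) with hw'
  have hw't : O.t w' = w' := by rw [hw', R.tz, R.ti, R.tz, R.tz, hwt]
  have hjw' : O.i w' = -w' := by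
    have e1 : O.i w' = O.z (O.z (O.i (O.z w))) := R.jp w
    have e2 : O.z (O.i (O.z (O.z (O.i w)))) = O.t (O.z (O.z (O.i (O.z w)))) := R.pj w
    rw [← e1, R.ti, hw't, hjw, map_neg, map_neg, map_neg, map_neg] at e2
    exact e2.symm
  have hpw' : O.z (O.i (O.z (O.z w'))) = w := by
    rw [hw', R.zzz, R.ii, R.tz, R.tz, hwt, R.zzz]
  have hz1 : w + w' = 0 := by
    refine c1 _ (by rw [map_add, hwt, hw't]) ?_ ?_
    · rw [map_add, hjw, hjw']; abel
    · rw [map_add, map_add, map_add, map_add, hpw', ← hw']; abel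
  have hz2 : w - w' = 0 := by
    refine c2 _ (by rw [map_sub, hwt, hw't]) ?_ ?_
    · rw [map_sub, hjw, hjw']; abel
    · rw [map_sub, map_sub, map_sub, map_sub, hpw', ← hw']; abel
  have hz : w = 0 := by
    have : (2 : K) • w = 0 := by
      rw [show (2 : K) • w = (w + w') + (w - w') by module, hz1, hz2, add_zero]
    exact (smul_eq_zero.1 this).resolve_left h2
  exact (sub_eq_zero.1 hz).symm

include R in
theorem j_fix (Hi : ∀ v, O.t v = v → O.i v = v) {v : V} (hv : O.t v = v) : O.j v = v := by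
  have h1 := R.zi (O.z (O.z v))
  rw [R.zzz, Hi _ (by rw [R.tz, R.tz, hv]), R.zzz] at h1
  exact h1.symm

include R in
/-- the Klein four-group has no fixed vector -/
theorem E_fix (hI : Irr O) (hV : ∃ v : V, v ≠ 0) (H : ∀ v, O.z v = v → O.t v = v → v = 0)
    (Hi : ∀ v, O.t v = v → O.i v = v) {v : V} (hv : O.t v = v) (hv1 : O.t1 v = v) : v = 0 := by
  have hz : ∀ v ∈ Fi O.t ⊓ Fi O.t1, O.z v ∈ Fi O.t ⊓ Fi O.t1 := by
    rintro v ⟨(a1 : O.t v = v), (a2 : O.t1 v = v)⟩
    have b1 : O.t (O.z v) = O.z v := by rw [R.tz, a1]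
    refine Submodule.mem_inf.2 ⟨b1, ?_⟩
    rw [mem_Fi, R.t1c, Hi _ b1, R.cz]
    rw [R.t1c, Hi _ a1] at a2
    rw [a2]
  have hτ : ∀ v ∈ Fi O.t ⊓ Fi O.t1, O.τ v ∈ Fi O.t ⊓ Fi O.t1 := by
    rintro v ⟨(a1 : O.t v = v), (a2 : O.t1 v = v)⟩
    have b1 : O.t1 (O.τ v) = O.τ v := by rw [← R.τt, a1]
    refine Submodule.mem_inf.2 ⟨?_, b1⟩
    have b2 := R.τt1 v
    rw [a2, b1] at b2
    exact b2.symm
  rcases hI _ hz hτ with h | h
  · have : v ∈ Fi O.t ⊓ Fi O.t1 := Submodule.mem_inf.2 ⟨hv, hv1⟩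
    rw [h] at this
    exact (Submodule.mem_bot K).1 this
  · exfalso
    obtain ⟨u, hu⟩ := hV
    have ht : ∀ v, O.t v = v := fun v => by
      have : v ∈ Fi O.t ⊓ Fi O.t1 := by rw [h]; trivial
      exact this.1
    have hi : ∀ v, O.i v = v := fun v => Hi v (ht v)
    have hr : ∀ v, O.r v = v := fun v => by
      have h1 := R.iτ v
      rw [hi] at h1
      have h4 := congrArg (fun u => O.τ (O.τ u)) h1
      simp only [R.τττ] at h4
      exact h4.symm
    have hj : ∀ v, O.j v = v := fun v => j_fix R Hi (ht v)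
    have h1 := R.rz u
    rw [hr, hr, hj] at h1
    have h4 := congrArg (fun u => O.z (O.z u)) h1
    simp only [R.zzz] at h4
    exact hu (H u h4.symm (ht u))

/-- hypotheses that pass to direct sums -/
structure Hyp (O : Ops K V) : Prop where
  fi : ∀ v, O.t v = v → O.i v = v
  ft1 : ∀ v, O.t v = v → O.t1 v = -v

include R h2 in
theorem hyp_of (hI : Irr O) (hV : ∃ v : V, v ≠ 0) (H : ∀ v, O.z v = v → O.t v = v → v = 0) : Hyp O := by
  have Hi : ∀ v, O.t v = v → O.i v = v := fun v hv => i_fix R h2 H hv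
  refine ⟨Hi, fun v hv => ?_⟩
  have h0 : v + O.t1 v = 0 := by
    apply E_fix R hI hV H Hi
    · rw [map_add, ← R.t1t, hv]
    · rw [map_add, R.t1t1, add_comm]
  exact (neg_eq_of_add_eq_zero_right h0).symm

section F

variable (Hy : Hyp O)

include R Hy

/-- on the fixed space of `t1`, `t = -1` -/
theorem f1 {v : V} (hv : O.t1 v = v) : O.t v = -v := by
  have e1 := R.τt (O.τ (O.τ v))
  rw [R.τττ, hv] at e1
  have e2 : O.t (O.τ (O.τ v)) = O.τ (O.τ v) := by
    have := congrArg (fun u => O.τ (O.τ u)) e1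
    simp only [R.τττ] at this
    exact this
  have e3 := Hy.ft1 _ e2
  have e4 := R.τt1 (O.τ (O.τ v))
  rw [e3, map_neg, R.τττ, hv] at e4
  exact e4.symm

/-- on the fixed space of `t t1`, `t = -1` -/
theorem f2 {v : V} (hv : O.t (O.t1 v) = v) : O.t v = -v := by
  have e1 : O.t (O.τ v) = O.τ v := by
    have h1 := R.τt (O.t1 v)
    rw [hv, R.τt1, R.t1t, R.t1t1] at h1
    exact h1.symm
  have e3 := Hy.ft1 _ e1
  rw [← R.τt] at e3
  have := congrArg (fun u => O.τ (O.τ u)) e3
  simp only [R.τττ, map_neg] at this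
  exact this

theorem tτ {v : V} (hv : O.t v = v) : O.t (O.τ v) = -O.τ v := f1 R Hy (by rw [← R.τt, hv])

theorem tττ {v : V} (hv : O.t v = v) : O.t (O.τ (O.τ v)) = -O.τ (O.τ v) := by
  refine f2 R Hy ?_
  rw [← R.τt1, ← R.τt, hv]

include h2

theorem three_dvd [FiniteDimensional K V] : 3 ∣ finrank K V := by
  let F2 : Submodule K V := Fi (O.t * O.t1)
  have mF2 : ∀ v, v ∈ F2 ↔ O.t (O.t1 v) = v := fun v => Iff.rfl
  have d01 : finrank K (Fi O.t) ≤ finrank K (Fi O.t1) :=
    Sp4.finrank_le_of_inj (T := O.τ) (T' := O.τ * O.τ) R.τττ (fun v hv => by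
      rw [mem_Fi] at hv ⊢; rw [← R.τt, hv])
  have d12 : finrank K (Fi O.t1) ≤ finrank K F2 :=
    Sp4.finrank_le_of_inj (T := O.τ) (T' := O.τ * O.τ) R.τττ (fun v hv => by
      rw [mem_Fi] at hv; rw [mF2, ← R.τt1, hv])
  have d20 : finrank K F2 ≤ finrank K (Fi O.t) :=
    Sp4.finrank_le_of_inj (T := O.τ) (T' := O.τ * O.τ) R.τττ (fun v hv => by
      rw [mF2] at hv
      rw [mem_Fi]
      have h1 := R.τt (O.t1 v)
      rw [hv, R.τt1, R.t1t, R.t1t1] at h1
      exact h1.symm)
  have s1 : Ei O.t (-1) = Fi O.t1 ⊔ F2 := by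
    apply le_antisymm
    · intro u hu
      rw [mem_Ei, neg_one_smul] at hu
      have a1 : u + O.t1 u ∈ Fi O.t1 := by rw [mem_Fi, map_add, R.t1t1, add_comm]
      have a2 : u - O.t1 u ∈ F2 := by
        rw [mF2, map_sub, R.t1t1, map_sub, ← R.t1t, hu, map_neg]; abel
      have a3 : u = (2 : K)⁻¹ • (u + O.t1 u) + (2 : K)⁻¹ • (u - O.t1 u) := by
        rw [← smul_add]
        rw [eq_inv_smul_iff₀ h2]
        module
      rw [a3]
      exact Submodule.add_mem_sup (Submodule.smul_mem _ _ a1) (Submodule.smul_mem _ _ a2)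
    · refine sup_le ?_ ?_
      · intro v hv
        rw [mem_Ei, neg_one_smul]
        exact f1 R Hy hv
      · intro v hv
        rw [mem_Ei, neg_one_smul]
        exact f2 R Hy hv
  have s2 : Fi O.t1 ⊓ F2 = ⊥ := by
    rw [eq_bot_iff]
    rintro v ⟨(a1 : O.t1 v = v), (a2 : O.t (O.t1 v) = v)⟩
    have a3 := f1 R Hy a1
    rw [a1, a3] at a2
    rw [Submodule.mem_bot]
    exact eq_zero_of_neg h2 a2.symm
  have s3 : Fi O.t ⊔ Ei O.t (-1) = ⊤ := by
    rw [eq_top_iff]
    intro u _
    have a1 : u + O.t u ∈ Fi O.t := by rw [mem_Fi, map_add, R.tt, add_comm]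
    have a2 : u - O.t u ∈ Ei O.t (-1) := by
      rw [mem_Ei, neg_one_smul, map_sub, R.tt]; abel
    have a3 : u = (2 : K)⁻¹ • (u + O.t u) + (2 : K)⁻¹ • (u - O.t u) := by
      rw [← smul_add]
      rw [eq_inv_smul_iff₀ h2]
      module
    rw [a3]
    exact Submodule.add_mem_sup (Submodule.smul_mem _ _ a1) (Submodule.smul_mem _ _ a2)
  have s4 : Fi O.t ⊓ Ei O.t (-1) = ⊥ := by
    rw [eq_bot_iff]
    rintro v ⟨(a1 : O.t v = v), (a2 : O.t v = (-1 : K) • v)⟩
    rw [neg_one_smul] at a2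
    rw [Submodule.mem_bot]
    exact eq_zero_of_neg h2 (a1.symm.trans a2)
  have e1 := Submodule.finrank_sup_add_finrank_inf_eq (Fi O.t1) F2
  have e2 := Submodule.finrank_sup_add_finrank_inf_eq (Fi O.t) (Ei O.t (-1))
  rw [← s1, s2, finrank_bot] at e1
  rw [s3, s4, finrank_bot, finrank_top] at e2
  exact ⟨finrank K (Fi O.t), by omega⟩

omit h2 Hy in
/-- `(A')` -/
theorem rel_A (hq : ∀ v, O.z (O.z v) = -v - O.z v) {w : V} (hw : O.t w = -w) :
    O.z (O.j w + O.i (O.j w)) = w - O.i (O.j w) := by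
  have hji : ∀ v, O.t v = -v → O.i (O.z v) = -O.z (O.j (O.i v)) := by
    intro v hv
    rw [R.iz, R.tj, R.ti, hv, map_neg, map_neg, map_neg]
  have ti : O.t (O.i w) = -O.i w := by rw [R.ti, hw, map_neg]
  set v := -O.i w with hv
  have hvt : O.t v = -v := by rw [hv, map_neg, ti]
  have hiv : O.i v = w := by rw [hv, map_neg, R.ii, hw, neg_neg]
  have e1 : O.i (O.z (O.z v)) = O.z (O.j (O.z (O.j w))) := by
    rw [hji (O.z v) (by rw [R.tz, hvt, map_neg]), hji v hvt, hiv, map_neg, map_neg, neg_neg]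
  have e2 : O.i (O.z (O.z v)) = -w + O.z (O.j w) := by
    rw [hq, map_sub, map_neg, hji v hvt, hiv]; abel
  have e3 : O.z (O.j (O.z (O.j w))) = -O.i (O.j w) - O.z (O.i (O.j w)) := by
    rw [← R.zi, hq]
  rw [map_add]
  have e4 := e1.symm.trans e2
  rw [e3] at e4
  have : O.z (O.j w) = -O.i (O.j w) - O.z (O.i (O.j w)) + w := by rw [e4]; abel
  rw [this]; abel

omit Hy in
/-- `z` on the `-1`-eigenspace of `t` -/
theorem z_eq (hq : ∀ v, O.z (O.z v) = -v - O.z v) {x : V} (hx : O.t x = -x) :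
    O.z x = (-(2 : K)⁻¹) • (x + O.i x + O.j x + O.i (O.j x)) := by
  have tj : O.t (O.j x) = -O.j x := by rw [R.tj, hx, map_neg]
  have tij : O.t (O.i (O.j x)) = -O.i (O.j x) := by rw [R.ti, tj, map_neg]
  have e := rel_A R hq (w := O.j x + O.i (O.j x)) (by rw [map_add, tj, tij]; abel)
  have j1 : O.j (O.i (O.j x)) = O.i x := by
    rw [R.ji, R.jj, hx, map_neg, map_neg, R.ti, hx, map_neg, neg_neg]
  have j2 : O.j (O.j x + O.i (O.j x)) = -x + O.i x := by rw [map_add, R.jj, hx, j1]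
  rw [j2] at e
  have i1 : O.i (-x + O.i x) = -O.i x - x := by rw [map_add, map_neg, R.ii, hx]; abel
  rw [i1] at e
  have e2 : O.z ((-(2 : K)) • x) = x + O.i x + O.j x + O.i (O.j x) := by
    have h5 : (-(2 : K)) • x = -x + O.i x + (-O.i x - x) := by module
    rw [h5, e]; abel
  rw [← e2, map_smul, smul_smul]
  rw [show (-(2 : K)⁻¹) * -2 = 1 by field_simp, one_smul]

/-- the closing lemma -/
theorem close (hq : ∀ v, O.z (O.z v) = -v - O.z v) {v : V} (hv : O.t v = v) {l : K} (hl : l * l = -1)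
    (hr : O.r v = l • v) : ∃ W : Submodule K V, v ∈ W ∧ finrank K W ≤ 6 ∧ (∀ w ∈ W, O.z w ∈ W) ∧
      (∀ w ∈ W, O.τ w ∈ W) := by
  have hjf : ∀ u, O.t u = u → O.j u = u := fun u hu => j_fix R Hy.fi hu
  set v' := O.z v + (2 : K)⁻¹ • v with hv'
  have tv' : O.t v' = v' := by rw [hv', map_add, map_smul, R.tz, hv]
  have rv' : O.r v' = (-l) • v' := by
    rw [hv', map_add, map_smul, R.rz, hr, map_smul, map_smul, map_smul, hjf v hv, hq]
    match_scalars <;> field_simp <;> ring
  have zv : O.z v = v' - (2 : K)⁻¹ • v := by rw [hv']; abel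
  have zv' : O.z v' = (-(4 : K)⁻¹ * 3) • v - (2 : K)⁻¹ • v' := by
    have h4 : (4 : K) ≠ 0 := by
      have : (4 : K) = 2 * 2 := by norm_num
      rw [this]; exact mul_ne_zero h2 h2
    rw [hv', map_add, map_smul, hq, ← sub_eq_zero]
    have : -v - O.z v + (2 : K)⁻¹ • O.z v - ((-(4 : K)⁻¹ * 3) • v - (2 : K)⁻¹ • (O.z v + (2 : K)⁻¹ • v)) = 0 := by
      match_scalars <;> field_simp <;> ring
    exact this
  -- the images under `τ`
  have key : ∀ (u : V) (m : K), O.t u = u → O.r u = m • u → m * m = -1 → ∀ W : Submodule K V, O.τ u ∈ W →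
      O.τ (O.τ u) ∈ W → O.z (O.τ u) ∈ W ∧ O.z (O.τ (O.τ u)) ∈ W := by
    intro u m hu hru hm W m1 m2
    have hm0 : m ≠ 0 := by
      rintro rfl
      rw [zero_mul] at hm
      exact one_ne_zero (neg_eq_zero.1 hm.symm)
    have a1 : O.i (O.τ u) = m • O.τ u := by rw [R.iτ, hru, map_smul]
    have a2 : O.i (O.τ (O.τ u)) = (-m) • O.τ (O.τ u) := by
      have e := R.iττ u
      rw [hru, map_smul, map_smul, map_smul, map_smul, Hy.fi u hu] at e
      have e2 : (-m) • m • O.i (O.τ (O.τ u)) = (-m) • O.τ (O.τ u) := by rw [e]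
      rw [smul_smul, show -m * m = 1 by linear_combination -hm, one_smul] at e2
      exact e2
    have a3 : O.j (O.τ u) = O.τ (O.τ u) := by rw [R.jτ, hjf u hu, hu]
    have a4 : O.j (O.τ (O.τ u)) = -O.τ u := by
      rw [R.jττ, hjf u hu, hru, map_smul, hru, smul_smul, hm, neg_one_smul, map_neg]
    constructor
    · rw [z_eq R h2 hq (tτ R Hy hu), a3, a1, a2]
      exact W.smul_mem _ (W.add_mem (W.add_mem (W.add_mem m1 (W.smul_mem _ m1)) m2) (W.smul_mem _ m2))
    · rw [z_eq R h2 hq (tττ R Hy hu), a4, a2, map_neg, a1]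
      exact W.smul_mem _ (W.add_mem (W.add_mem (W.add_mem m2 (W.smul_mem _ m2)) (W.neg_mem m1))
        (W.neg_mem (W.smul_mem _ m1)))
  let S : Set V := {v, v', O.τ v, O.τ v', O.τ (O.τ v), O.τ (O.τ v')}
  have i0 : v ∈ Submodule.span K S := Submodule.subset_span (by simp only [S, _root_.Set.mem_insert_iff, _root_.Set.mem_singleton_iff, _root_.true_or])
  have i1 : v' ∈ Submodule.span K S := Submodule.subset_span (by simp only [S, _root_.Set.mem_insert_iff, _root_.Set.mem_singleton_iff, _root_.true_or, _root_.or_true])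
  have i2 : O.τ v ∈ Submodule.span K S := Submodule.subset_span (by simp only [S, _root_.Set.mem_insert_iff, _root_.Set.mem_singleton_iff, _root_.true_or, _root_.or_true])
  have i3 : O.τ v' ∈ Submodule.span K S := Submodule.subset_span (by simp only [S, _root_.Set.mem_insert_iff, _root_.Set.mem_singleton_iff, _root_.true_or, _root_.or_true])
  have i4 : O.τ (O.τ v) ∈ Submodule.span K S := Submodule.subset_span (by simp only [S, _root_.Set.mem_insert_iff, _root_.Set.mem_singleton_iff, _root_.true_or, _root_.or_true])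
  have i5 : O.τ (O.τ v') ∈ Submodule.span K S := Submodule.subset_span (by simp only [S, _root_.Set.mem_insert_iff, _root_.Set.mem_singleton_iff, _root_.or_true])
  have keyS : ∀ T : Module.End K V, (∀ w ∈ S, T w ∈ Submodule.span K S) →
      ∀ w ∈ Submodule.span K S, T w ∈ Submodule.span K S := by
    intro T hT w hw
    have : Submodule.span K S ≤ (Submodule.span K S).comap T := Submodule.span_le.2 hT
    exact this hw
  have k1 := key v l hv hr hl _ i2 i4
  have k2 := key v' (-l) tv' rv' (by rw [neg_mul_neg]; exact hl) _ i3 i5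
  refine ⟨Submodule.span K S, i0, ?_, ?_, ?_⟩
  · classical
    have hS : S = (({v, v', O.τ v, O.τ v', O.τ (O.τ v), O.τ (O.τ v')} : Finset V) : Set V) := by simp only [S, _root_.Finset.coe_insert, _root_.Finset.coe_singleton]
    rw [hS]
    refine (finrank_span_finset_le_card _).trans ?_
    exact Finset.card_le_six
  · refine keyS O.z ?_
    rintro w (rfl | rfl | rfl | rfl | rfl | rfl)
    · rw [zv]; exact Submodule.sub_mem _ i1 (Submodule.smul_mem _ _ i0)
    · rw [zv']; exact Submodule.sub_mem _ (Submodule.smul_mem _ _ i0) (Submodule.smul_mem _ _ i1)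
    · exact k1.1
    · exact k2.1
    · exact k1.2
    · exact k2.2
  · refine keyS O.τ ?_
    rintro w (rfl | rfl | rfl | rfl | rfl | rfl)
    · exact i2
    · exact i3
    · exact i4
    · exact i5
    · rw [R.τττ]; exact i0
    · rw [R.τττ]; exact i1

/-- an eigenvector -/
theorem exists_vec (h3 : (3 : K) ≠ 0) (hq : ∀ v, O.z (O.z v) = -v - O.z v) (hV : ∃ v : V, v ≠ 0) {l : K}
    (hl : l * l = -1) : ∃ v : V, v ≠ 0 ∧ O.t v = v ∧ O.r v = l • v := by
  have hjf : ∀ u, O.t u = u → O.j u = u := fun u hu => j_fix R Hy.fi hu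
  -- a non-zero vector fixed by `t`
  obtain ⟨u, hu0, hu⟩ : ∃ u : V, u ≠ 0 ∧ O.t u = u := by
    obtain ⟨w, hw⟩ := hV
    by_contra hcon
    push Not at hcon
    have A0 : ∀ u, O.t u = u → u = 0 := fun u hu => by
      by_contra h; exact hcon u h hu
    have A1 : ∀ u, O.t1 u = u → u = 0 := by
      intro u hu
      have e1 : O.t (O.τ (O.τ u)) = O.τ (O.τ u) := by
        have h1 := R.τt (O.τ (O.τ u))
        rw [R.τττ, hu] at h1
        have := congrArg (fun u => O.τ (O.τ u)) h1
        simp only [R.τττ] at this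
        exact this
      have e2 := A0 _ e1
      have := congrArg O.τ e2
      rw [R.τττ, map_zero] at this
      exact this
    have ht : ∀ u, O.t u = -u := fun u => by
      have := A0 (u + O.t u) (by rw [map_add, R.tt, add_comm])
      exact (neg_eq_of_add_eq_zero_right this).symm
    have ht1 : ∀ u, O.t1 u = -u := fun u => by
      have := A1 (u + O.t1 u) (by rw [map_add, R.t1t1, add_comm])
      exact (neg_eq_of_add_eq_zero_right this).symm
    have e := f2 R Hy (v := w) (by rw [ht1, map_neg, ht, neg_neg])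
    have h6 := R.τt1 w
    rw [ht1, ht1, map_neg, map_neg, ht, neg_neg] at h6
    have h7 : O.τ w = 0 := eq_zero_of_neg h2 h6.symm
    have := congrArg (fun u => O.τ (O.τ u)) h7
    simp only [R.τττ, map_zero] at this
    exact hw this
  have hrr : O.r (O.r u) = -u := by rw [R.rr, Hy.ft1 u hu, map_neg, hu]
  by_cases hw : O.r u + l • u = 0
  · have hru : O.r u = (-l) • u := by rw [neg_smul]; exact eq_neg_of_add_eq_zero_left hw
    refine ⟨O.z u + (2 : K)⁻¹ • u, ?_, by rw [map_add, map_smul, R.tz, hu], ?_⟩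
    · intro h0
      have e1 : O.z u = (-(2 : K)⁻¹) • u := by rw [neg_smul]; exact eq_neg_of_add_eq_zero_left h0
      have e2 := R.zzz u
      rw [e1, map_smul, map_smul, e1, map_smul, e1, smul_smul, smul_smul] at e2
      have e3 : ((9 : K) * (8 : K)⁻¹) • u = 0 := by
        have h8 : (8 : K) ≠ 0 := by
          have : (8 : K) = 2 * 2 * 2 := by norm_num
          rw [this]; exact mul_ne_zero (mul_ne_zero h2 h2) h2
        have : ((9 : K) * (8 : K)⁻¹) • u = u - (-(2 : K)⁻¹ * -(2 : K)⁻¹ * -(2 : K)⁻¹) • u := by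
          match_scalars
          field_simp
          norm_num
        rw [this, e2, sub_self]
      have h8 : (8 : K) ≠ 0 := by
        have : (8 : K) = 2 * 2 * 2 := by norm_num
        rw [this]; exact mul_ne_zero (mul_ne_zero h2 h2) h2
      have h9 : (9 : K) ≠ 0 := by
        have : (9 : K) = 3 * 3 := by norm_num
        rw [this]; exact mul_ne_zero h3 h3
      exact hu0 ((smul_eq_zero.1 e3).resolve_left (mul_ne_zero h9 (inv_ne_zero h8)))
    · rw [map_add, map_smul, R.rz, hru, map_smul, map_smul, map_smul, hjf u hu, hq]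
      match_scalars <;> field_simp <;> ring
  · refine ⟨_, hw, by rw [map_add, map_smul, ← R.rt, hu], ?_⟩
    rw [map_add, map_smul, hrr, smul_add, smul_smul, hl, neg_one_smul, add_comm]

end F

end Cfsg.Agent.H659.U3
end

-- part: H659/U3Inst
section
/-!
# The group `SU₃(3)` over the explicit field with nine elements; its generators and relations
-/

set_option autoImplicit false

namespace Cfsg.Agent.H659.U3

open Module Cfsg.Agent.ChevalleyStructure.NineField Cfsg.Agent.UThreeGen.MatGroup Cfsg.Agent.H906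
open scoped Matrix

/-- conjugation of `F₉` -/
def σ9 : F9 →+* F9 where
  toFun x := ⟨x.re, -x.im⟩
  map_one' := by decide +kernel
  map_mul' := by decide +kernel
  map_zero' := by decide +kernel
  map_add' := by decide +kernel

instance fact9 : Fact (∀ x, σ9 (σ9 x) = x) := ⟨by decide +kernel⟩

theorem σ9_pow (x : F9) : σ9 x = x ^ 3 := by revert x; decide +kernel

/-- the group -/
abbrev SU := SUG σ9

/-- an element of `SU₃(3)` from its matrix -/
def mkg (M : Matrix (Fin 3) (Fin 3) F9) (hd : M.det = 1) (h : Mᵀ * Gm F9 * M.map σ9 = Gm F9) : SU := ⟨⟨M, hd⟩, h⟩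

/-- `z` in the Heisenberg group -/
def z0 : HG σ9 := ⟨0, ⟨0, 1⟩, by decide +kernel⟩
/-- `x` in the Heisenberg group -/
def x0 : HG σ9 := ⟨1, ⟨2, 0⟩, by decide +kernel⟩
/-- `y` in the Heisenberg group -/
def y0 : HG σ9 := ⟨⟨0, 1⟩, ⟨2, 0⟩, by decide +kernel⟩
/-- a generator of the multiplicative group -/
def a0 : F9ˣ := ⟨⟨1, 1⟩, ⟨2, 1⟩, by decide +kernel, by decide +kernel⟩

/-- `z` -/
def zG : SU := emb σ9 z0
/-- `x` -/
def xG : SU := emb σ9 x0
/-- `y` -/
def yG : SU := emb σ9 y0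
/-- `h` -/
def hG : SU := tor σ9 a0
/-- `w` -/
def wG : SU := wel σ9
/-- `i` -/
def iG : SU := mkg !![⟨1, 0⟩, ⟨0, 0⟩, ⟨0, 1⟩; ⟨0, 0⟩, ⟨1, 0⟩, ⟨0, 0⟩; ⟨0, 2⟩, ⟨0, 0⟩, ⟨2, 0⟩]
  (by rw [Matrix.det_fin_three]; decide +kernel) (by decide +kernel)
/-- `τ` -/
def τG : SU := mkg !![⟨1, 0⟩, ⟨0, 1⟩, ⟨2, 2⟩; ⟨0, 1⟩, ⟨0, 0⟩, ⟨1, 1⟩; ⟨2, 1⟩, ⟨2, 1⟩, ⟨2, 0⟩]
  (by rw [Matrix.det_fin_three]; decide +kernel) (by decide +kernel)
/-- `j` -/
def jG : SU := mkg !![⟨2, 0⟩, ⟨0, 0⟩, ⟨0, 1⟩; ⟨0, 0⟩, ⟨1, 0⟩, ⟨0, 0⟩; ⟨0, 2⟩, ⟨0, 0⟩, ⟨1, 0⟩]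
  (by rw [Matrix.det_fin_three]; decide +kernel) (by decide +kernel)
/-- `t1` -/
def t1G : SU := mkg !![⟨0, 2⟩, ⟨0, 0⟩, ⟨1, 0⟩; ⟨0, 0⟩, ⟨2, 0⟩, ⟨0, 0⟩; ⟨2, 0⟩, ⟨0, 0⟩, ⟨0, 1⟩]
  (by rw [Matrix.det_fin_three]; decide +kernel) (by decide +kernel)
/-- `r` -/
def rG : SU := mkg !![⟨0, 0⟩, ⟨0, 0⟩, ⟨1, 1⟩; ⟨0, 0⟩, ⟨0, 1⟩, ⟨0, 0⟩; ⟨2, 2⟩, ⟨0, 0⟩, ⟨1, 2⟩]
  (by rw [Matrix.det_fin_three]; decide +kernel) (by decide +kernel)
/-- `c` -/
def cG : SU := mkg !![⟨0, 2⟩, ⟨0, 0⟩, ⟨0, 0⟩; ⟨0, 0⟩, ⟨2, 0⟩, ⟨0, 0⟩; ⟨0, 0⟩, ⟨0, 0⟩, ⟨0, 2⟩]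
  (by rw [Matrix.det_fin_three]; decide +kernel) (by decide +kernel)
/-- `t` -/
def tG : SU := mkg !![⟨2, 0⟩, ⟨0, 0⟩, ⟨0, 0⟩; ⟨0, 0⟩, ⟨1, 0⟩, ⟨0, 0⟩; ⟨0, 0⟩, ⟨0, 0⟩, ⟨2, 0⟩]
  (by rw [Matrix.det_fin_three]; decide +kernel) (by decide +kernel)
/-- an auxiliary element -/
def dG : SU := mkg !![⟨2, 0⟩, ⟨0, 0⟩, ⟨0, 0⟩; ⟨2, 2⟩, ⟨1, 0⟩, ⟨0, 0⟩; ⟨2, 2⟩, ⟨1, 2⟩, ⟨2, 0⟩]
  (by rw [Matrix.det_fin_three]; decide +kernel) (by decide +kernel)

theorem se {a b : SU} (h : a.1.1 = b.1.1) : a = b := Subtype.ext (Subtype.ext h)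

theorem gen0 : ∀ a b : F9, b + σ9 b = a * σ9 a → ∃ i j k : Fin 3,
    (x0 ^ i.val * y0 ^ j.val * z0 ^ k.val).a = a ∧ (x0 ^ i.val * y0 ^ j.val * z0 ^ k.val).b = b := by
  decide +kernel

theorem pow0 : ∀ x : F9, x ≠ 0 → ∃ k : Fin 8, x = (⟨1, 1⟩ : F9) ^ k.val := by decide +kernel

theorem bd : BD (_root_.Cfsg.Agent.UThreeGen.MatGroup.borel σ9) (emb σ9).range zG xG yG hG wG where
  data := data_SUG
  hB b hb := by
    obtain ⟨u, hu, a, rfl⟩ := borel_eq b hb
    obtain ⟨k, hk⟩ := pow0 a a.ne_zero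
    refine ⟨u, hu, k, ?_⟩
    have : a = a0 ^ k.val := Units.ext (by rw [Units.val_pow_eq_pow_val]; exact hk)
    rw [this, map_pow]
    rfl
  gen u hu := by
    obtain ⟨u, rfl⟩ := hu
    obtain ⟨i, j, k, h1, h2⟩ := gen0 u.a u.b u.h
    refine ⟨i, j, k, ?_⟩
    have : u = x0 ^ i.val * y0 ^ j.val * z0 ^ k.val := HG.ext h1.symm h2.symm
    rw [this, map_mul, map_mul, map_pow, map_pow, map_pow]
    rfl
  xU := ⟨x0, rfl⟩
  yU := ⟨y0, rfl⟩
  z3 := by rw [pow_succ, pow_two]; exact se (by decide +kernel)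
  x3 := by rw [pow_succ, pow_two]; exact se (by decide +kernel)
  y3 := by rw [pow_succ, pow_two]; exact se (by decide +kernel)
  xy := se (by decide +kernel)
  zx := se (by decide +kernel)
  zy := se (by decide +kernel)
  zh := se (by decide +kernel)
  xh := se (by decide +kernel)
  yh := se (by decide +kernel)
  hw := by
    have : wG * hG ^ 5 = wG * (hG * hG * (hG * hG) * hG) := by
      simp only [pow_succ, pow_zero, one_mul, mul_assoc]
    rw [this]; exact se (by decide +kernel)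
  h8 := by
    have : hG ^ 8 = (hG * hG) * (hG * hG) * ((hG * hG) * (hG * hG)) := by
      simp only [pow_succ, pow_zero, one_mul, mul_assoc]
    rw [this]; exact se (by decide +kernel)

theorem h4 : hG ^ 4 = tG := by
  have : hG ^ 4 = (hG * hG) * (hG * hG) := by
    simp only [pow_succ, pow_zero, one_mul, mul_assoc]
  rw [this]; exact se (by decide +kernel)

section ops

variable {K : Type*} [Field K] {V : Type*} [AddCommGroup V] [Module K V]

/-- the operators of a representation -/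
def ops (ρ : SU →* Module.End K V) : Ops K V where
  z := ρ zG
  τ := ρ τG
  i := ρ iG
  j := ρ jG
  t := ρ tG
  t1 := ρ t1G
  c := ρ cG
  r := ρ rG

variable (ρ : SU →* Module.End K V)

theorem e_of {a b : SU} (h : a = b) (v : V) : ρ a v = ρ b v := by rw [h]

theorem e_one {a : SU} (h : a = 1) (v : V) : ρ a v = v := by rw [h, map_one, Module.End.one_apply]

theorem rels : Rels (ops ρ) where
  zzz v := by simp only [ops, mul_app]; exact e_one ρ (se (by decide +kernel)) v
  τττ v := by simp only [ops, mul_app]; exact e_one ρ (se (by decide +kernel)) v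
  ii v := by simp only [ops, mul_app]; exact e_of ρ (se (by decide +kernel)) v
  jj v := by simp only [ops, mul_app]; exact e_of ρ (se (by decide +kernel)) v
  tt v := by simp only [ops, mul_app]; exact e_one ρ (se (by decide +kernel)) v
  ji v := by simp only [ops, mul_app]; exact e_of ρ (se (by decide +kernel)) v
  zi v := by simp only [ops, mul_app]; exact e_of ρ (se (by decide +kernel)) v
  jp v := by simp only [ops, mul_app]; exact e_of ρ (se (by decide +kernel)) v
  pj v := by simp only [ops, mul_app]; exact e_of ρ (se (by decide +kernel)) v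
  iz v := by simp only [ops, mul_app]; exact e_of ρ (se (by decide +kernel)) v
  tz v := by simp only [ops, mul_app]; exact e_of ρ (se (by decide +kernel)) v
  ti v := by simp only [ops, mul_app]; exact e_of ρ (se (by decide +kernel)) v
  tj v := by simp only [ops, mul_app]; exact e_of ρ (se (by decide +kernel)) v
  t1c v := by simp only [ops, mul_app]; exact e_of ρ (se (by decide +kernel)) v
  cz v := by simp only [ops, mul_app]; exact e_of ρ (se (by decide +kernel)) v
  t1t v := by simp only [ops, mul_app]; exact e_of ρ (se (by decide +kernel)) v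
  t1t1 v := by simp only [ops, mul_app]; exact e_one ρ (se (by decide +kernel)) v
  τt v := by simp only [ops, mul_app]; exact e_of ρ (se (by decide +kernel)) v
  τt1 v := by simp only [ops, mul_app]; exact e_of ρ (se (by decide +kernel)) v
  iτ v := by simp only [ops, mul_app]; exact e_of ρ (se (by decide +kernel)) v
  rr v := by simp only [ops, mul_app]; exact e_of ρ (se (by decide +kernel)) v
  rt v := by simp only [ops, mul_app]; exact e_of ρ (se (by decide +kernel)) v
  rz v := by simp only [ops, mul_app]; exact e_of ρ (se (by decide +kernel)) v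
  iττ v := by simp only [ops, mul_app]; exact e_of ρ (se (by decide +kernel)) v
  jτ v := by simp only [ops, mul_app]; exact e_of ρ (se (by decide +kernel)) v
  jττ v := by simp only [ops, mul_app]; exact e_of ρ (se (by decide +kernel)) v

end ops

/-- `SU₃(3)` is generated by `z`, `τ` -/
theorem gen_zτ (S : Subgroup SU) (hz : zG ∈ S) (hτ : τG ∈ S) : S = ⊤ := by
  have hd : dG ∈ S := by
    have e : dG = zG * τG * (zG * τG) * (zG * τG * τG) := se (by decide +kernel)
    rw [e]
    exact S.mul_mem (S.mul_mem (S.mul_mem hz hτ) (S.mul_mem hz hτ)) (S.mul_mem (S.mul_mem hz hτ) hτ)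
  have hi : iG ∈ S := by
    have e : iG = dG * dG * zG := se (by decide +kernel)
    rw [e]
    exact S.mul_mem (S.mul_mem hd hd) hz
  have ht : tG ∈ S := by
    have e : tG = iG * iG := se (by decide +kernel)
    rw [e]
    exact S.mul_mem hi hi
  have hj : jG ∈ S := by
    have e : jG = zG * iG * (zG * zG) := se (by decide +kernel)
    rw [e]
    exact S.mul_mem (S.mul_mem hz hi) (S.mul_mem hz hz)
  have ht1 : t1G ∈ S := by
    have e : t1G = τG * tG * (τG * τG) := se (by decide +kernel)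
    rw [e]
    exact S.mul_mem (S.mul_mem hτ ht) (S.mul_mem hτ hτ)
  have hr : rG ∈ S := by
    have e : rG = τG * τG * (iG * τG) := se (by decide +kernel)
    rw [e]
    exact S.mul_mem (S.mul_mem hτ hτ) (S.mul_mem hi hτ)
  have hh : hG ∈ S := by
    have e : hG = t1G * (zG * rG) := se (by decide +kernel)
    rw [e]
    exact S.mul_mem ht1 (S.mul_mem hz hr)
  have hw : wG ∈ S := by
    have e : wG = t1G * jG := se (by decide +kernel)
    rw [e]
    exact S.mul_mem ht1 hj
  have hy : yG ∈ S := by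
    have e : yG = rG * τG * (zG * τG) * (zG * τG * (rG * τG)) := se (by decide +kernel)
    rw [e]
    exact S.mul_mem (S.mul_mem (S.mul_mem hr hτ) (S.mul_mem hz hτ))
      (S.mul_mem (S.mul_mem hz hτ) (S.mul_mem hr hτ))
  have hx : xG ∈ S := by
    have e : hG * (xG * xG) = yG * hG * (zG * (yG * yG)) := se (by decide +kernel)
    have e2 : xG = hG⁻¹ * (yG * hG * (zG * (yG * yG))) * (hG⁻¹ * (yG * hG * (zG * (yG * yG)))) := by
      rw [← e, inv_mul_cancel_left]
      exact se (by decide +kernel)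
    rw [e2]
    have := S.mul_mem (S.inv_mem hh) (S.mul_mem (S.mul_mem hy hh) (S.mul_mem hz (S.mul_mem hy hy)))
    exact S.mul_mem this this
  rw [eq_top_iff, ← closure_SUG (σ := σ9) (by
    have : ∀ b : F9, ∃ a : F9, b + σ9 b = a * σ9 a := by decide +kernel
    intro b
    obtain ⟨a, ha⟩ := this b
    exact ⟨⟨a, b, ha⟩, rfl⟩), Subgroup.closure_le]
  rintro g (hg | hg)
  · obtain ⟨a, b, c, rfl⟩ := bd.gen g hg
    exact S.mul_mem (S.mul_mem (S.pow_mem hx _) (S.pow_mem hy _)) (S.pow_mem hz _)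
  · rw [Set.mem_singleton_iff] at hg
    rw [hg]; exact hw

/-- a subspace invariant under `z`, `τ` is invariant -/
theorem inv_of_zτ {K : Type*} [Field K] {V : Type*} [AddCommGroup V] [Module K V] [FiniteDimensional K V]
    (ρ : SU →* Module.End K V) (W : Submodule K V) (hz : ∀ v ∈ W, (ops ρ).z v ∈ W)
    (hτ : ∀ v ∈ W, (ops ρ).τ v ∈ W) (g : SU) : ∀ v ∈ W, ρ g v ∈ W := by
  have key : ∀ g : SU, (∀ v ∈ W, ρ g v ∈ W) → ∀ v ∈ W, ρ g⁻¹ v ∈ W := by
    intro g hg v hv
    have h1 : W.map (ρ g) = W := by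
      apply Submodule.eq_of_le_of_finrank_eq
      · rintro _ ⟨w, hw, rfl⟩; exact hg w hw
      · exact (Submodule.equivMapOfInjective (ρ g) (H912.Bd.rho_injective ρ g) _).finrank_eq.symm
    rw [← h1] at hv
    obtain ⟨w, hw, rfl⟩ := hv
    rw [mul_app, inv_mul_cancel, map_one, Module.End.one_apply]
    exact hw
  let S : Subgroup SU :=
    { carrier := {g | ∀ v ∈ W, ρ g v ∈ W}
      mul_mem' := by
        intro a b ha hb v hv
        rw [← mul_app]
        exact ha _ (hb v hv)
      one_mem' := by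
        intro v hv
        rw [map_one, Module.End.one_apply]; exact hv
      inv_mem' := by
        intro a ha
        exact key a ha }
  have hS := gen_zτ S hz hτ
  have : g ∈ S := by rw [hS]; exact Subgroup.mem_top g
  exact this

end Cfsg.Agent.H659.U3
end

-- part: H659/U3Stage
section
/-!
# LOWDIM T5: cores with simple group `PSU₃(3)` in degree ≤ 12, characteristic ≠ 2, 3

`u33_stage` : `Core P`, `Soc P ≃* PSU 3 K 3`, `|K| = 9`, `p ≠ 2, 3`, `n ≤ 12` ⟹ `P` has no scalars and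
`n = 6`, `SD P`, `Fr P p`, or `n = 7` and (`SD P` or (`Fr P p` if `p = 1 mod 4`, `Cj P p` if `p = 3 mod 4`)).
-/

set_option autoImplicit false

namespace Cfsg.Agent.H659.U3

open Module Ac

section degrees

variable {K : Type*} [Field K] [IsAlgClosed K] {V : Type*} [AddCommGroup V] [Module K V] [FiniteDimensional K V]
  (ρ : SU →* Module.End K V) (h2 : (2 : K) ≠ 0) (h3 : (3 : K) ≠ 0)
  (hirr : ∀ L : Submodule K V, (∀ g, ∀ v ∈ L, ρ g v ∈ L) → L = ⊥ ∨ L = ⊤)

include hirr in
omit [IsAlgClosed K] in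
theorem irr_of : Irr (ops ρ) := fun W hz hτ => hirr W (inv_of_zτ ρ W hz hτ)

include hirr in
theorem z_ne_one (hn : 2 ≤ finrank K V) : ρ zG ≠ 1 := by
  intro h
  have : Nontrivial V := Module.nontrivial_of_finrank_pos (R := K) (by omega)
  obtain ⟨l, hl⟩ := Module.End.exists_eigenvalue (ρ τG)
  obtain ⟨v, hv⟩ := hl.exists_hasEigenvector
  have hv0 : v ≠ 0 := hv.2
  have hvl : ρ τG v = l • v := hv.apply_eq_smul
  have hle : finrank K (Submodule.span K {v}) ≤ 1 := (finrank_span_singleton hv0).le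
  rcases hirr (Submodule.span K {v}) (inv_of_zτ ρ _ (by
      intro u hu
      change ρ zG u ∈ _
      rw [h]; exact hu) (by
      intro u hu
      obtain ⟨c, rfl⟩ := Submodule.mem_span_singleton.1 hu
      change ρ τG (c • v) ∈ _
      rw [map_smul, hvl]
      exact Submodule.smul_mem _ _ (Submodule.smul_mem _ _ (Submodule.mem_span_singleton_self v)))) with h1 | h1
  · apply hv0
    have : v ∈ Submodule.span K {v} := Submodule.mem_span_singleton_self v
    rw [h1] at this
    exact (Submodule.mem_bot K).1 this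
  · rw [h1, finrank_top] at hle
    omega

omit [IsAlgClosed K] [FiniteDimensional K V] in
theorem hq_of (H : ∀ v, ρ zG v = v → v = 0) (v : V) : (ops ρ).z ((ops ρ).z v) = -v - (ops ρ).z v := by
  have h1 : v + ρ zG v + ρ zG (ρ zG v) = 0 := by
    apply H
    have h4 : ρ zG (ρ zG (ρ zG v)) = v := (rels ρ).zzz v
    rw [map_add, map_add, h4]
    abel
  change ρ zG (ρ zG v) = -v - ρ zG v
  rw [eq_sub_iff_add_eq, eq_neg_iff_add_eq_zero, ← h1]
  abel

include h2 h3 hirr

theorem degrees (hn : 2 ≤ finrank K V) (h12 : finrank K V ≤ 12) :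
    finrank K V = 7 ∨ (finrank K V = 6 ∧ ∀ v, ρ zG v = v → v = 0) := by
  have : Nontrivial V := Module.nontrivial_of_finrank_pos (R := K) (by omega)
  have hV : ∃ v : V, v ≠ 0 := exists_ne 0
  have hI := irr_of ρ hirr
  rcases borel_cases bd ρ h3 (z_ne_one ρ hirr hn) hirr h12 with h | ⟨h8, h⟩ | ⟨h, h0⟩
  · exact Or.inl h
  · exfalso
    have Hy : Hyp (ops ρ) := hyp_of (rels ρ) h2 hI hV (by
      intro v hz ht
      have h5 := h v hz
      rw [h4] at h5
      have h6 : ρ tG v = v := ht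
      rw [h6] at h5
      exact Sp4.eq_zero_of_neg h2 h5)
    have := three_dvd (rels ρ) h2 Hy
    rw [h8] at this
    omega
  · right
    refine ⟨?_, h0⟩
    rcases h with h | h
    · exact h
    · exfalso
      have Hy : Hyp (ops ρ) := hyp_of (rels ρ) h2 hI hV (fun v hz _ => h0 v hz)
      obtain ⟨l, hl⟩ := IsAlgClosed.exists_pow_nat_eq (-1 : K) (n := 2) (by norm_num)
      rw [pow_two] at hl
      have hq := hq_of ρ h0
      obtain ⟨v, hv0, hv, hr⟩ := exists_vec (rels ρ) h2 Hy h3 hq hV hl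
      obtain ⟨W, hW, hW6, hz, hτ⟩ := close (rels ρ) h2 Hy hq hv hl hr
      rcases hI W hz hτ with h1 | h1
      · rw [h1] at hW
        exact hv0 ((Submodule.mem_bot K).1 hW)
      · rw [h1, finrank_top, h] at hW6
        omega

omit h2 h3 hirr

theorem iso_of_six {V₂ : Type*} [AddCommGroup V₂] [Module K V₂] [FiniteDimensional K V₂]
    (ρ₂ : SU →* Module.End K V₂) (h2 : (2 : K) ≠ 0) (h3 : (3 : K) ≠ 0)
    (h₁ : ∀ L : Submodule K V, (∀ g, ∀ v ∈ L, ρ g v ∈ L) → L = ⊥ ∨ L = ⊤)
    (h₂ : ∀ L : Submodule K V₂, (∀ g, ∀ v ∈ L, ρ₂ g v ∈ L) → L = ⊥ ∨ L = ⊤)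
    (e₁ : finrank K V = 6) (e₂ : finrank K V₂ = 6) :
    ∃ e : V ≃ₗ[K] V₂, ∀ g w, e (ρ g w) = ρ₂ g (e w) := by
  have f₁ : ∀ v, ρ zG v = v → v = 0 := by
    rcases degrees ρ h2 h3 h₁ (by omega) (by omega) with h | h
    · omega
    · exact h.2
  have f₂ : ∀ v, ρ₂ zG v = v → v = 0 := by
    rcases degrees ρ₂ h2 h3 h₂ (by omega) (by omega) with h | h
    · omega
    · exact h.2
  have : Nontrivial V := Module.nontrivial_of_finrank_pos (R := K) (by omega)
  have : Nontrivial V₂ := Module.nontrivial_of_finrank_pos (R := K) (by omega)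
  have hV₁ : ∃ v : V, v ≠ 0 := exists_ne 0
  have hV₂ : ∃ v : V₂, v ≠ 0 := exists_ne 0
  have Hy₁ : Hyp (ops ρ) := hyp_of (rels ρ) h2 (irr_of ρ h₁) hV₁ (fun v hz _ => f₁ v hz)
  have Hy₂ : Hyp (ops ρ₂) := hyp_of (rels ρ₂) h2 (irr_of ρ₂ h₂) hV₂ (fun v hz _ => f₂ v hz)
  have hq₁ := hq_of ρ f₁
  have hq₂ := hq_of ρ₂ f₂
  obtain ⟨l, hl⟩ := IsAlgClosed.exists_pow_nat_eq (-1 : K) (n := 2) (by norm_num)
  rw [pow_two] at hl
  obtain ⟨v₁, a1, a2, a3⟩ := exists_vec (rels ρ) h2 Hy₁ h3 hq₁ hV₁ hl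
  obtain ⟨v₂, b1, b2, b3⟩ := exists_vec (rels ρ₂) h2 Hy₂ h3 hq₂ hV₂ hl
  obtain ⟨W, hW, hW6, hz, hτ⟩ := close (rels (prodRep ρ ρ₂)) h2
    ⟨fun v hv => Prod.ext (Hy₁.fi v.1 (congrArg Prod.fst hv)) (Hy₂.fi v.2 (congrArg Prod.snd hv)),
      fun v hv => Prod.ext (Hy₁.ft1 v.1 (congrArg Prod.fst hv)) (Hy₂.ft1 v.2 (congrArg Prod.snd hv))⟩
    (fun v => Prod.ext (hq₁ v.1) (hq₂ v.2)) (v := (v₁, v₂)) (Prod.ext a2 b2) hl (Prod.ext a3 b3)
  exact exists_iso ρ ρ₂ h₁ h₂ e₁ e₂ W (inv_of_zτ _ W hz hτ) hW6 hW a1 b1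

end degrees

section frob

open Cfsg Cfsg.Geo Matrix

variable {F : Type*} [Field F] {ι : Type} [Fintype ι] [DecidableEq ι]

/-- semilinear image of a spanning set -/
theorem span_map (f : F ≃+* F) {P : Subgroup (GL ι F)} (hs : Submodule.span F (matrixSet P) = ⊤) :
    Submodule.span F (matrixSet (P.map (Matrix.GeneralLinearGroup.map (n := ι) (f : F →+* F)))) = ⊤ := by
  have key : ∀ M ∈ Submodule.span F (matrixSet P),
      M.map f ∈ Submodule.span F (matrixSet (P.map (Matrix.GeneralLinearGroup.map (n := ι) (f : F →+* F)))) := by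
    intro M hM
    induction hM using Submodule.span_induction with
    | mem x hx =>
      obtain ⟨g, hg, rfl⟩ := hx
      exact Submodule.subset_span ⟨_, ⟨g, hg, rfl⟩, rfl⟩
    | zero =>
      have : ((0 : Matrix ι ι F)).map f = 0 := by ext i j; simp
      rw [this]
      exact Submodule.zero_mem _
    | add a b _ _ ha hb =>
      have : (a + b).map f = a.map f + b.map f := by ext i j; simp only [_root_.Matrix.map_apply, _root_.Matrix.add_apply, _root_.map_add]
      rw [this]
      exact Submodule.add_mem _ ha hb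
    | smul c a _ ha =>
      have : (c • a).map f = f c • a.map f := by ext i j; simp
      rw [this]
      exact Submodule.smul_mem _ _ ha
  rw [eq_top_iff]
  rintro M -
  have h1 := key (M.map f.symm) (by rw [hs]; trivial)
  have h4 : (M.map f.symm).map f = M := by ext i j; simp
  rwa [h4] at h1

end frob

section main

open Cfsg Cfsg.Geo Matrix Cfsg.Agent.H915.LD Cfsg.Agent.ChevalleyStructure.NineField

variable {ι : Type} [Fintype ι] [DecidableEq ι] {F : Type*} [Field F] [Finite F] {P : Subgroup (GL ι F)}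

/-- **Cores of type `PSU₃(3)`, degree ≤ 12, characteristic ≠ 2, 3.** -/
theorem u33_stage (hC : Core P) (p : ℕ) [hp : Fact p.Prime] [CharP F p] (hp2 : p ≠ 2) (hp3 : p ≠ 3)
    (hn : Fintype.card ι ≤ 12) {k : Type*} [Field k] [Fintype k] (hk : Fintype.card k = 9)
    (e : Soc P ≃* PSU 3 k 3) :
    (scalars ι F).subgroupOf P = ⊥ ∧
    ((Fintype.card ι = 6 ∧ SD P ∧ Fr P p) ∨
      (Fintype.card ι = 7 ∧ (SD P ∨ ((p % 4 = 1 → Fr P p) ∧ (p % 4 = 3 → Cj P p))))) := by
  classical
  have hn2 := hC.two_le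
  let e0 : k ≃+* F9 := FiniteField.ringEquivOfCardEq (hk.trans F9.card_F9.symm)
  let E : Soc P ≃* PSU 3 F9 3 := e.trans (Cfsg.Agent.LieClassical.FieldTransfer.psuCongr 3 3 e0)
  let π : P →* PSU 3 F9 3 := E.toMonoidHom.comp (toSoc P)
  have hπ : Function.Surjective π := E.surjective.comp (toSoc_surjective P)
  have hker : π.ker = (scalars ι F).subgroupOf P := ker_comp E
  have hkc : π.ker ≤ Subgroup.center P := by rw [hker]; exact scalars_le_center
  have hM : HasCyclicSchurMultiplier (PSU 3 F9 3) 1 :=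
    Cfsg.Agent.S2089.result 3 3 (by rw [F9.card_F9]; norm_num) le_rfl (by norm_num) (by simp)
  have hπi : Function.Injective π := H95.StemCover.injective_of_trivial hM hC.commutator_top π hπ hkc
  have hbot : (scalars ι F).subgroupOf P = ⊥ := by
    rw [← hker, MonoidHom.ker_eq_bot_iff]; exact hπi
  refine ⟨hbot, ?_⟩
  let E' : P ≃* PSU 3 F9 3 := MulEquiv.ofBijective π ⟨hπi, hπ⟩
  have hcF : Nat.card F9 = 3 ^ 2 := by rw [Nat.card_eq_fintype_card, F9.card_F9]; norm_num
  obtain ⟨q, hqs, -⟩ := H906.exists_psu_hom (σ := σ9) (m := 3) (by norm_num) σ9_pow hcF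
  let φ' : SU →* GL ι F := P.subtype.comp (E'.symm.toMonoidHom.comp q)
  have hrange : φ'.range = P := by
    ext g
    constructor
    · rintro ⟨w, rfl⟩
      exact (E'.symm (q w)).2
    · intro hg
      obtain ⟨w, hw⟩ := hqs (E' ⟨g, hg⟩)
      refine ⟨w, ?_⟩
      change ((E'.symm (q w) : P) : GL ι F) = g
      rw [hw, MulEquiv.symm_apply_apply]
  have hs := H920.span_eq_top hC.absIrred
  let A := AlgebraicClosure F
  have hinj : Function.Injective (algebraMap F A) := (algebraMap F A).injective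
  have hne : ∀ q : ℕ, q.Prime → q ≠ p → (q : A) ≠ 0 := by
    intro q hq hqp h0
    have h4 : ((q : ℕ) : F) = 0 := by
      apply hinj
      rw [map_natCast, map_zero, h0]
    rw [CharP.cast_eq_zero_iff F p] at h4
    exact hqp ((Nat.prime_dvd_prime_iff_eq hp.out hq).1 h4).symm
  have h2 : (2 : A) ≠ 0 := by exact_mod_cast hne 2 Nat.prime_two (Ne.symm hp2)
  have h3 : (3 : A) ≠ 0 := by exact_mod_cast hne 3 Nat.prime_three (Ne.symm hp3)
  have irr₁ := rp_irr A φ' hrange hs
  have irr₂ := rd_irr A φ' hrange hs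
  have hfr : Module.finrank A (ι → A) = Fintype.card ι := Module.finrank_fintype_fun_eq_card A
  have D₁ := degrees (rp A φ') h2 h3 irr₁ (by rw [hfr]; exact hn2) (by rw [hfr]; exact hn)
  rw [hfr] at D₁
  rcases D₁ with h7 | ⟨h6, -⟩
  · right
    refine ⟨h7, ?_⟩
    let f : ι ≃ Fin 7 := Fintype.equivFinOfCardEq h7
    let ρ7 : PSU 3 F9 3 →* GL (Fin 7) F :=
      (H464.Sl2.reGL f).toMonoidHom.comp (P.subtype.comp E'.symm.toMonoidHom)
    have hr7 : ρ7.range = P.map (H464.Sl2.reGL f).toMonoidHom := by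
      ext g
      constructor
      · rintro ⟨w, rfl⟩
        exact ⟨_, (E'.symm w).2, rfl⟩
      · rintro ⟨g, hg, rfl⟩
        refine ⟨E' ⟨g, hg⟩, ?_⟩
        change H464.Sl2.reGL f ((E'.symm (E' ⟨g, hg⟩) : P) : GL ι F) = H464.Sl2.reGL f g
        rw [MulEquiv.symm_apply_apply]
    have habs := H464.Sl2.absIrr_reGL f hC.absIrred
    rw [← hr7] at habs
    have htr : ∀ (g : GL ι F) (hg : g ∈ P),
        ((ρ7 (E' ⟨g, hg⟩) : GL (Fin 7) F) : Matrix (Fin 7) (Fin 7) F).trace = tr g := by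
      intro g hg
      change ((H464.Sl2.reGL f ((E'.symm (E' ⟨g, hg⟩) : P) : GL ι F) : GL (Fin 7) F) :
        Matrix (Fin 7) (Fin 7) F).trace = tr g
      rw [MulEquiv.symm_apply_apply, H464.Sl2.trace_reGL]
      rfl
    have hinv : ∀ (g : GL ι F) (hg : g ∈ P), (E' ⟨g, hg⟩)⁻¹ = E' ⟨g⁻¹, P.inv_mem hg⟩ := by
      intro g hg
      rw [← map_inv]
      rfl
    rcases SevenU33.seven_U33 p hp3 F9.card_F9 ρ7 habs with h | ⟨-, ha, hb⟩
    · left
      intro g hg
      have h4 := h (E' ⟨g, hg⟩)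
      rw [hinv, htr, htr] at h4
      exact h4
    · right
      refine ⟨fun h4 g hg => ?_, fun h4 g hg => ?_⟩
      · have h5 := ha h4 (E' ⟨g, hg⟩)
        rw [htr] at h5
        exact h5
      · have h5 := hb h4 (E' ⟨g, hg⟩)
        rw [hinv, htr, htr] at h5
        exact h5.symm
  · left
    have hsd : SD P := by
      obtain ⟨f, hf⟩ := iso_of_six (rp A φ') (rd A φ') h2 h3 irr₁ irr₂ (by rw [hfr]; exact h6)
        (by rw [hfr]; exact h6)
      intro g hg
      obtain ⟨w, hw⟩ : ∃ w, φ' w = g := by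
        have : g ∈ φ'.range := by rw [hrange]; exact hg
        exact this
      have h7 := trace_eq_of_iso (rp A φ') (rd A φ') hf w
      rw [trace_rp, trace_rd] at h7
      have h8 := hinj h7
      rw [map_inv, hw] at h8
      exact h8.symm
    refine ⟨h6, hsd, ?_⟩
    have : PerfectRing F p := PerfectRing.ofFiniteOfIsReduced p F
    let fr : F ≃+* F := frobeniusEquiv F p
    let φF : SU →* GL ι F := (Matrix.GeneralLinearGroup.map (n := ι) (fr : F →+* F)).comp φ'
    have hrF : φF.range = P.map (Matrix.GeneralLinearGroup.map (n := ι) (fr : F →+* F)) := by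
      rw [← hrange, MonoidHom.range_comp]
    have irr₃ := rp_irr A φF hrF (span_map fr hs)
    obtain ⟨f, hf⟩ := iso_of_six (rp A φ') (rp A φF) h2 h3 irr₁ irr₃ (by rw [hfr]; exact h6)
      (by rw [hfr]; exact h6)
    intro g hg
    obtain ⟨w, hw⟩ : ∃ w, φ' w = g := by
      have : g ∈ φ'.range := by rw [hrange]; exact hg
      exact this
    have h7 := trace_eq_of_iso (rp A φ') (rp A φF) hf w
    rw [trace_rp, trace_rp] at h7
    have h8 := hinj h7
    have h9 : ((φF w : GL ι F) : Matrix ι ι F).trace = fr ((φ' w : GL ι F) : Matrix ι ι F).trace := by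
      change (((φ' w : GL ι F) : Matrix ι ι F).map fr).trace = _
      exact (AddMonoidHom.map_trace fr ((φ' w : GL ι F) : Matrix ι ι F)).symm
    rw [h9, hw] at h8
    exact h8.symm

end main

end Cfsg.Agent.H659.U3
end

private theorem dce_50b5254abf87 : _root_.True := by
  try have : _root_.True := by simp only [_root_.Cfsg.Agent.H659.U3.ops.eq_1]
  exact _root_.True.intro
end

-- part: H936/U33All
section
set_option linter.all false

/-!
# `U₃(3)` in degree at most 12, every characteristic `≠ 3`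

`u33_all`: the degree is 6 (self-dual, traces in the prime field), or 7 (`p ≠ 2`).
-/

set_option autoImplicit false

universe u v

namespace Cfsg.Agent.H936.U33All

open Cfsg Cfsg.Geo Cfsg.Agent.H915.LD

variable {ι : Type} [Fintype ι] [DecidableEq ι] {F : Type u} [Field F] [Finite F] {P : Subgroup (GL ι F)}

/-- **`U₃(3)`, `p ≠ 3`, degree at most 12.** -/
theorem u33_all (hC : Core P) (p : ℕ) [hp : Fact p.Prime] [CharP F p] (hp3 : p ≠ 3)
    (hn : Fintype.card ι ≤ 12) {K : Type v} [Field K] [Fintype K] (hK : Fintype.card K = 9)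
    (e : Nonempty (Soc P ≃* PSU 3 K 3)) :
    (Fintype.card ι = 6 ∧ SD P ∧ Fr P p) ∨
      (p ≠ 2 ∧ Fintype.card ι = 7 ∧ (SD P ∨ ((p % 4 = 1 → Fr P p) ∧ (p % 4 = 3 → Cj P p)))) := by
  by_cases hp2 : p = 2
  · subst hp2
    exact Or.inl (H936.U33Two.u33_two hC hK e (by omega))
  · have : Fintype F := Fintype.ofFinite F
    obtain ⟨e⟩ := e
    rcases (H659.U3.u33_stage hC p hp2 hp3 hn hK e).2 with h | ⟨h1, h2⟩
    · exact Or.inl h
    · exact Or.inr ⟨hp2, h1, h2⟩

/-- the degree is 6 or 7 -/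
theorem u33_degree (hC : Core P) (p : ℕ) [hp : Fact p.Prime] [CharP F p] (hp3 : p ≠ 3)
    (hn : Fintype.card ι ≤ 12) {K : Type v} [Field K] [Fintype K] (hK : Fintype.card K = 9)
    (e : Nonempty (Soc P ≃* PSU 3 K 3)) : Fintype.card ι = 6 ∨ Fintype.card ι = 7 := by
  rcases u33_all hC p hp3 hn hK e with h | h
  · exact Or.inl h.1
  · exact Or.inr h.2.1

end Cfsg.Agent.H936.U33All
end
end
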